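/-
Non-solvable groups whose Sylow 2-subgroups meet in rank at most one (S3310; owners: helper31, helper72).

* `RankMeet G` : distinct Sylow 2-subgroups meet in 2-rank at most one.
* `NoQuatSylow G` : no Sylow 2-subgroup is quaternion.
* `Hyp X` : the hypotheses for a group with trivial odd core.
* `ThreeFam L` : PSL(2,2ⁿ), Sz, PSU(3,2ⁿ).
* `ConclA X`, `ConclB X` : the two alternatives; `MainBelow n` : the theorem below order `n`.
-/
import Mathlib.LinearAlgebra.Matrix.ProjectiveSpecialLinearGroup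
import Mathlib.GroupTheory.SpecificGroups.Quaternion
import Mathlib.GroupTheory.SpecificGroups.Cyclic
import Cfsg.Prelude.Def_CaseTheorems
import Cfsg.Prelude.Def_Sz
import Cfsg.Agent.EqLemmas

set_option autoImplicit false
set_option linter.dupNamespace false

namespace Cfsg.Agent.RankMeet

open Cfsg

universe u

/-- Distinct Sylow 2-subgroups meet in rank at most one. -/
def RankMeet (G : Type*) [Group G] : Prop :=
  ∀ S T : Sylow 2 G, S ≠ T → Cfsg.PRankLE 2 1 ↥((S : Subgroup G) ⊓ (T : Subgroup G))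

/-- No Sylow 2-subgroup is quaternion, ordinary or generalized. -/
def NoQuatSylow (G : Type*) [Group G] : Prop :=
  ∀ S : Sylow 2 G, ∀ n : ℕ, IsEmpty (↥(S : Subgroup G) ≃* QuaternionGroup (2 ^ (n + 1)))

/-- The hypotheses with trivial odd core. -/
structure Hyp (X : Type*) [Group X] : Prop where
  core : Cfsg.oddCore X = ⊥
  nonsolvable : ¬ Group.IsSolvable X
  meet : RankMeet X
  noncyclic : ∃ S T : Sylow 2 X, S ≠ T ∧ ¬ IsCyclic ↥((S : Subgroup X) ⊓ (T : Subgroup X))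
  noQuat : NoQuatSylow X

/-- The three families with a strongly embedded subgroup. -/
def ThreeFam (L : Type*) [Group L] : Prop :=
  (∃ (n : ℕ) (F : Type) (_ : Field F) (_ : Fintype F), 2 ≤ n ∧ Fintype.card F = 2 ^ n ∧
      Nonempty (L ≃* Matrix.ProjectiveSpecialLinearGroup (Fin 2) F)) ∨
  (∃ (m : ℕ) (F : Type) (_ : Field F) (_ : Fintype F), 1 ≤ m ∧ Fintype.card F = 2 ^ (2 * m + 1) ∧
      Nonempty (L ≃* ↥(Cfsg.Lie.Sz F (2 ^ (m + 1))))) ∨
  (∃ (n : ℕ) (F : Type) (_ : Field F) (_ : Fintype F), 2 ≤ n ∧ Fintype.card F = 4 ^ n ∧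
      Nonempty (L ≃* Cfsg.PSU 3 F (2 ^ n)))

theorem ThreeFam.congr {L M : Type*} [Group L] [Group M] (h : ThreeFam L) (e : M ≃* L) :
    ThreeFam M := by
  rcases h with ⟨n, F, i1, i2, h1, h2, ⟨f⟩⟩ | ⟨n, F, i1, i2, h1, h2, ⟨f⟩⟩ | ⟨n, F, i1, i2, h1, h2, ⟨f⟩⟩
  · exact Or.inl ⟨n, F, i1, i2, h1, h2, ⟨e.trans f⟩⟩
  · exact Or.inr (Or.inl ⟨n, F, i1, i2, h1, h2, ⟨e.trans f⟩⟩)
  · exact Or.inr (Or.inr ⟨n, F, i1, i2, h1, h2, ⟨e.trans f⟩⟩)

/-- The 2-core is quaternion and the group over it is of one of the three families, up to odd index. -/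
def ConclA (X : Type*) [Group X] : Prop :=
  ∃ (X₁ : Subgroup X) (_ : X₁.Normal), Odd X₁.index ∧ Cfsg.pCore 2 X ≤ X₁ ∧
    (∃ n : ℕ, Nonempty (↥(Cfsg.pCore 2 X) ≃* QuaternionGroup (2 ^ (n + 1)))) ∧
    ThreeFam (↥X₁ ⧸ (Cfsg.pCore 2 X).subgroupOf X₁)

/-- The central product of two copies of SL(2,5), up to index odd or twice odd. -/
def ConclB (X : Type*) [Group X] : Prop :=
  Nat.card (Cfsg.pCore 2 X) = 2 ∧
  ∃ (X₁ : Subgroup X) (_ : X₁.Normal),
    (Odd X₁.index ∨ ∃ k : ℕ, Odd k ∧ X₁.index = 2 * k) ∧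
    ∃ (Z : Subgroup (Matrix.SpecialLinearGroup (Fin 2) (ZMod 5) × Matrix.SpecialLinearGroup (Fin 2) (ZMod 5)))
      (_ : Z.Normal),
      Z = Subgroup.zpowers ((-1 : Matrix.SpecialLinearGroup (Fin 2) (ZMod 5)), (-1 : Matrix.SpecialLinearGroup (Fin 2) (ZMod 5))) ∧
      Nonempty (↥X₁ ≃*
        (Matrix.SpecialLinearGroup (Fin 2) (ZMod 5) × Matrix.SpecialLinearGroup (Fin 2) (ZMod 5)) ⧸ Z)

/-- The theorem for groups of order less than `n`. -/
def MainBelow (n : ℕ) : Prop :=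
  ∀ (X : Type u) [Group X] [Finite X], Nat.card X < n → Hyp X → ConclA X ∨ ConclB X

end Cfsg.Agent.RankMeet
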