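/-
Sylow 2-subgroups meeting in rank at most one: the elementary consequences (owner: helper31).

* `eq_of_four` : a four group lies in one Sylow 2-subgroup.
* `mem_normalizer_of_four` : an element carrying a four group of `S` into `S` normalises `S`.
* `mem_normalizer_of_commute` : with a central involution `z`, `C(u) ≤ N(S)` for an involution `u ≠ z` of `S`.
* `isSolvable_normalizer_sylow` : the normaliser of a Sylow 2-subgroup is solvable.
* `subgroup`, `of_odd_kernel` : the condition passes to subgroups and over odd kernels.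
* `exists_four`, `cyclic_or_quaternion` : the groups of rank one.
-/
import Cfsg.Agent.Lib.RankMeet.Defs
import Cfsg.Agent.Lib.PGroup.UniqueOrderP
import Cfsg.Agent.Lib.SylowLift.Basic
import Cfsg.Agent.Lib.OddOrderTheorem.Basic
import Cfsg.Agent.Lib.Bender.Setup

set_option autoImplicit false
set_option linter.style.haveILetI false
set_option linter.unusedSectionVars false

namespace Cfsg.Agent.RankMeet

open Cfsg Subgroup
open scoped Pointwise

universe u v

variable {G : Type u} [Group G] [Finite G]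

theorem orderOf_mul_of_commute {a b : G} (ha : orderOf a = 2) (hb : orderOf b = 2) (hab : a ≠ b)
    (hc : Commute a b) : orderOf (a * b) = 2 :=
  Involution.orderOf_of_sq (by rw [mul_assoc, ← mul_assoc b, ← hc.eq, mul_assoc a b b,
    Involution.mul_self hb, mul_one, Involution.mul_self ha]) fun h =>
    hab (by rw [eq_inv_of_mul_eq_one_left h, Involution.inv_eq hb])

/-- A four group is contained in no subgroup of rank one. -/
theorem not_rankOne_of_pair {J : Subgroup G} (hR : Cfsg.PRankLE 2 1 ↥J) {a b : G} (ha : orderOf a = 2)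
    (hb : orderOf b = 2) (hab : a ≠ b) (hc : Commute a b) (haJ : a ∈ J) (hbJ : b ∈ J) : False := by
  have ha2 := Involution.mul_self ha
  have hb2 := Involution.mul_self hb
  have hab2 := Involution.mul_self (orderOf_mul_of_commute ha hb hab hc)
  set V := Bender.fourOf ha2 hb2 hc
  have hsq : ∀ x ∈ V.subgroupOf J, x ^ 2 = 1 := by
    intro x hx
    rw [sq]
    refine Subtype.ext ?_
    rcases Subgroup.mem_subgroupOf.1 hx with e | e | e | e <;> rw [Subgroup.coe_mul, e]
    · exact one_mul 1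
    · exact ha2
    · exact hb2
    · exact hab2
  have hcomm : IsMulCommutative (V.subgroupOf J) := by
    have hinv : ∀ x : V.subgroupOf J, x⁻¹ = x := fun x =>
      inv_eq_of_mul_eq_one_right (Subtype.ext (by
        have := hsq _ x.2
        rwa [sq] at this))
    exact ⟨⟨fun x y => by rw [← hinv (x * y), mul_inv_rev, hinv, hinv]⟩⟩
  have hle := hR (V.subgroupOf J) hcomm hsq
  let f : Fin 3 → V.subgroupOf J := ![1,
    ⟨⟨a, haJ⟩, Subgroup.mem_subgroupOf.2 (Or.inr (Or.inl rfl))⟩,
    ⟨⟨b, hbJ⟩, Subgroup.mem_subgroupOf.2 (Or.inr (Or.inr (Or.inl rfl)))⟩]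
  have hf : Function.Injective f := by
    intro i j e
    have e' := congrArg (fun x : V.subgroupOf J => ((x : J) : G)) e
    fin_cases i <;> fin_cases j <;> simp [f, Involution.ne_one ha, Involution.ne_one hb, hab,
      Ne.symm hab, (Involution.ne_one ha).symm, (Involution.ne_one hb).symm] at e' ⊢
  have h3 := Nat.card_le_card_of_injective f hf
  rw [Nat.card_eq_fintype_card, Fintype.card_fin] at h3
  exact absurd (h3.trans hle) (by norm_num)

/-- Two commuting involutions lie together in one Sylow 2-subgroup only. -/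
theorem eq_of_four (hR : RankMeet G) {S T : Sylow 2 G} {a b : G} (ha : orderOf a = 2)
    (hb : orderOf b = 2) (hab : a ≠ b) (hc : Commute a b) (haS : a ∈ S) (hbS : b ∈ S) (haT : a ∈ T)
    (hbT : b ∈ T) : S = T := by
  by_contra hne
  exact not_rankOne_of_pair (hR S T hne) ha hb hab hc ⟨haS, haT⟩ ⟨hbS, hbT⟩

/-- An element carrying a four group of `S` into `S` normalises `S`. -/
theorem mem_normalizer_of_four (hR : RankMeet G) {S : Sylow 2 G} {a b g : G} (ha : orderOf a = 2)
    (hb : orderOf b = 2) (hab : a ≠ b) (hc : Commute a b) (haS : a ∈ S) (hbS : b ∈ S)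
    (hga : g * a * g⁻¹ ∈ S) (hgb : g * b * g⁻¹ ∈ S) :
    g ∈ normalizer ((S : Subgroup G) : Set G) := by
  have e : S = g⁻¹ • S := eq_of_four hR ha hb hab hc haS hbS
    ⟨_, hga, by simp [mul_assoc]⟩ ⟨_, hgb, by simp [mul_assoc]⟩
  have := Sylow.smul_eq_iff_mem_normalizer.1 e.symm
  simpa using inv_mem this

/-- A four group in `S` and in a subgroup normalised by `g`, which lies in `S`. -/
theorem mem_normalizer_of_four_normalizer (hR : RankMeet G) {S : Sylow 2 G} {A : Subgroup G}
    (hA : A ≤ (S : Subgroup G)) {a b g : G} (ha : orderOf a = 2) (hb : orderOf b = 2) (hab : a ≠ b)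
    (hc : Commute a b) (haA : a ∈ A) (hbA : b ∈ A) (hg : g ∈ normalizer (A : Set G)) :
    g ∈ normalizer ((S : Subgroup G) : Set G) :=
  mem_normalizer_of_four hR ha hb hab hc (hA haA) (hA hbA) (hA ((mem_normalizer_iff.1 hg a).1 haA))
    (hA ((mem_normalizer_iff.1 hg b).1 hbA))

/-- With a central involution `z` the centraliser of an involution `u ≠ z` of `S` normalises `S`. -/
theorem mem_normalizer_of_commute (hR : RankMeet G) {S : Sylow 2 G} {z u g : G} (hz : orderOf z = 2)
    (hzc : ∀ x, Commute x z) (hu : orderOf u = 2) (hne : u ≠ z) (hzS : z ∈ S) (huS : u ∈ S)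
    (hg : Commute g u) : g ∈ normalizer ((S : Subgroup G) : Set G) := by
  refine mem_normalizer_of_four hR hu hz hne (hzc u) huS hzS ?_ ?_
  · rwa [hg.eq, mul_inv_cancel_right]
  · rwa [(hzc g).eq, mul_inv_cancel_right]

theorem isSolvable_normalizer_sylow (S : Sylow 2 G) :
    Group.IsSolvable ↥(normalizer ((S : Subgroup G) : Set G)) := by
  haveI : Fact (Nat.Prime 2) := ⟨Nat.prime_two⟩
  set N := normalizer ((S : Subgroup G) : Set G)
  have hle : (S : Subgroup G) ≤ N := le_normalizer
  haveI : Group.IsNilpotent ↥(S : Subgroup G) := S.isPGroup'.isNilpotent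
  haveI : Group.IsSolvable ↥((S : Subgroup G).subgroupOf N) :=
    Group.isSolvable_of_isSolvable_injective (f := (subgroupOfEquivOfLe hle).toMonoidHom) (MulEquiv.injective _)
  have hodd : Odd (Nat.card (↥N ⧸ (S : Subgroup G).subgroupOf N)) := Nat.not_even_iff_odd.1 fun h =>
    S.not_dvd_index ((even_iff_two_dvd.1 h).trans (relIndex_dvd_index_of_le hle))
  exact (Group.isSolvable_iff_subgroup_quotient ((S : Subgroup G).subgroupOf N)).2
    ⟨inferInstance, OddOrderTheorem.solvable hodd⟩

/-- Passing to subgroups. -/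
theorem rankMeet_subgroup (hR : RankMeet G) (H : Subgroup G) : RankMeet H := by
  intro A B hne
  obtain ⟨S, hS⟩ := (A.isPGroup'.map H.subtype).exists_le_sylow
  obtain ⟨T, hT⟩ := (B.isPGroup'.map H.subtype).exists_le_sylow
  have hST : S ≠ T := by
    rintro rfl
    refine hne (Sylow.ext ?_)
    have hp : IsPGroup 2 ↥((S : Subgroup G).subgroupOf H) := S.isPGroup'.comap_subtype
    have hA : (A : Subgroup H) ≤ (S : Subgroup G).subgroupOf H := fun x hx => hS ⟨x, hx, rfl⟩
    have hB : (B : Subgroup H) ≤ (S : Subgroup G).subgroupOf H := fun x hx => hT ⟨x, hx, rfl⟩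
    exact (A.3 hp hA).symm.trans (B.3 hp hB)
  intro V hV hV2
  let f : ↥((A : Subgroup H) ⊓ (B : Subgroup H)) →* ↥((S : Subgroup G) ⊓ (T : Subgroup G)) :=
    (H.subtype.comp ((A : Subgroup H) ⊓ (B : Subgroup H)).subtype).codRestrict _ fun x =>
      ⟨hS ⟨_, x.2.1, rfl⟩, hT ⟨_, x.2.2, rfl⟩⟩
  have hf : Function.Injective f := fun x y h => Subtype.ext (Subtype.ext
    (congrArg (fun z : ↥((S : Subgroup G) ⊓ (T : Subgroup G)) => (z : G)) h))
  have h1 := hR S T hST (V.map f) ⟨⟨by
    rintro ⟨_, x, hx, rfl⟩ ⟨_, y, hy, rfl⟩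
    exact Subtype.ext (by
      show f x * f y = f y * f x
      rw [← map_mul, ← map_mul]
      exact congrArg f (congrArg Subtype.val (hV.is_comm.comm (⟨x, hx⟩ : V) ⟨y, hy⟩)))⟩⟩
    (by rintro _ ⟨x, hx, rfl⟩; rw [← map_pow, hV2 x hx, map_one])
  rwa [← Nat.card_congr (V.equivMapOfInjective f hf).toEquiv] at h1

/-- A homomorphism with kernel of odd order. -/
theorem rankMeet_of_odd_kernel {Q : Type v} [Group Q] {f : G →* Q} (hf : Function.Surjective f)
    (hk : Odd (Nat.card f.ker)) (hR : RankMeet G) : RankMeet Q := by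
  haveI : Fact (Nat.Prime 2) := ⟨Nat.prime_two⟩
  intro S T hne
  obtain ⟨S', T', h1, h2, h3⟩ := SylowLift.exists_inf_lift hf S T
  have hne' : S' ≠ T' := by
    rintro rfl
    exact hne (Sylow.ext (h1.symm.trans h2))
  have hker : Disjoint ((S' : Subgroup G) ⊓ (T' : Subgroup G)) f.ker := by
    refine disjoint_of_coprime_natCard ?_
    obtain ⟨k, hk'⟩ := IsPGroup.iff_card.1
      ((S'.isPGroup'.to_le (inf_le_left : (S' : Subgroup G) ⊓ (T' : Subgroup G) ≤ _)))
    rw [hk']
    exact (Nat.coprime_two_left.2 hk).pow_left k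
  intro V hV hV2
  set J := (S' : Subgroup G) ⊓ (T' : Subgroup G) with hJ
  let g : ↥J →* ↥((S : Subgroup Q) ⊓ (T : Subgroup Q)) :=
    (f.comp J.subtype).codRestrict _ fun x => h3.le ⟨x, x.2, rfl⟩
  have hgi : Function.Injective g := (injective_iff_map_eq_one g).2 fun x hx => by
    have h4 : (x : G) ∈ f.ker := congrArg Subtype.val hx
    exact Subtype.ext (mem_bot.1 (hker.le_bot ⟨x.2, h4⟩))
  have hgs : Function.Surjective g := by
    rintro ⟨q, hq⟩
    obtain ⟨x, hx, rfl⟩ := h3.ge hq
    exact ⟨⟨x, hx⟩, rfl⟩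
  have h5 := hR S' T' hne' (V.comap g) ⟨⟨fun x y => Subtype.ext (hgi (by
    rw [Subgroup.coe_mul, Subgroup.coe_mul, map_mul, map_mul]
    exact congrArg Subtype.val (hV.is_comm.comm (⟨g x, x.2⟩ : V) ⟨g y, y.2⟩)))⟩⟩
    (fun x hx => hgi (by rw [map_pow, hV2 _ hx, map_one]))
  have h6 : Nat.card (V.comap g) = Nat.card V :=
    Nat.card_congr ((MulEquiv.ofBijective g ⟨hgi, hgs⟩).toEquiv.subtypeEquiv fun x => Iff.rfl)
  rwa [h6] at h5

/-- A 2-group that is neither cyclic nor quaternion contains a four group. -/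
theorem exists_four {P : Subgroup G} (hP : IsPGroup 2 P) (hc : ¬ IsCyclic P)
    (hq : ∀ n : ℕ, IsEmpty (↥P ≃* QuaternionGroup (2 ^ (n + 1)))) :
    ∃ a b : G, a ∈ P ∧ b ∈ P ∧ orderOf a = 2 ∧ orderOf b = 2 ∧ a ≠ b ∧ Commute a b := by
  haveI : Fact (Nat.Prime 2) := ⟨Nat.prime_two⟩
  by_contra hno
  push Not at hno
  have huniq : ∀ x y : P, orderOf x = 2 → y ^ 2 = 1 → y ∈ zpowers x := by
    intro x y hx hy
    by_contra hne
    obtain ⟨c, hc1, hc2, hc3⟩ : ∃ c : P, orderOf c = 2 ∧ (∀ g : P, Commute g c) ∧ True := by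
      haveI : Nontrivial P := ⟨⟨x, 1, fun h => by rw [h, orderOf_one] at hx; norm_num at hx⟩⟩
      haveI := hP.center_nontrivial
      obtain ⟨c, hc⟩ := exists_prime_orderOf_dvd_card' (G := center P) 2 (by
        obtain ⟨k, hk0, hk⟩ := (hP.to_subgroup (center P)).nontrivial_iff_card.1 inferInstance
        rw [hk]; exact dvd_pow_self 2 hk0.ne')
      exact ⟨c, by rw [Subgroup.orderOf_coe, hc], fun g => (mem_center_iff.1 c.2 g), trivial⟩
    have hy1 : y ≠ 1 := fun h => hne (h ▸ one_mem _)
    have hyo : orderOf y = 2 := orderOf_eq_prime hy hy1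
    have key : ∀ w : P, orderOf w = 2 → w = c := fun w hw => by
      by_contra hwc
      exact hno (w : G) (c : G) w.2 c.2 (by rw [Subgroup.orderOf_coe, hw])
        (by rw [Subgroup.orderOf_coe, hc1]) (fun h => hwc (Subtype.ext h))
        (congrArg Subtype.val (hc2 w).eq)
    exact hne ((key y hyo).trans (key x hx).symm ▸ mem_zpowers x)
  rcases PGroup.unique_order_p_cases hP huniq with h | ⟨-, n, ⟨e⟩⟩
  · exact hc h
  rcases n with _ | n
  · haveI : IsCyclic (QuaternionGroup (2 ^ 0)) := by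
      rw [pow_zero]
      exact QuaternionGroup.quaternionGroup_one_isCyclic
    exact hc (isCyclic_of_surjective e.symm.toMonoidHom e.symm.surjective)
  · exact (hq n).false e

/-- A 2-subgroup of rank one is cyclic or quaternion. -/
theorem cyclic_or_quaternion {P : Subgroup G} (hP : IsPGroup 2 P) (hR : Cfsg.PRankLE 2 1 ↥P) :
    IsCyclic P ∨ ∃ n : ℕ, Nonempty (↥P ≃* QuaternionGroup (2 ^ (n + 1))) := by
  by_contra h
  push Not at h
  obtain ⟨a, b, haP, hbP, ha, hb, hab, hc⟩ := exists_four hP h.1 h.2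
  exact not_rankOne_of_pair hR ha hb hab hc haP hbP

/-- The Sylow 2-subgroups contain four groups. -/
theorem exists_four_sylow (hq : NoQuatSylow G) (hnc : ∀ S : Sylow 2 G,
    ¬ IsCyclic (S : Subgroup G)) (S : Sylow 2 G) :
    ∃ a b : G, a ∈ S ∧ b ∈ S ∧ orderOf a = 2 ∧ orderOf b = 2 ∧ a ≠ b ∧ Commute a b :=
  exists_four S.isPGroup' (hnc S) (hq S)

end Cfsg.Agent.RankMeet
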