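/-
The three families with a strongly embedded subgroup, and the lists (owner: helper31).

* `threeFam_of_stronglyEmbedded`, `exists_stronglyEmbedded_of_ti` : how the families arise.
* `ThreeFam.facts`, `ThreeFam.ti`, `ThreeFam.coreRigid`, `ThreeFam.card_sixty` : what is used of them.
* `list_facts` : the five alternatives of S3185 with rank one meets: cyclic meets and rigidity.
-/
import Cfsg.Agent.Lib.RankMeet.Basic
import Cfsg.Agent.Lib.MeetReduce.Final

set_option autoImplicit false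
set_option linter.style.haveILetI false
set_option linter.unusedSectionVars false

namespace Cfsg.Agent.RankMeet

open Cfsg Subgroup MeetReduce CyclicMeet
open Cfsg.Agent.Goldschmidt.General (centre RankFacts)
open scoped Pointwise

universe u

variable {L : Type u} [Group L] [Finite L]

/-- Bender's theorem. -/
theorem threeFam_of_stronglyEmbedded [IsSimpleGroup L] {H : Subgroup L}
    (hH : Cfsg.IsStronglyEmbedded H) : ThreeFam L := by
  have hcore := Bender.normalCore_of_simple hH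
  have h2 := SuzukiRankOne.two_involutions_of_simple hH
  obtain ⟨t, Q, h⟩ := Bender.rankOneHalf L H hH hcore h2
  haveI := Bender.faithful_of_normalCore hcore
  obtain ⟨M, hM, hodd, hc⟩ := SuzukiRankOne.classify SuzukiRankOne.kernelShape
    SuzukiRankOne.Suzuki.suzukiShape h h2
  obtain rfl : M = ⊤ := hM.eq_bot_or_eq_top.resolve_left fun e => by
    rw [e, Subgroup.index_bot] at hodd
    exact Nat.not_even_iff_odd.2 hodd (even_iff_two_dvd.2
      ((Involution.orderOf_of_sq h.mul_self h.ne_one) ▸ orderOf_dvd_natCard t))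
  rcases hc with ⟨F, _, _, ⟨n, hn, hF⟩, ⟨e⟩⟩ | ⟨F, _, _, m, hm, hF, ⟨e⟩⟩ | ⟨F, _, _, n, hn, hF, ⟨e⟩⟩
  · exact Or.inl ⟨n, F, _, _, hn, hF, ⟨Subgroup.topEquiv.symm.trans e⟩⟩
  · exact Or.inr (Or.inl ⟨m, F, _, _, hm, hF, ⟨Subgroup.topEquiv.symm.trans e⟩⟩)
  · exact Or.inr (Or.inr ⟨n, F, _, _, hn, by rw [hF, CentralMeet.four_pow],
      ⟨Subgroup.topEquiv.symm.trans e⟩⟩)

/-- Sylow 2-subgroups meeting trivially give a strongly embedded subgroup. -/
theorem exists_stronglyEmbedded_of_ti [IsSimpleGroup L] (hns : ¬ Group.IsSolvable L)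
    (hTI : ∀ S T : Sylow 2 L, S ≠ T → (S : Subgroup L) ⊓ (T : Subgroup L) = ⊥) :
    ∃ H : Subgroup L, Cfsg.IsStronglyEmbedded H := by
  haveI : Fact (Nat.Prime 2) := ⟨Nat.prime_two⟩
  obtain ⟨S⟩ : Nonempty (Sylow 2 L) := inferInstance
  set H := normalizer ((S : Subgroup L) : Set L) with hHdef
  refine ⟨H, Involution.isStronglyEmbedded_of_normalizers (fun h => ?_) ?_ fun X hXH hX hX1 g hg => ?_⟩
  · obtain ⟨T, hT⟩ := exists_two_sylow hns S
    haveI : (S : Subgroup L).Normal := normalizer_eq_top_iff.1 h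
    haveI := Sylow.unique_of_normal S inferInstance
    exact hT (Subsingleton.elim _ _)
  · have h2 : 2 ∣ Nat.card L := by
      by_contra h
      exact hns (OddOrderTheorem.solvable (Nat.odd_iff.2 (by omega)))
    exact even_iff_two_dvd.2 ((S.dvd_card_of_dvd_card h2).trans (card_dvd_of_le le_normalizer))
  · have hXS : X ≤ (S : Subgroup L) := fun x hx => by
      obtain ⟨k, hk⟩ := IsPGroup.iff_orderOf.1 hX ⟨x, hx⟩
      exact CentralMeet.mem_sylow_of_two_elt S (hXH hx) (by rwa [Subgroup.orderOf_mk] at hk)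
    have hXg : X ≤ ((g • S : Sylow 2 L) : Subgroup L) := fun x hx =>
      ⟨g⁻¹ * x * g, hXS ((mem_normalizer_iff''.1 hg x).1 hx), by simp [mul_assoc]⟩
    have e : g • S = S := by
      by_contra hne
      exact hX1 (le_bot_iff.1 ((le_inf hXg hXS).trans (hTI _ _ hne).le))
    exact Sylow.smul_eq_iff_mem_normalizer.1 e

theorem ThreeFam.facts [IsSimpleGroup L] (h : ThreeFam L) : ∃ q : ℕ, RankFacts L q := by
  refine Goldschmidt.General.rankTarget L inferInstance ?_
  rcases h with ⟨n, F, i1, i2, h1, h2, f⟩ | ⟨n, F, i1, i2, h1, h2, f⟩ | ⟨n, F, i1, i2, h1, h2, f⟩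
  · exact Or.inl ⟨F, i1, i2, n, h1, h2, f⟩
  · exact Or.inr (Or.inl ⟨F, i1, i2, n, h1, h2, f⟩)
  · exact Or.inr (Or.inr ⟨F, i1, i2, n, h1, by rw [h2, CentralMeet.four_pow], f⟩)

/-- Distinct Sylow 2-subgroups meet trivially. -/
theorem ThreeFam.ti [IsSimpleGroup L] (h : ThreeFam L) {S T : Sylow 2 L} (hne : S ≠ T) :
    (S : Subgroup L) ⊓ (T : Subgroup L) = ⊥ := by
  haveI : Fact (Nat.Prime 2) := ⟨Nat.prime_two⟩
  obtain ⟨q, hq⟩ := h.facts
  by_contra hJ
  set J := (S : Subgroup L) ⊓ (T : Subgroup L) with hJdef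
  obtain ⟨k, hk⟩ := IsPGroup.iff_card.1 (S.isPGroup'.to_le (inf_le_left : J ≤ _))
  obtain ⟨u, hu⟩ := exists_prime_orderOf_dvd_card' (G := J) 2 (by
    rw [hk]
    exact dvd_pow_self 2 fun h0 => hJ (Subgroup.card_eq_one.1 (by rw [hk, h0, pow_zero])))
  have hu' : orderOf (u : L) = 2 := by rw [Subgroup.orderOf_coe, hu]
  have huu := Involution.mul_self hu'
  have hS := (hq.omega S u u.2.1).1 huu
  have hT := (hq.omega T u u.2.2).1 huu
  refine hne (Sylow.ext (T.is_maximal' S.isPGroup' ?_))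
  intro x hx
  obtain ⟨j, hj⟩ := IsPGroup.iff_orderOf.1 T.isPGroup' ⟨x, hx⟩
  refine CentralMeet.mem_sylow_of_two_elt S (hq.cent S u hS (Involution.ne_one hu') ?_)
    (by rwa [Subgroup.orderOf_mk] at hj)
  exact mem_centralizer_singleton_iff.2 (mem_centralizer_iff.1 hT.2 x hx)

theorem ThreeFam.coreRigid [IsSimpleGroup L] (h : ThreeFam L) : CoreRigid L := by
  rcases h with ⟨n, F, i1, i2, h1, h2, ⟨f⟩⟩ | ⟨n, F, i1, i2, h1, h2, ⟨f⟩⟩ | ⟨n, F, i1, i2, h1, h2, ⟨f⟩⟩
  · exact coreRigid_psl_even h1 h2 f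
  · exact coreRigid_sz ⟨F, i1, i2, n, h1, h2, ⟨f⟩⟩
  · exact coreRigid_psu h1 (by rw [h2, CentralMeet.four_pow]) f

/-- With Sylow 2-subgroups of order four the group has order sixty. -/
theorem ThreeFam.card_sixty [IsSimpleGroup L] (h : ThreeFam L) (S : Sylow 2 L)
    (h4 : Nat.card (S : Subgroup L) = 4) : Nat.card L = 60 := by
  haveI : Fact (Nat.Prime 2) := ⟨Nat.prime_two⟩
  have hle : ∀ Q : Sylow 2 L, Nat.card ↥(centre (Q : Subgroup L)) ≤ 4 := fun Q => by
    refine le_trans (card_le_of_le inf_le_left) (le_of_eq ?_)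
    rw [Q.card_eq_multiplicity, ← S.card_eq_multiplicity, h4]
  rcases h with ⟨n, F, i1, i2, h1, h2, ⟨f⟩⟩ | ⟨m, F, i1, i2, h1, h2, f⟩ | ⟨n, F, i1, i2, h1, h2, ⟨f⟩⟩
  · obtain ⟨e'⟩ := Goldschmidt.General.Rank.pgl_equiv_psl (n := n) (by omega) h2
    have hq := Goldschmidt.General.Rank.rankFacts_of_equiv (Goldschmidt.General.Rank.model_pgl h1 h2)
      (f.trans e')
    have h5 := hq.card_centre S ▸ hle S
    have hn : n = 2 := le_antisymm
      ((Nat.pow_le_pow_iff_right (by norm_num : 1 < 2)).1 (by simpa using h5)) h1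
    subst hn
    rw [Nat.card_congr f.toEquiv]
    have := GraphCIT.card_pslEven (F := F) (m := 2) (by norm_num) h2
    norm_num at this
    exact this
  · obtain ⟨q, hq⟩ := Goldschmidt.ThreePrime.szFacts (L := L) ⟨F, i1, i2, m, h1, h2, f⟩
    obtain ⟨k, hk, rfl⟩ := hq.pow
    have h5 := hle S
    have h6 := hq.card_centre S
    have h7 : 2 ^ 3 ≤ 2 ^ (2 * k + 1) := Nat.pow_le_pow_right (by norm_num) (by omega)
    have h8 : Nat.card ↥(centre (S : Subgroup L)) = 2 ^ (2 * k + 1) := h6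
    omega
  · exfalso
    have hF : Fintype.card F = (2 ^ n) ^ 2 := by rw [h2, CentralMeet.four_pow]
    have hz : (2 : F) = 0 := by
      have h0 : ((2 : ℕ) : F) ^ (n * 2) = 0 := by
        rw [← Nat.cast_pow, pow_mul, ← hF]; exact FiniteField.cast_card_eq_zero F
      exact_mod_cast eq_zero_of_pow_eq_zero h0
    obtain ⟨P⟩ : Nonempty (Sylow 2 (Cfsg.PSU 3 F (2 ^ n))) := inferInstance
    obtain ⟨ι⟩ := Unitary.exists_equiv (by omega : 1 ≤ n) rfl hF hz P
    have h5 := Nat.card_congr ι.toEquiv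
    rw [Unitary.card_sylThree, P.card_eq_multiplicity, ← Nat.card_congr f.toEquiv,
      ← S.card_eq_multiplicity, h4] at h5
    have h6 : (2 ^ 2) ^ 3 ≤ (2 ^ n) ^ 3 := Nat.pow_le_pow_left (Nat.pow_le_pow_right (by norm_num) h1) 3
    omega

/-- A rank one subgroup of a commutative group is cyclic. -/
theorem isCyclic_of_rankOne {J : Subgroup L} (hJ : IsPGroup 2 J) (hc : ∀ a ∈ J, ∀ b ∈ J, a * b = b * a)
    (hR : Cfsg.PRankLE 2 1 ↥J) : IsCyclic J := by
  rcases cyclic_or_quaternion hJ hR with h | ⟨n, ⟨e⟩⟩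
  · exact h
  exfalso
  have h1 : (QuaternionGroup.a 1 : QuaternionGroup (2 ^ (n + 1))) * QuaternionGroup.xa 0 =
      QuaternionGroup.xa 0 * QuaternionGroup.a 1 := by
    obtain ⟨x, hx⟩ := e.surjective (QuaternionGroup.a 1)
    obtain ⟨y, hy⟩ := e.surjective (QuaternionGroup.xa 0)
    rw [← hx, ← hy, ← map_mul, ← map_mul]
    exact congrArg e (Subtype.ext (hc x x.2 y y.2))
  rw [QuaternionGroup.a_mul_xa, QuaternionGroup.xa_mul_a] at h1
  have h2 : (0 : ZMod (2 * 2 ^ (n + 1))) - 1 = 0 + 1 := QuaternionGroup.xa.inj h1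
  have h3 : ((2 : ℕ) : ZMod (2 * 2 ^ (n + 1))) = 0 := by
    calc ((2 : ℕ) : ZMod (2 * 2 ^ (n + 1))) = (0 + 1) - (0 - 1) := by push_cast; ring
      _ = 0 := by rw [h2, sub_self]
  rw [ZMod.natCast_eq_zero_iff] at h3
  have h4 : 2 * 2 ≤ 2 * 2 ^ (n + 1) := Nat.mul_le_mul_left 2 (Nat.le_self_pow (Nat.succ_ne_zero n) 2)
  have h5 := Nat.le_of_dvd (by norm_num) h3
  omega

/-- The five alternatives with rank one meets. -/
theorem list_facts [IsSimpleGroup L] (hab : ¬ IsMulCommutative L) (hR : RankMeet L)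
    (h : CentralMeet.Conclusion L) : MeetCyclic L ∧ CoreRigid L := by
  haveI : Fact (Nat.Prime 2) := ⟨Nat.prime_two⟩
  have hthree : ThreeFam L → MeetCyclic L ∧ CoreRigid L := fun h3 =>
    ⟨fun S T hne => by rw [h3.ti hne]; infer_instance, h3.coreRigid⟩
  have habel : (∀ S : Sylow 2 L, ∀ a ∈ S, ∀ b ∈ S, a * b = b * a) → MeetCyclic L := fun hc S T hne =>
    isCyclic_of_rankOne (S.isPGroup'.to_le inf_le_left) (fun a ha b hb => hc S a ha.1 b hb.1) (hR S T hne)
  rcases h with h | h | h | ⟨F, i1, i2, h1, h2, ⟨f⟩⟩ | h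
  · exact hthree (Or.inl h)
  · exact hthree (Or.inr (Or.inl h))
  · exact hthree (Or.inr (Or.inr h))
  · refine ⟨habel fun S a ha b hb => ?_, coreRigid_psl_odd hab h1 h2.le f⟩
    exact congrArg Subtype.val (IsPGroup.commutative_of_card_eq_prime_sq (p := 2)
      (G := (S : Subgroup L)) (sylow_card_psl_odd h1 f S) ⟨a, ha⟩ ⟨b, hb⟩)
  · have hR' : CentralMeet.RankOneMeet L := fun S T hne _ => hR S T hne
    have he := elementary_of_card hab hR' h.2
    refine ⟨habel fun S a ha b hb => ?_, coreRigid_of_rankOne hab hR' h.2⟩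
    have hinv : ∀ c ∈ S, c⁻¹ = c := fun c hc => inv_eq_of_mul_eq_one_right (he S c hc)
    rw [← hinv _ (mul_mem ha hb), mul_inv_rev, hinv a ha, hinv b hb]

end Cfsg.Agent.RankMeet
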