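/-
The 2-core and the components of a group with trivial odd core and rank one meets (owner: helper31).

* `pCore_rankOne`, `eq_of_involution`, `pCore_involution_central` : the 2-core has one involution, central.
* `exists_component` : there is a component; `component_le_centralizer_pCore`, `center_component_le`.
* `isSolvable_centralizer_of_four` : a component with a four group has solvable centraliser.
* `exists_four_or_quaternion`, `center_of_quaternion` : otherwise it has centre of order two.
* `threeFam_of_lift` : a component whose central quotient has TI Sylow 2-subgroups.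
-/
import Cfsg.Agent.Lib.RankMeet.Families
import Cfsg.Agent.Lib.Components.GenFitting
import Cfsg.Agent.Lib.Components.Quasisimple
import Cfsg.Agent.Lib.ThreeInvol.Main
import Cfsg.Agent.S0201

set_option autoImplicit false
set_option linter.style.haveILetI false
set_option linter.unusedSectionVars false

namespace Cfsg.Agent.RankMeet

open Cfsg Subgroup Components
open scoped Pointwise IsMulCommutative

universe u

variable {X : Type u} [Group X] [Finite X]

/-! ### The 2-core -/

/-- A 2-group of rank one has at most one involution. -/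
theorem eq_of_involution {P : Subgroup X} (hP : IsPGroup 2 P) (hR : Cfsg.PRankLE 2 1 ↥P) {x y : X}
    (hx : x ∈ P) (hy : y ∈ P) (hx2 : orderOf x = 2) (hy2 : orderOf y = 2) : x = y := by
  haveI : Fact (Nat.Prime 2) := ⟨Nat.prime_two⟩
  haveI : Nontrivial P := ⟨⟨⟨x, hx⟩, 1, fun h => Involution.ne_one hx2 (congrArg Subtype.val h)⟩⟩
  haveI := hP.center_nontrivial
  obtain ⟨c, hc⟩ := exists_prime_orderOf_dvd_card' (G := center P) 2 (by
    obtain ⟨k, hk0, hk⟩ := (hP.to_subgroup (center P)).nontrivial_iff_card.1 inferInstance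
    rw [hk]; exact dvd_pow_self 2 hk0.ne')
  have hc2 : orderOf ((c : P) : X) = 2 := by rw [Subgroup.orderOf_coe, Subgroup.orderOf_coe, hc]
  have key : ∀ w ∈ P, orderOf w = 2 → w = ((c : P) : X) := fun w hw hw2 => by
    by_contra hne
    exact not_rankOne_of_pair hR hw2 hc2 hne
      (congrArg Subtype.val (mem_center_iff.1 c.2 ⟨w, hw⟩)) hw (c : P).2
  rw [key x hx hx2, key y hy hy2]

theorem pCore_rankOne (hR : RankMeet X) (hns : ¬ Group.IsSolvable X) :
    Cfsg.PRankLE 2 1 ↥(Cfsg.pCore 2 X) := by
  haveI : Fact (Nat.Prime 2) := ⟨Nat.prime_two⟩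
  obtain ⟨S⟩ : Nonempty (Sylow 2 X) := inferInstance
  obtain ⟨T, hT⟩ := CyclicMeet.exists_two_sylow hns S
  intro V hV hV2
  have hle : Cfsg.pCore 2 X ≤ (T : Subgroup X) ⊓ (S : Subgroup X) :=
    le_inf (Cores.pCore_le_sylow T) (Cores.pCore_le_sylow S)
  have h1 := hR T S hT (V.map (inclusion hle)) ⟨⟨by
    rintro ⟨_, x, hx, rfl⟩ ⟨_, y, hy, rfl⟩
    exact Subtype.ext (by
      show inclusion hle x * inclusion hle y = inclusion hle y * inclusion hle x
      rw [← map_mul, ← map_mul]
      exact congrArg _ (congrArg Subtype.val (hV.is_comm.comm (⟨x, hx⟩ : V) ⟨y, hy⟩)))⟩⟩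
    (by rintro _ ⟨x, hx, rfl⟩; rw [← map_pow, hV2 x hx, map_one])
  rwa [← Nat.card_congr (V.equivMapOfInjective _ (inclusion_injective hle)).toEquiv] at h1

theorem pCore_involution_central (hR : RankMeet X) (hns : ¬ Group.IsSolvable X) {z : X}
    (hz : z ∈ Cfsg.pCore 2 X) (hz2 : orderOf z = 2) (g : X) : Commute g z := by
  have h := eq_of_involution (Cores.isPGroup_pCore 2 X) (pCore_rankOne hR hns)
    ((inferInstance : (Cfsg.pCore 2 X).Normal).conj_mem z hz g) hz
    (by rw [Involution.orderOf_conj, hz2]) hz2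
  exact mul_inv_eq_iff_eq_mul.1 h

theorem centralizer_pCore_not_isSolvable (hR : RankMeet X) (hns : ¬ Group.IsSolvable X) :
    ¬ Group.IsSolvable ↥(centralizer (Cfsg.pCore 2 X : Set X)) := by
  classical
  haveI : Fact (Nat.Prime 2) := ⟨Nat.prime_two⟩
  intro hs
  set Q := Cfsg.pCore 2 X with hQ
  have hA : Group.IsSolvable (MulAut Q) := by
    refine ThreeInvol.isSolvable_mulAut_of_four_squareRoots (Cores.isPGroup_pCore 2 X) ?_
    refine le_trans (Nat.card_le_card_of_injective (fun x : {x : Q // x ^ 2 = 1} => decide (x.1 = 1)) ?_)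
      (by rw [Nat.card_eq_fintype_card, Fintype.card_bool]; norm_num)
    intro x y h
    have h' : (x.1 = 1 ↔ y.1 = 1) := by simpa using h
    by_cases hx : x.1 = 1
    · exact Subtype.ext (hx.trans (h'.1 hx).symm)
    · have hy : y.1 ≠ 1 := fun e => hx (h'.2 e)
      refine Subtype.ext (Subtype.ext (eq_of_involution (Cores.isPGroup_pCore 2 X) (pCore_rankOne hR hns)
        x.1.2 y.1.2 ?_ ?_))
      · rw [Subgroup.orderOf_coe]; exact orderOf_eq_prime x.2 hx
      · rw [Subgroup.orderOf_coe]; exact orderOf_eq_prime y.2 hy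
  apply hns
  have hker : (MulAut.conjNormal (H := Q)).ker ≤ centralizer (Q : Set X) := fun g hg => by
    refine mem_centralizer_iff.2 fun q hq => ?_
    have h := congrArg (fun e : MulAut Q => ((e ⟨q, hq⟩ : Q) : X)) (MonoidHom.mem_ker.1 hg)
    simp only [MulAut.conjNormal_apply, MulAut.one_apply] at h
    exact (mul_inv_eq_iff_eq_mul.1 h).symm
  haveI := hs
  haveI : Group.IsSolvable ↥(MulAut.conjNormal (H := Q)).ker :=
    Group.isSolvable_of_isSolvable_injective (inclusion_injective hker)
  exact Group.isSolvable_of_ker_le_range (MulAut.conjNormal (H := Q)).ker.subtype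
    (MulAut.conjNormal (H := Q)) (by rw [range_subtype])

theorem exists_component (hcore : Cfsg.oddCore X = ⊥) (hR : RankMeet X) (hns : ¬ Group.IsSolvable X) :
    ∃ K : Subgroup X, Cfsg.IsComponent K := by
  haveI : Fact (Nat.Prime 2) := ⟨Nat.prime_two⟩
  have hF : Cfsg.fittingSubgroup X = Cfsg.pCore 2 X := fitting_eq_pCore_of hcore
  obtain ⟨K, hK, -⟩ := exists_component_le (S := centralizer (Cfsg.pCore 2 X : Set X))
    (Normal.isSubnormal inferInstance) (by rw [hF]) fun h =>
      centralizer_pCore_not_isSolvable hR hns (by haveI := h; infer_instance)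
  exact ⟨K, hK⟩

variable {K : Subgroup X}

theorem component_le_centralizer_pCore (hK : Cfsg.IsComponent K) :
    K ≤ centralizer (Cfsg.pCore 2 X : Set X) := by
  haveI : Fact (Nat.Prime 2) := ⟨Nat.prime_two⟩
  haveI : Group.IsNilpotent ↥(Cfsg.pCore 2 X) := (Cores.isPGroup_pCore 2 X).isNilpotent
  have h := IsComponent.commutator_solvable hK (H := Cfsg.pCore 2 X) inferInstance
    (by rw [normalizer_eq_top]; exact le_top)
  rwa [commutator_eq_bot_iff_le_centralizer] at h

theorem center_component_le (hcore : Cfsg.oddCore X = ⊥) (hK : Cfsg.IsComponent K) :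
    K ⊓ centralizer (K : Set X) ≤ Cfsg.pCore 2 X := by
  haveI : Fact (Nat.Prime 2) := ⟨Nat.prime_two⟩
  rw [← center_map_subtype, ← fitting_eq_pCore_of hcore]
  refine Cores.le_fittingSubgroup_of_isSubnormal
    (((inferInstance : (center K).Normal).isSubnormal).trans' hK.1) ?_
  exact Group.nilpotent_of_mulEquiv ((center K).equivMapOfInjective _ K.subtype_injective)

theorem component_not_isSolvable (hK : Cfsg.IsComponent K) : ¬ Group.IsSolvable K :=
  IsQuasisimple.not_isSolvable hK.2

theorem component_two_dvd (hK : Cfsg.IsComponent K) : 2 ∣ Nat.card K := by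
  by_contra h
  exact component_not_isSolvable hK (OddOrderTheorem.solvable (Nat.odd_iff.2 (by omega)))

/-- A subgroup centralising a four group is solvable. -/
theorem isSolvable_of_centralizes_four (hR : RankMeet X) {H : Subgroup X} {a b : X}
    (ha : orderOf a = 2) (hb : orderOf b = 2) (hab : a ≠ b) (hc : Commute a b)
    (hHa : ∀ h ∈ H, Commute h a) (hHb : ∀ h ∈ H, Commute h b) : Group.IsSolvable H := by
  haveI : Fact (Nat.Prime 2) := ⟨Nat.prime_two⟩
  set V := Bender.fourOf (Involution.mul_self ha) (Involution.mul_self hb) hc with hV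
  have hVp : IsPGroup 2 V := fun ⟨x, hx⟩ => ⟨1, by
    rcases hx with e | e | e | e <;> subst e <;> refine Subtype.ext ?_ <;>
      simp only [pow_one, pow_two, Subgroup.coe_mul, Subgroup.coe_one]
    · exact one_mul 1
    · exact Involution.mul_self ha
    · exact Involution.mul_self hb
    · exact Involution.mul_self (orderOf_mul_of_commute ha hb hab hc)⟩
  obtain ⟨S, hS⟩ := hVp.exists_le_sylow
  have haS : a ∈ S := hS (Or.inr (Or.inl rfl))
  have hbS : b ∈ S := hS (Or.inr (Or.inr (Or.inl rfl)))
  have hle : H ≤ normalizer ((S : Subgroup X) : Set X) := fun h hh => by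
    refine mem_normalizer_of_four hR ha hb hab hc haS hbS ?_ ?_
    · rwa [(hHa h hh).eq, mul_inv_cancel_right]
    · rwa [(hHb h hh).eq, mul_inv_cancel_right]
  haveI := isSolvable_normalizer_sylow S
  exact Group.isSolvable_of_isSolvable_injective (inclusion_injective hle)

theorem isSolvable_centralizer_of_four (hR : RankMeet X) {a b : X}
    (ha : orderOf a = 2) (hb : orderOf b = 2) (hab : a ≠ b) (hc : Commute a b) (haK : a ∈ K)
    (hbK : b ∈ K) : Group.IsSolvable ↥(centralizer (K : Set X)) :=
  isSolvable_of_centralizes_four hR ha hb hab hc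
    (fun _ hh => (mem_centralizer_iff.1 hh a haK).symm) (fun _ hh => (mem_centralizer_iff.1 hh b hbK).symm)

/-- A component contains a four group or has quaternion Sylow 2-subgroups. -/
theorem exists_four_or_quaternion (hK : Cfsg.IsComponent K) :
    (∃ a b : X, a ∈ K ∧ b ∈ K ∧ orderOf a = 2 ∧ orderOf b = 2 ∧ a ≠ b ∧ Commute a b) ∨
    (∀ P : Sylow 2 K, ∃ n : ℕ, Nonempty (↥(P : Subgroup K) ≃* QuaternionGroup (2 ^ (n + 1)))) := by
  by_cases h : ∀ P : Sylow 2 K, ∃ n : ℕ, Nonempty (↥(P : Subgroup K) ≃* QuaternionGroup (2 ^ (n + 1)))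
  · exact Or.inr h
  push Not at h
  obtain ⟨P, hP⟩ := h
  obtain ⟨a, b, -, -, ha, hb, hab, hc⟩ := exists_four P.isPGroup'
    (MeetReduce.not_isCyclic_sylow (component_not_isSolvable hK) P) hP
  exact Or.inl ⟨a, b, a.2, b.2, by rw [Subgroup.orderOf_coe, ha], by rw [Subgroup.orderOf_coe, hb],
    fun h => hab (Subtype.ext h), congrArg Subtype.val hc.eq⟩

/-- Brauer–Suzuki for a component. -/
theorem center_of_quaternion (hcore : Cfsg.oddCore X = ⊥) (hK : Cfsg.IsComponent K) {P : Sylow 2 K} {n : ℕ}
    (e : ↥(P : Subgroup K) ≃* QuaternionGroup (2 ^ (n + 1))) : Nat.card (center K) = 2 := by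
  haveI : Fact (Nat.Prime 2) := ⟨Nat.prime_two⟩
  refine S0201.result P n e fun N hN hodd => ?_
  haveI := hN
  rcases IsQuasisimple.normal_eq_top_or_le_center hK.2 N with h | h
  · rw [h, Subgroup.card_top] at hodd
    exact absurd (component_two_dvd hK) (by rw [Nat.two_dvd_ne_zero]; exact Nat.odd_iff.1 hodd)
  · have h1 : N.map K.subtype ≤ Cfsg.pCore 2 X :=
      ((map_mono h).trans (center_map_subtype K).le).trans (center_component_le hcore hK)
    obtain ⟨k, hk⟩ := IsPGroup.iff_card.1 ((Cores.isPGroup_pCore 2 X).to_le h1)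
    rw [← Nat.card_congr (N.equivMapOfInjective _ K.subtype_injective).toEquiv] at hk
    rcases Nat.eq_zero_or_pos k with rfl | hk0
    · exact Subgroup.card_eq_one.1 (by simpa using hk)
    · exact absurd hodd (by rw [hk, Nat.not_odd_iff_even, Nat.even_pow]; exact ⟨even_two, hk0.ne'⟩)

/-- The involution of a component with quaternion Sylow 2-subgroups. -/
theorem exists_central_involution (hcore : Cfsg.oddCore X = ⊥) (hK : Cfsg.IsComponent K)
    (hc : Nat.card (center K) = 2) :
    ∃ z : X, orderOf z = 2 ∧ z ∈ K ∧ z ∈ Cfsg.pCore 2 X ∧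
      ∀ x ∈ K, x ∈ centralizer (K : Set X) → x = 1 ∨ x = z := by
  haveI : Fact (Nat.Prime 2) := ⟨Nat.prime_two⟩
  obtain ⟨w, hw⟩ := exists_prime_orderOf_dvd_card' (G := center K) 2 (by rw [hc])
  refine ⟨((w : K) : X), by rw [Subgroup.orderOf_coe, Subgroup.orderOf_coe, hw], (w : K).2,
    center_component_le hcore hK ((center_map_subtype K).le ⟨w, w.2, rfl⟩), fun x hx hxc => ?_⟩
  by_contra hne
  push Not at hne
  have h1 : x ∈ (center K).map K.subtype := (center_map_subtype K).ge ⟨hx, hxc⟩
  obtain ⟨y, hy, rfl⟩ := h1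
  let f : Fin 3 → center K := ![1, w, ⟨y, hy⟩]
  have hf : Function.Injective f := by
    have hw1 : w ≠ 1 := fun h => by rw [h, orderOf_one] at hw; norm_num at hw
    have hy1 : (⟨y, hy⟩ : center K) ≠ 1 := fun h =>
      hne.1 (congrArg (fun c : center K => ((c : K) : X)) h)
    have hyw : (⟨y, hy⟩ : center K) ≠ w := fun h =>
      hne.2 (congrArg (fun c : center K => ((c : K) : X)) h)
    intro i j e
    fin_cases i <;> fin_cases j <;> simp [f, hw1, hy1, hyw, hw1.symm, hy1.symm, hyw.symm] at e ⊢
  have h3 := Nat.card_le_card_of_injective f hf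
  rw [hc, Nat.card_eq_fintype_card, Fintype.card_fin] at h3
  omega

/-! ### A criterion for TI Sylow 2-subgroups in the central quotient -/

/-- Each involution of `K/Z(K)` lifts to an involution `≠ z` of `K R`, where `R` is a 2-group centralising
`K`: then `K/Z(K)` is one of the three families. -/
theorem threeFam_of_lift (hcore : Cfsg.oddCore X = ⊥) (hR : RankMeet X) (hK : Cfsg.IsComponent K)
    {z : X} (hz : orderOf z = 2) (hzc : ∀ g, Commute g z) {R : Subgroup X} (hRp : IsPGroup 2 R)
    (hRK : R ≤ centralizer (K : Set X)) (hzR : z ∈ R)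
    (hlift : ∀ x ∈ K, x ∉ centralizer (K : Set X) → x * x ∈ centralizer (K : Set X) →
      ∃ r ∈ R, orderOf (x * r) = 2 ∧ x * r ≠ z) : ThreeFam (K ⧸ center K) := by
  haveI : Fact (Nat.Prime 2) := ⟨Nat.prime_two⟩
  haveI := hK.2.2
  have hns : ¬ Group.IsSolvable (K ⧸ center K) := fun h =>
    component_not_isSolvable hK ((Group.isSolvable_iff_subgroup_quotient (center K)).2 ⟨inferInstance, h⟩)
  obtain ⟨H, hH⟩ := exists_stronglyEmbedded_of_ti hns fun Sb Tb hne => by
    by_contra hJ
    set J := (Sb : Subgroup (K ⧸ center K)) ⊓ (Tb : Subgroup (K ⧸ center K)) with hJdef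
    obtain ⟨k, hk⟩ := IsPGroup.iff_card.1 (Sb.isPGroup'.to_le (inf_le_left : J ≤ _))
    obtain ⟨w, hw⟩ := exists_prime_orderOf_dvd_card' (G := J) 2 (by
      rw [hk]
      exact dvd_pow_self 2 fun h0 => hJ (Subgroup.card_eq_one.1 (by rw [hk, h0, pow_zero])))
    obtain ⟨P, -, hP⟩ := SylowLift.exists_le_map_eq (QuotientGroup.mk'_surjective (center K)) Sb
      (R := ⊥) IsPGroup.of_bot (by simp)
    obtain ⟨P', -, hP'⟩ := SylowLift.exists_le_map_eq (QuotientGroup.mk'_surjective (center K)) Tb
      (R := ⊥) IsPGroup.of_bot (by simp)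
    obtain ⟨x, hxP, hxw⟩ := hP.ge w.2.1
    obtain ⟨x', hx'P, hx'w⟩ := hP'.ge w.2.2
    -- the centre is a 2-group
    have hZ : center K ≤ (P' : Subgroup K) := by
      refine IsPGroup.le_sylow_of_normal ?_ P'
      refine IsPGroup.of_equiv ((Cores.isPGroup_pCore 2 X).to_le ?_)
        ((center K).equivMapOfInjective _ K.subtype_injective).symm
      exact (center_map_subtype K).le.trans (center_component_le hcore hK)
    have hxP' : x ∈ (P' : Subgroup K) := by
      have h1 : x'⁻¹ * x ∈ center K := QuotientGroup.eq.1 (hx'w.trans hxw.symm)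
      rw [← mul_inv_cancel_left x' x]
      exact mul_mem hx'P (hZ h1)
    have hxc : (x : X) ∉ centralizer (K : Set X) := fun h => by
      have h1 : x ∈ center K := mem_center_iff.2 fun k => Subtype.ext (h k.1 k.2)
      have h2 : (w : K ⧸ center K) = 1 := hxw.symm.trans ((QuotientGroup.eq_one_iff x).2 h1)
      exact Involution.ne_one (G := J) hw (Subtype.ext h2)
    have hxx : (x : X) * x ∈ centralizer (K : Set X) := by
      have h1 : x * x ∈ center K := by
        rw [← QuotientGroup.eq_one_iff]
        show QuotientGroup.mk' (center K) (x * x) = 1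
        rw [map_mul, hxw]
        exact congrArg Subtype.val (Involution.mul_self hw)
      exact fun k hk => congrArg Subtype.val (mem_center_iff.1 h1 ⟨k, hk⟩)
    obtain ⟨r, hrR, hu, huz⟩ := hlift x x.2 hxc hxx
    -- a Sylow subgroup over each of `P R` and `P' R`
    have hbig : ∀ A : Sylow 2 K, ∃ S : Sylow 2 X, (A : Subgroup K).map K.subtype ≤ (S : Subgroup X) ∧
        R ≤ (S : Subgroup X) := fun A => by
      have hn : (A : Subgroup K).map K.subtype ≤ normalizer (R : Set X) := by
        refine fun a ha => mem_normalizer_iff.2 fun t => ?_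
        obtain ⟨a', -, rfl⟩ := ha
        have hc : ∀ t ∈ R, K.subtype a' * t = t * K.subtype a' := fun t ht => hRK ht _ a'.2
        constructor
        · intro ht; rw [hc t ht, mul_inv_cancel_right]; exact ht
        · intro ht
          have h1 := hc _ ht
          have e : K.subtype a' * t * (K.subtype a')⁻¹ = t := mul_left_cancel (a := K.subtype a') (by
            rw [h1, inv_mul_cancel_right])
          rwa [e] at ht
      obtain ⟨S, hS⟩ := ((A.isPGroup'.map K.subtype).to_sup_of_normal_right' hRp hn).exists_le_sylow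
      exact ⟨S, le_sup_left.trans hS, le_sup_right.trans hS⟩
    obtain ⟨S, hPS, hRS⟩ := hbig P
    obtain ⟨T, hPT, hRT⟩ := hbig P'
    have hST : S = T := eq_of_four hR hu hz huz (hzc _) (mul_mem (hPS ⟨x, hxP, rfl⟩) (hRS hrR)) (hRS hzR)
      (mul_mem (hPT ⟨x, hxP', rfl⟩) (hRT hrR)) (hRT hzR)
    subst hST
    refine hne (Sylow.ext ?_)
    have hPP : P = P' := by
      have hp : IsPGroup 2 ↥((S : Subgroup X).subgroupOf K) := S.isPGroup'.comap_subtype
      exact Sylow.ext ((P.3 hp fun a ha => hPS ⟨a, ha, rfl⟩).symm.trans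
        (P'.3 hp fun a ha => hPT ⟨a, ha, rfl⟩))
    rw [← hP, ← hP', hPP]
  exact threeFam_of_stronglyEmbedded hH

end Cfsg.Agent.RankMeet
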