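/-
The quasisimple case of rank-one Sylow 2-intersections (owner: helper72, for helper31's S3310).

* `NormalPair` : an involution `e ≠ z` with `⟨z, e⟩` normal in the Sylow subgroup
* `Setting.exists_normalPair` : it exists
* `Setting.stronglyClosed` : the central involutions of the quotient Sylow subgroup are strongly closed
* `Setting.not_small` : the quotient does not have an elementary Sylow subgroup of order at most 8
* `Setting.hasStronglyEmbedded` : the quotient has a strongly embedded subgroup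
-/
import Cfsg.Agent.Lib.Goldschmidt.General.Defs
import Cfsg.Agent.Lib.NormEven.Tools
import Cfsg.Agent.Lib.OrbitPower.TwoGroup
import Cfsg.Agent.Lib.Transfer.AbelianHall

set_option autoImplicit false
set_option linter.style.haveILetI false
set_option linter.unusedSectionVars false

namespace Cfsg.Agent.RankMeet.Cover

open Subgroup
open scoped Pointwise

universe u

variable {K : Type u} [Group K] [Finite K]

/-- A perfect group with a central involution `z`, simple modulo `Z = ⟨z⟩`, in which every other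
involution lies in one Sylow 2-subgroup, and has one. -/
structure Setting (Z : Subgroup K) [Z.Normal] (z : K) : Prop where
  perfect : commutator K = ⊤
  ord : orderOf z = 2
  central : z ∈ center K
  gen : Z = zpowers z
  simple : IsSimpleGroup (K ⧸ Z)
  nonab : ¬ IsMulCommutative (K ⧸ Z)
  other : ∃ t : K, orderOf t = 2 ∧ t ≠ z
  unique : ∀ t : K, orderOf t = 2 → t ≠ z → ∀ S T : Sylow 2 K,
    t ∈ (S : Subgroup K) → t ∈ (T : Subgroup K) → S = T

instance factTwo : Fact (Nat.Prime 2) := ⟨Nat.prime_two⟩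

/-- An involution other than `z` generating with it a normal subgroup of `S`. -/
def NormalPair (z : K) (S : Sylow 2 K) (e : K) : Prop :=
  e ∈ (S : Subgroup K) ∧ orderOf e = 2 ∧ e ≠ z ∧
    ∀ s ∈ (S : Subgroup K), s * e * s⁻¹ = e ∨ s * e * s⁻¹ = e * z

variable {Z : Subgroup K} [Z.Normal] {z : K}

theorem eq_of_cyclic {A : Subgroup K} (hA : IsCyclic A) {x y : K} (hx : x ∈ A) (hy : y ∈ A)
    (hxo : orderOf x = 2) (hyo : orderOf y = 2) : x = y := by
  classical
  haveI := hA
  haveI := Fintype.ofFinite A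
  have h := IsCyclic.card_pow_eq_one_le (α := A) (n := 2) (by norm_num)
  by_contra hne
  have h3 : ({1, ⟨x, hx⟩, ⟨y, hy⟩} : Finset A) ⊆ Finset.univ.filter fun a : A => a ^ 2 = 1 := by
    intro a ha
    simp only [Finset.mem_insert, Finset.mem_singleton] at ha
    simp only [Finset.mem_filter, Finset.mem_univ, true_and]
    rcases ha with rfl | rfl | rfl
    · exact one_pow 2
    · exact Subtype.ext (by rw [SubmonoidClass.coe_pow, ← hxo, pow_orderOf_eq_one]; rfl)
    · exact Subtype.ext (by rw [SubmonoidClass.coe_pow, ← hyo, pow_orderOf_eq_one]; rfl)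
  have hc : ({1, ⟨x, hx⟩, ⟨y, hy⟩} : Finset A).card = 3 := by
    rw [Finset.card_eq_three]
    refine ⟨1, ⟨x, hx⟩, ⟨y, hy⟩, ?_, ?_, fun e => hne (congrArg Subtype.val e), rfl⟩
    · exact fun e => Involution.ne_one hxo (congrArg Subtype.val e).symm
    · exact fun e => Involution.ne_one hyo (congrArg Subtype.val e).symm
  have := (hc ▸ Finset.card_le_card h3).trans h
  omega

namespace Setting

variable (h : Setting Z z)
include h

theorem mul_self : z * z = 1 := Involution.mul_self h.ord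

theorem comm (x : K) : x * z = z * x := mem_center_iff.1 h.central x

theorem mem_Z {x : K} : x ∈ Z ↔ x = 1 ∨ x = z := by
  rw [h.gen]
  constructor
  · intro hx
    obtain ⟨i, rfl⟩ := mem_zpowers_iff.1 hx
    rcases Int.even_or_odd i with ⟨t, rfl⟩ | ⟨t, rfl⟩
    · left; rw [← two_mul, zpow_mul, zpow_two, h.mul_self, one_zpow]
    · right; rw [zpow_add, zpow_mul, zpow_two, h.mul_self, one_zpow, one_mul, zpow_one]
  · rintro (rfl | rfl)
    · exact one_mem _
    · exact mem_zpowers _

theorem z_mem_Z : z ∈ Z := h.mem_Z.2 (Or.inr rfl)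

theorem mk_eq_iff {x y : K} :
    QuotientGroup.mk' Z x = QuotientGroup.mk' Z y ↔ y = x ∨ y = x * z := by
  rw [QuotientGroup.mk'_apply, QuotientGroup.mk'_apply, QuotientGroup.eq, h.mem_Z, inv_mul_eq_one,
    inv_mul_eq_iff_eq_mul]
  exact ⟨fun h' => h'.imp (fun e => e.symm) id, fun h' => h'.imp (fun e => e.symm) id⟩

theorem mem_sylow (S : Sylow 2 K) : z ∈ (S : Subgroup K) :=
  ((IsPGroup.of_card (n := 1) (p := 2) (G := Z) (by
    rw [h.gen, Nat.card_zpowers, h.ord, pow_one])).le_sylow_of_normal S) h.z_mem_Z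

/-- A Sylow subgroup contains a normal pair. -/
theorem exists_normalPair (S : Sylow 2 K) : ∃ e, NormalPair z S e := by
  classical
  have hzS := h.mem_sylow S
  obtain ⟨t₀, ht₀, ht₀z⟩ := h.other
  obtain ⟨c, hct⟩ : ∃ g : K, g * t₀ * g⁻¹ ∈ (S : Subgroup K) := by
    obtain ⟨R, hR⟩ := (IsPGroup.of_card (n := 1) (p := 2) (G := zpowers t₀)
      (by rw [Nat.card_zpowers, ht₀, pow_one])).exists_le_sylow
    obtain ⟨g, rfl⟩ := MulAction.exists_smul_eq K R S
    exact ⟨g, ⟨t₀, hR (mem_zpowers t₀), rfl⟩⟩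
  set t := c * t₀ * c⁻¹ with ht
  have hto : orderOf t = 2 := (Involution.orderOf_conj c t₀).trans ht₀
  have htz : t ≠ z := fun e => ht₀z (by
    rw [ht, mul_inv_eq_iff_eq_mul, ← h.comm c] at e
    exact mul_left_cancel e)
  by_cases hno : OrbitPower.NoFour (S : Subgroup K)
  · exfalso
    rcases OrbitPower.cyclic_or_index_two S.isPGroup' hno with hcyc | ⟨a, g, m, j, hao, hm, hidx, hg, hga, hj⟩
    · exact htz (eq_of_cyclic hcyc hct hzS hto h.ord)
    · set A := (zpowers a).map (S : Subgroup K).subtype with hA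
      haveI : IsCyclic A := isCyclic_of_surjective
        ((zpowers a).equivMapOfInjective _ (S : Subgroup K).subtype_injective).toMonoidHom
        (MulEquiv.surjective _)
      have hzA : z ∈ A := by
        by_contra hzA
        have hzA' : (⟨z, hzS⟩ : (S : Subgroup K)) ∉ zpowers a := fun h' => hzA ⟨_, h', rfl⟩
        have hgz : (⟨z, hzS⟩ : (S : Subgroup K))⁻¹ * g ∈ zpowers a := by
          rw [mul_mem_iff_of_index_two hidx, inv_mem_iff]
          exact iff_of_false hzA' hg
        have hcg : g * a * g⁻¹ = a := by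
          obtain ⟨i, hi⟩ := mem_zpowers_iff.1 hgz
          have hg' : g = ⟨z, hzS⟩ * a ^ i := by rw [hi, mul_inv_cancel_left]
          have hza : (⟨z, hzS⟩ : (S : Subgroup K)) * a = a * ⟨z, hzS⟩ :=
            Subtype.ext (h.comm (a : K)).symm
          rw [hg', mul_assoc _ (a ^ i) a, ← (Commute.refl a).zpow_right i |>.eq, ← mul_assoc, hza]
          group
        rw [hcg] at hga
        have h1 : a ^ (j - 1) = 1 := by rw [zpow_sub_one, ← hga, mul_inv_cancel]
        have h4 : (4 : ℤ) ∣ j - 1 := by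
          refine dvd_trans ?_ (orderOf_dvd_iff_zpow_eq_one.2 h1)
          rw [hao]
          exact_mod_cast (pow_dvd_pow 2 hm : 2 ^ 2 ∣ 2 ^ m)
        obtain ⟨k, hk⟩ := h4
        obtain ⟨l, hl⟩ := hj
        omega
      have htA : t ∉ A := fun h' => htz (eq_of_cyclic inferInstance h' hzA hto h.ord)
      have hAS : A ≤ (S : Subgroup K) := map_subtype_le _
      have hrel : A.relIndex (S : Subgroup K) = 2 := by
        rw [relIndex, hA, ← comap_subtype, comap_map_eq_self_of_injective (S : Subgroup K).subtype_injective]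
        exact hidx
      rcases S0111.result S A hAS hrel t hto hct htA with ⟨M, hMn, hMi, htM⟩ | ⟨g', hg'⟩
      · have hle : commutator K ≤ M := by
          haveI : Fact (Nat.card (K ⧸ M)).Prime := ⟨by rw [← index_eq_card, hMi]; exact Nat.prime_two⟩
          haveI : IsCyclic (K ⧸ M) := isCyclic_of_prime_card rfl
          exact (Subgroup.Normal.quotient_commutative_iff_commutator_le).1 IsCyclic.isMulCommutative
        exact htM (hle (h.perfect ▸ mem_top t))
      · have := eq_of_cyclic inferInstance hg' hzA ((Involution.orderOf_conj g' t).trans hto) h.ord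
        refine htz ?_
        rw [mul_inv_eq_iff_eq_mul, ← h.comm g'] at this
        exact mul_left_cancel this
  simp only [OrbitPower.NoFour, not_forall] at hno
  obtain ⟨E, hEn, hE4, hE2, -⟩ := hno
  haveI := hEn
  have hsq : ∀ x : (S : Subgroup K), x ∈ E → x ≠ 1 → orderOf (x : K) = 2 := fun x hx hx1 => by
    rw [Subgroup.orderOf_coe]
    exact orderOf_eq_prime (hE2 x hx) hx1
  set ζ : (S : Subgroup K) := ⟨z, hzS⟩ with hζ
  by_cases hzE : ζ ∈ E
  · obtain ⟨e, heE, he⟩ : ∃ e ∈ E, e ≠ 1 ∧ e ≠ ζ := by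
      by_contra hall
      push Not at hall
      have hle : Nat.card E ≤ 2 := by
        refine le_trans (Nat.card_le_card_of_injective
          (fun x : E => if (x : (S : Subgroup K)) = 1 then (0 : Fin 2) else 1) fun x y hxy => ?_)
          (by simp)
        by_cases hx : (x : (S : Subgroup K)) = 1 <;> by_cases hy : (y : (S : Subgroup K)) = 1
        · exact Subtype.ext (hx.trans hy.symm)
        · simp [hx, hy] at hxy
        · simp [hx, hy] at hxy
        · exact Subtype.ext ((hall _ x.2 hx).trans (hall _ y.2 hy).symm)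
      omega
    refine ⟨e, e.2, hsq e heE he.1, fun e' => he.2 (Subtype.ext e'), fun s hs => ?_⟩
    by_contra hcon
    push Not at hcon
    set σ : (S : Subgroup K) := ⟨s, hs⟩
    set y := σ * e * σ⁻¹ with hy
    have hyE : y ∈ E := hEn.conj_mem e heE σ
    have hy1 : y ≠ 1 := fun e' => he.1 (conj_eq_one_iff.1 e')
    have hyz : y ≠ ζ := fun e' => he.2 (by
      rw [hy, mul_inv_eq_iff_eq_mul] at e'
      have hc : σ * ζ = ζ * σ := Subtype.ext (h.comm s)
      rw [← hc] at e'
      exact mul_left_cancel e')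
    have hye : y ≠ e := fun e' => hcon.1 (congrArg Subtype.val e')
    have hyez : y ≠ e * ζ := fun e' => hcon.2 (congrArg Subtype.val e')
    have hζ1 : ζ ≠ 1 := fun e' => Involution.ne_one h.ord (congrArg Subtype.val e')
    have h5 : ({⟨1, one_mem E⟩, ⟨ζ, hzE⟩, ⟨e, heE⟩, ⟨e * ζ, mul_mem heE hzE⟩, ⟨y, hyE⟩} : Finset E).card = 5 := by
      rw [Finset.card_insert_of_notMem, Finset.card_insert_of_notMem, Finset.card_insert_of_notMem,
        Finset.card_insert_of_notMem, Finset.card_singleton] <;>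
        simp [hye.symm, hyez.symm, hy1.symm, hyz.symm, he.1, he.1.symm, he.2, he.2.symm, hζ1, hζ1.symm]
      intro e'
      refine he.2 ?_
      have : e = ζ⁻¹ := eq_inv_of_mul_eq_one_left e'.symm
      rwa [show ζ⁻¹ = ζ from inv_eq_of_mul_eq_one_right (Subtype.ext h.mul_self)] at this
    haveI := Fintype.ofFinite E
    have := h5 ▸ Finset.card_le_univ (α := E) _
    rw [← Nat.card_eq_fintype_card, hE4] at this
    omega
  · haveI : Nontrivial E := Finite.one_lt_card_iff_nontrivial.1 (by omega)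
    have hne : (E : Subgroup (S : Subgroup K)) ≠ ⊥ := (Subgroup.nontrivial_iff_ne_bot E).1 inferInstance
    haveI : Nontrivial (S : Subgroup K) := ⟨⟨ζ, 1, fun e' =>
      Involution.ne_one h.ord (congrArg Subtype.val e')⟩⟩
    obtain ⟨⟨e, heI⟩, he1⟩ := Subgroup.ne_bot_iff_exists_ne_one.1 (PGroup.inf_center_ne_bot S.isPGroup' hne)
    have he1' : e ≠ 1 := fun e' => he1 (Subtype.ext e')
    refine ⟨e, e.2, hsq e heI.1 he1', fun e' => hzE ((Subtype.ext e' : e = ζ) ▸ heI.1), fun s hs => Or.inl ?_⟩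
    have := congrArg Subtype.val (mem_center_iff.1 heI.2 ⟨s, hs⟩)
    exact mul_inv_eq_iff_eq_mul.2 this

/-- The image of a normal pair lies in one Sylow subgroup of the quotient. -/
theorem unique_quot {S : Sylow 2 K} {e : K} (he : NormalPair z S e) (P : Sylow 2 (K ⧸ Z))
    (hP : QuotientGroup.mk' Z e ∈ (P : Subgroup (K ⧸ Z))) :
    P = S.mapSurjective (QuotientGroup.mk'_surjective Z) := by
  obtain ⟨T, rfl⟩ := Sylow.mapSurjective_surjective (QuotientGroup.mk'_surjective Z) 2 P
  rw [Sylow.coe_mapSurjective] at hP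
  obtain ⟨x, hx, hxe⟩ := hP
  have heT : e ∈ (T : Subgroup K) := by
    rcases h.mk_eq_iff.1 hxe with h1 | h1
    · exact h1 ▸ hx
    · exact h1 ▸ mul_mem hx (h.mem_sylow T)
  rw [h.unique e he.2.1 he.2.2.1 S T he.1 heT]

theorem central_quot {S : Sylow 2 K} {e : K} (he : NormalPair z S e) {x : K ⧸ Z}
    (hx : x ∈ (S : Subgroup K).map (QuotientGroup.mk' Z)) : Commute x (QuotientGroup.mk' Z e) := by
  obtain ⟨s, hs, rfl⟩ := hx
  have h1 : QuotientGroup.mk' Z (s * e * s⁻¹) = QuotientGroup.mk' Z e :=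
    (h.mk_eq_iff.2 (he.2.2.2 s hs)).symm
  rw [map_mul, map_mul, map_inv, mul_inv_eq_iff_eq_mul] at h1
  exact h1

/-- The central involutions of a Sylow subgroup of `K/Z` form a strongly closed subgroup. -/
theorem stronglyClosed (S : Sylow 2 K) :
    ∃ A : Subgroup (K ⧸ Z), A ≠ ⊥ ∧ Cfsg.IsElementaryAbelian 2 A ∧
      Cfsg.IsStronglyClosed A
        ((S.mapSurjective (QuotientGroup.mk'_surjective Z) : Sylow 2 (K ⧸ Z)) : Subgroup (K ⧸ Z)) := by
  set P := S.mapSurjective (QuotientGroup.mk'_surjective Z) with hPdef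
  have hPS : (P : Subgroup (K ⧸ Z)) = (S : Subgroup K).map (QuotientGroup.mk' Z) := rfl
  haveI := h.simple
  obtain ⟨e, he⟩ := h.exists_normalPair S
  set d := QuotientGroup.mk' Z e with hd
  have hdP : d ∈ (P : Subgroup (K ⧸ Z)) := ⟨e, he.1, rfl⟩
  have hdc : ∀ x ∈ (P : Subgroup (K ⧸ Z)), Commute x d := fun x hx => h.central_quot he (hPS ▸ hx)
  let A : Subgroup (K ⧸ Z) :=
    { carrier := {x | x ∈ (P : Subgroup (K ⧸ Z)) ∧ x ^ 2 = 1 ∧ ∀ y ∈ (P : Subgroup (K ⧸ Z)), Commute y x}
      one_mem' := ⟨one_mem _, one_pow 2, fun y _ => Commute.one_right y⟩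
      mul_mem' := fun {a b} ha hb => ⟨mul_mem ha.1 hb.1, by
        rw [(hb.2.2 a ha.1).mul_pow, ha.2.1, hb.2.1, one_mul], fun y hy => (ha.2.2 y hy).mul_right (hb.2.2 y hy)⟩
      inv_mem' := fun {a} ha => ⟨inv_mem ha.1, by rw [inv_pow, ha.2.1, inv_one],
        fun y hy => (ha.2.2 y hy).inv_right⟩ }
  have hd2 : d ^ 2 = 1 := by rw [hd, ← map_pow, ← he.2.1, pow_orderOf_eq_one, map_one]
  have hdA : d ∈ A := ⟨hdP, hd2, hdc⟩
  have hd1 : d ≠ 1 := fun h1 => by
    rw [hd, QuotientGroup.mk'_apply, QuotientGroup.eq_one_iff, h.mem_Z] at h1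
    exact h1.elim (Involution.ne_one he.2.1) he.2.2.1
  refine ⟨A, fun hA => hd1 (mem_bot.1 (hA ▸ hdA)), ⟨⟨⟨fun a b => Subtype.ext (b.2.2.2 a a.2.1).eq⟩⟩,
    fun a ha => ha.2.1⟩, fun x hx => hx.1, fun u hu g hg => ⟨hg, ?_, ?_⟩⟩
  · rw [conj_pow, hu.2.1, mul_one, mul_inv_cancel]
  · set x := g * u * g⁻¹ with hx
    have hTx : ∀ y ∈ ((g • P : Sylow 2 (K ⧸ Z)) : Subgroup (K ⧸ Z)), Commute y x := by
      intro y hy
      obtain ⟨w, hw, rfl⟩ := hy
      show g * w * g⁻¹ * (g * u * g⁻¹) = g * u * g⁻¹ * (g * w * g⁻¹)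
      calc g * w * g⁻¹ * (g * u * g⁻¹) = g * (w * u) * g⁻¹ := by group
        _ = g * (u * w) * g⁻¹ := by rw [(hu.2.2 w hw).eq]
        _ = g * u * g⁻¹ * (g * w * g⁻¹) := by group
    obtain ⟨c, hcx, hc⟩ := NormEven.exists_conj_cent (g • P) hTx
      (S := (P : Subgroup (K ⧸ Z)) ⊓ centralizer ({x} : Set (K ⧸ Z))) (P.isPGroup'.to_le inf_le_left)
      fun y hy => mem_centralizer_singleton_iff.1 hy.2
    have hdR : d ∈ (P : Subgroup (K ⧸ Z)) ⊓ centralizer ({x} : Set (K ⧸ Z)) :=
      ⟨hdP, mem_centralizer_singleton_iff.2 (hdc x hg).symm.eq⟩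
    have hmem : d ∈ ((c⁻¹ • g • P : Sylow 2 (K ⧸ Z)) : Subgroup (K ⧸ Z)) :=
      ⟨c * d * c⁻¹, hc d hdR, by show c⁻¹ * (c * d * c⁻¹) * c⁻¹⁻¹ = d; group⟩
    have heq : (c⁻¹ • g • P : Sylow 2 (K ⧸ Z)) = P := h.unique_quot he _ hmem
    intro y hy
    have hy' : y ∈ ((c⁻¹ • g • P : Sylow 2 (K ⧸ Z)) : Subgroup (K ⧸ Z)) := heq.symm ▸ hy
    obtain ⟨w, hw, rfl⟩ := hy'
    have hcomm : Commute c⁻¹ x := hcx.inv_left
    show Commute (c⁻¹ * w * c⁻¹⁻¹) x
    exact (hcomm.mul_left (hTx w hw)).mul_left hcomm.inv_left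

/-- No involution of the quotient Sylow subgroup is central and fixed by the normaliser. -/
theorem not_fixed (P : Sylow 2 (K ⧸ Z)) {r : K ⧸ Z} (hr : orderOf r = 2) (hrP : r ∈ (P : Subgroup (K ⧸ Z)))
    (hc : ∀ y ∈ (P : Subgroup (K ⧸ Z)), ∀ w ∈ (P : Subgroup (K ⧸ Z)), Commute y w) :
    ∃ n ∈ normalizer ((P : Subgroup (K ⧸ Z)) : Set (K ⧸ Z)), n * r * n⁻¹ ≠ r := by
  haveI := h.simple
  by_contra hall
  push Not at hall
  refine NormEven.isolated_contra h.nonab P hr hrP fun g hg => ?_
  obtain ⟨n, hn, he⟩ := NormEven.central_fusion P (fun w hw => hc w hw r hrP)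
    (fun w hw => hc w hw _ hg) (rfl : g * r * g⁻¹ = g * r * g⁻¹)
  rw [← he]
  exact hall n hn

/-- The quotient has no elementary abelian Sylow 2-subgroup of order at most 8. -/
theorem not_small (S : Sylow 2 K)
    (hel : Cfsg.IsElementaryAbelian 2
      ((S.mapSurjective (QuotientGroup.mk'_surjective Z) : Sylow 2 (K ⧸ Z)) : Subgroup (K ⧸ Z)))
    (h8 : Nat.card ↥((S.mapSurjective (QuotientGroup.mk'_surjective Z) : Sylow 2 (K ⧸ Z)) : Subgroup (K ⧸ Z)) ≤ 8) :
    False := by
  classical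
  set P := S.mapSurjective (QuotientGroup.mk'_surjective Z) with hPdef
  haveI := hel.1
  have hPc : ∀ y ∈ (P : Subgroup (K ⧸ Z)), ∀ w ∈ (P : Subgroup (K ⧸ Z)), Commute y w := fun y hy w hw =>
    congrArg Subtype.val (hel.1.is_comm.comm ⟨y, hy⟩ ⟨w, hw⟩)
  have hzS := h.mem_sylow S
  set ζ : (S : Subgroup K) := ⟨z, hzS⟩
  have hnab : ¬ IsMulCommutative (S : Subgroup K) := fun hab => by
    have h1 := Transfer.inf_commutator_inf_center_eq_bot (S : Subgroup K) hab S.card_coprime_index
    have h2 : z ∈ (S : Subgroup K) ⊓ commutator K ⊓ center K :=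
      ⟨⟨hzS, h.perfect ▸ mem_top z⟩, h.central⟩
    rw [h1, mem_bot] at h2
    exact Involution.ne_one h.ord h2
  -- the order of `S` is twice that of `P`
  let f : (S : Subgroup K) →* (P : Subgroup (K ⧸ Z)) :=
    ((QuotientGroup.mk' Z).comp (S : Subgroup K).subtype).codRestrict _ fun x => ⟨x, x.2, rfl⟩
  have hf : Function.Surjective f := by
    rintro ⟨y, x, hx, rfl⟩
    exact ⟨⟨x, hx⟩, rfl⟩
  have hker : ∀ x, f x = 1 ↔ x = 1 ∨ x = ζ := fun x => by
    rw [Subtype.ext_iff]
    show (QuotientGroup.mk' Z (x : K) = 1) ↔ _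
    rw [QuotientGroup.mk'_apply, QuotientGroup.eq_one_iff, h.mem_Z, Subtype.ext_iff, Subtype.ext_iff]
    rfl
  have hfcard : Nat.card f.ker = 2 := by
    rw [Nat.card_eq_two_iff]
    refine ⟨⟨1, (hker 1).2 (Or.inl rfl)⟩, ⟨ζ, (hker ζ).2 (Or.inr rfl)⟩, ?_, ?_⟩
    · exact fun e => Involution.ne_one h.ord (congrArg Subtype.val (congrArg Subtype.val e)).symm
    · refine Set.eq_univ_of_forall fun x => ?_
      rcases (hker x).1 x.2 with e | e
      · exact Or.inl (Subtype.ext e)
      · exact Or.inr (Subtype.ext e)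
  have hS2 : Nat.card (S : Subgroup K) = 2 * Nat.card (P : Subgroup (K ⧸ Z)) := by
    rw [← f.ker.card_mul_index, hfcard, Subgroup.index_ker, MonoidHom.range_eq_top.2 hf, card_top]
  obtain ⟨k, hk⟩ := IsPGroup.iff_card.1 P.isPGroup'
  have hk3 : k ≤ 3 := by
    by_contra hh
    have : 2 ^ 4 ≤ 2 ^ k := Nat.pow_le_pow_right (by norm_num) (by omega)
    omega
  -- two non-commuting elements
  obtain ⟨a, b, hab⟩ : ∃ a b : (S : Subgroup K), a * b ≠ b * a := by
    by_contra hh
    push Not at hh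
    exact hnab ⟨⟨hh⟩⟩
  have hbr : ∀ x s : (S : Subgroup K), s * x * s⁻¹ = x ∨ s * x * s⁻¹ = x * ζ := by
    intro x s
    have h1 : f (s * x * s⁻¹) = f x := by
      have hc : f s * f x = f x * f s := hel.1.is_comm.comm _ _
      rw [map_mul, map_mul, map_inv, hc, mul_inv_cancel_right]
    have h2 : f (x⁻¹ * (s * x * s⁻¹)) = 1 := by rw [map_mul, map_inv, h1, inv_mul_cancel]
    rcases (hker _).1 h2 with e | e
    · exact Or.inl (inv_mul_eq_one.1 e).symm
    · exact Or.inr (inv_mul_eq_iff_eq_mul.1 e)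
  have hζc : ∀ x : (S : Subgroup K), x * ζ = ζ * x := fun x => Subtype.ext (h.comm x)
  rcases Nat.lt_or_ge k 3 with hk2 | hk2
  · -- four
    have hk2' : k = 2 := by
      by_contra hne
      have h4 : Nat.card (S : Subgroup K) ≤ 4 := by
        rw [hS2, hk]
        have : 2 ^ k ≤ 2 ^ 1 := Nat.pow_le_pow_right (by norm_num) (by omega)
        omega
      refine hnab ?_
      obtain ⟨l, hl⟩ := IsPGroup.iff_card.1 S.isPGroup'
      have hl2 : l ≤ 2 := by
        by_contra hh
        have : 2 ^ 3 ≤ 2 ^ l := Nat.pow_le_pow_right (by norm_num) (by omega)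
        omega
      interval_cases l
      · haveI := (Nat.card_eq_one_iff_unique.1 hl).1
        exact ⟨⟨fun x y => Subsingleton.elim _ _⟩⟩
      · haveI : Fact (Nat.card (S : Subgroup K)).Prime := ⟨by rw [hl]; norm_num⟩
        haveI : IsCyclic (S : Subgroup K) := isCyclic_of_prime_card rfl
        exact IsCyclic.isMulCommutative
      · exact IsPGroup.isMulCommutative_of_card_eq_prime_sq hl
    obtain ⟨e, he⟩ := h.exists_normalPair S
    set d := QuotientGroup.mk' Z e with hd
    have hdP : d ∈ (P : Subgroup (K ⧸ Z)) := ⟨e, he.1, rfl⟩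
    have hd1 : d ≠ 1 := fun h1 => by
      rw [hd, QuotientGroup.mk'_apply, QuotientGroup.eq_one_iff, h.mem_Z] at h1
      exact h1.elim (Involution.ne_one he.2.1) he.2.2.1
    have hdo : orderOf d = 2 := orderOf_eq_prime (hel.2 d hdP) hd1
    obtain ⟨n₀, hn₀, hn₀d⟩ := h.not_fixed P hdo hdP hPc
    -- an element of odd order
    obtain ⟨n, hn, hnd, hnodd⟩ : ∃ n ∈ normalizer ((P : Subgroup (K ⧸ Z)) : Set (K ⧸ Z)),
        n * d * n⁻¹ ≠ d ∧ Odd (orderOf n) := by
      obtain ⟨i, m, hm, hio⟩ := Nat.exists_eq_two_pow_mul_odd (orderOf_pos n₀).ne'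
      refine ⟨n₀ ^ 2 ^ i, pow_mem hn₀ _, fun hfix => hn₀d ?_, ?_⟩
      · have hmP : n₀ ^ m ∈ (P : Subgroup (K ⧸ Z)) := by
          have hp : IsPGroup 2 (zpowers (n₀ ^ m)) := by
            refine IsPGroup.of_card (n := i) ?_
            rw [Nat.card_zpowers, orderOf_pow' _ hm.pos.ne', hio, Nat.gcd_eq_right (dvd_mul_left m _),
              Nat.mul_div_cancel _ hm.pos]
          have hle : zpowers (n₀ ^ m) ≤ normalizer ((P : Subgroup (K ⧸ Z)) : Set (K ⧸ Z)) :=
            zpowers_le.2 (pow_mem hn₀ m)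
          have := P.is_maximal' (hp.to_sup_of_normal_right' P.isPGroup' hle) le_sup_right
          exact this ▸ le_sup_left (b := (P : Subgroup (K ⧸ Z))) (mem_zpowers _)
        have c1 : Commute (n₀ ^ m) d := hPc _ hmP d hdP
        have c2 : Commute (n₀ ^ 2 ^ i) d := mul_inv_eq_iff_eq_mul.1 hfix
        obtain ⟨u, v, huv⟩ : ∃ u v : ℤ, u * (2 ^ i : ℕ) + v * m = 1 := by
          obtain ⟨u, v, huv⟩ := (Int.isCoprime_iff_nat_coprime.2
            (by simpa using (Nat.coprime_two_left.2 hm).pow_left i) : IsCoprime ((2 ^ i : ℕ) : ℤ) m)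
          exact ⟨u, v, huv⟩
        have c3 : Commute n₀ d := by
          have e0 : n₀ = (n₀ ^ 2 ^ i) ^ u * (n₀ ^ m) ^ v := by
            rw [← zpow_natCast, ← zpow_natCast n₀ m, ← zpow_mul, ← zpow_mul, ← zpow_add,
              mul_comm _ u, mul_comm _ v, huv, zpow_one]
          rw [e0]
          exact (c2.zpow_left u).mul_left (c1.zpow_left v)
        rw [c3.eq, mul_inv_cancel_right]
      · rw [orderOf_pow' _ (by positivity), hio, Nat.gcd_eq_right (dvd_mul_right _ m),
          Nat.mul_div_cancel_left _ (by positivity)]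
        exact hm
    set d' := n * d * n⁻¹ with hd'
    set d'' := n * d' * n⁻¹ with hd''
    have hd'd : d'' ≠ d' := fun e1 => hnd (mul_left_cancel (mul_right_cancel
      (show n * d' * n⁻¹ = n * d * n⁻¹ from e1)))
    have hd''d : d'' ≠ d := fun e1 => hnd (by
      have c2 : Commute (n ^ 2) d := by
        refine mul_inv_eq_iff_eq_mul.1 ?_
        calc n ^ 2 * d * (n ^ 2)⁻¹ = d'' := by rw [hd'', hd', pow_two]; group
          _ = d := e1
      obtain ⟨l, hl⟩ := hnodd
      have c1 : Commute (n ^ (2 * l + 1)) d := by rw [← hl, pow_orderOf_eq_one]; exact Commute.one_left d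
      rw [pow_succ', pow_mul] at c1
      have c3 : Commute n d := by
        have := c1.mul_left (c2.pow_left l).inv_left
        rwa [mul_inv_cancel_right] at this
      rw [hd', c3.eq, mul_inv_cancel_right])
    have hnP : ∀ x ∈ (P : Subgroup (K ⧸ Z)), n * x * n⁻¹ ∈ (P : Subgroup (K ⧸ Z)) := fun x hx =>
      (mem_normalizer_iff.1 hn x).1 hx
    -- all three lift to involutions
    obtain ⟨k₀, hk₀⟩ := QuotientGroup.mk'_surjective Z n
    have hlift : ∀ x : K, x ^ 2 = 1 → ∀ y : K, QuotientGroup.mk' Z x = QuotientGroup.mk' Z y → y ^ 2 = 1 := by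
      intro x hx y hxy
      rcases h.mk_eq_iff.1 hxy with rfl | rfl
      · exact hx
      · rw [(show Commute x z from h.comm x).mul_pow, hx, sq, h.mul_self, one_mul]
    have he2 : e ^ 2 = 1 := by rw [← he.2.1, pow_orderOf_eq_one]
    have hsq : ∀ s : (S : Subgroup K), s ^ 2 = 1 := by
      intro s
      have hall : ∀ y ∈ (P : Subgroup (K ⧸ Z)), y = 1 ∨ y = d ∨ y = d' ∨ y = d'' := by
        intro y hy
        by_contra hne
        push Not at hne
        haveI := Fintype.ofFinite (P : Subgroup (K ⧸ Z))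
        have h5 : ({1, ⟨d, hdP⟩, ⟨d', hnP d hdP⟩, ⟨d'', hnP _ (hnP d hdP)⟩, ⟨y, hy⟩} :
            Finset (P : Subgroup (K ⧸ Z))).card = 5 := by
          have hd'1 : d' ≠ 1 := fun e1 => hd1 (conj_eq_one_iff.1 e1)
          have hd''1 : d'' ≠ 1 := fun e1 => hd'1 (conj_eq_one_iff.1 e1)
          rw [Finset.card_insert_of_notMem, Finset.card_insert_of_notMem, Finset.card_insert_of_notMem,
            Finset.card_insert_of_notMem, Finset.card_singleton] <;>
            simp [Subtype.ext_iff, hd1.symm, hd'1.symm, hd''1.symm, hne.1.symm, hne.2.1.symm,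
              hne.2.2.1.symm, hne.2.2.2.symm, Ne.symm hnd, hd''d.symm, hd'd.symm]
        have := h5 ▸ Finset.card_le_univ (α := (P : Subgroup (K ⧸ Z))) _
        rw [← Nat.card_eq_fintype_card, hk, hk2'] at this
        norm_num at this
      refine Subtype.ext ?_
      show (s : K) ^ 2 = 1
      rcases hall _ (show QuotientGroup.mk' Z (s : K) ∈ (P : Subgroup (K ⧸ Z)) from ⟨s, s.2, rfl⟩) with e1 | e1 | e1 | e1
      · exact hlift 1 (one_pow 2) _ (by rw [map_one, e1])
      · exact hlift e he2 _ e1.symm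
      · refine hlift (k₀ * e * k₀⁻¹) (by rw [conj_pow, he2, mul_one, mul_inv_cancel]) _ ?_
        rw [map_mul, map_mul, map_inv, hk₀, e1, hd', hd]
      · refine hlift (k₀ * (k₀ * e * k₀⁻¹) * k₀⁻¹) (by rw [conj_pow, conj_pow, he2]; group) _ ?_
        simp only [map_mul, map_inv, hk₀, e1, hd'', hd', hd]
    exact hab (Commute.eq (by
      have hinv : ∀ x : (S : Subgroup K), x⁻¹ = x := fun x => inv_eq_of_mul_eq_one_right (by rw [← sq, hsq])
      show a * b = b * a
      rw [← hinv (a * b), mul_inv_rev, hinv, hinv]))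
  · -- eight
    have hk' : k = 3 := by omega
    have h16 : Nat.card (S : Subgroup K) = 16 := by rw [hS2, hk, hk']; rfl
    set C : ↥(S : Subgroup K) → Subgroup ↥(S : Subgroup K) := fun x => centralizer {x} with hC
    have hCi : ∀ x s t, s ∉ C x → t ∉ C x → s⁻¹ * t ∈ C x := by
      intro x s t hs ht
      have hs' := (hbr x s).resolve_left fun e => hs (mem_centralizer_singleton_iff.2 (mul_inv_eq_iff_eq_mul.1 e))
      have ht' := (hbr x t).resolve_left fun e => ht (mem_centralizer_singleton_iff.2 (mul_inv_eq_iff_eq_mul.1 e))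
      refine mem_centralizer_singleton_iff.2 (mul_inv_eq_iff_eq_mul.1 ?_)
      calc s⁻¹ * t * x * (s⁻¹ * t)⁻¹ = s⁻¹ * (t * x * t⁻¹) * s := by group
        _ = s⁻¹ * (s * x * s⁻¹) * s := by rw [ht', hs']
        _ = x := by group
    have haa : a ∈ C a := mem_centralizer_singleton_iff.2 rfl
    have hbb : b ∈ C b := mem_centralizer_singleton_iff.2 rfl
    have hab' : a ∉ C b := fun e => hab (mem_centralizer_singleton_iff.1 e)
    have hba' : b ∉ C a := fun e => hab (mem_centralizer_singleton_iff.1 e).symm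
    set W := C a ⊓ C b with hW
    have hcov : ∀ s, s ∈ W ∨ a⁻¹ * s ∈ W ∨ b⁻¹ * s ∈ W ∨ b⁻¹ * (a⁻¹ * s) ∈ W := by
      intro s
      by_cases h1 : s ∈ C a <;> by_cases h2 : s ∈ C b
      · exact Or.inl ⟨h1, h2⟩
      · exact Or.inr (Or.inl ⟨(C a).mul_mem ((C a).inv_mem haa) h1, hCi b a s hab' h2⟩)
      · exact Or.inr (Or.inr (Or.inl ⟨hCi a b s hba' h1, (C b).mul_mem ((C b).inv_mem hbb) h2⟩))
      · refine Or.inr (Or.inr (Or.inr ⟨hCi a b _ hba' fun e => h1 ?_, (C b).mul_mem ((C b).inv_mem hbb) (hCi b a s hab' h2)⟩))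
        simpa using (C a).mul_mem haa e
    have hWle : 16 ≤ 4 * Nat.card W := by
      rw [← h16]
      let F : Fin 4 × W → (S : Subgroup K) := fun p => ![1, a, b, a * b] p.1 * p.2
      have hF : Function.Surjective F := fun s => by
        rcases hcov s with h1 | h1 | h1 | h1
        · exact ⟨(0, ⟨_, h1⟩), by simp [F]⟩
        · exact ⟨(1, ⟨_, h1⟩), by simp [F]⟩
        · exact ⟨(2, ⟨_, h1⟩), by simp [F]⟩
        · exact ⟨(3, ⟨_, h1⟩), by simp [F, mul_assoc]⟩
      have := Nat.card_le_card_of_surjective F hF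
      simpa [Nat.card_prod] using this
    have hW4 : Nat.card W = 4 := by
      obtain ⟨l, hl⟩ := IsPGroup.iff_card.1 (S.isPGroup'.to_subgroup W)
      have hne : Nat.card (C a) ≠ 16 := fun e => hba' (by
        rw [Subgroup.eq_top_of_card_eq _ (e.trans h16.symm)]; exact mem_top b)
      have hlt : 2 * Nat.card W ≤ Nat.card (C a) := by
        obtain ⟨m, hm⟩ := Subgroup.card_dvd_of_le (inf_le_left : W ≤ C a)
        rw [hm]
        have hm0 : m ≠ 0 := fun e => by rw [e, mul_zero] at hm; exact Nat.card_pos.ne' hm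
        have hm1 : m ≠ 1 := fun e => by
          rw [e, mul_one] at hm
          have : W = C a := Subgroup.eq_of_le_of_card_ge inf_le_left (le_of_eq hm)
          exact hab' ((this ▸ haa : a ∈ W)).2
        rw [mul_comm 2]
        exact Nat.mul_le_mul_left _ (by omega)
      obtain ⟨m, hm⟩ := IsPGroup.iff_card.1 (S.isPGroup'.to_subgroup (C a))
      have hm4 : m < 4 := by
        have hle := (Subgroup.card_le_card_group (C a)).trans h16.le
        rw [hm] at hle hne
        by_contra hh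
        have : 2 ^ 4 ≤ 2 ^ m := Nat.pow_le_pow_right (by norm_num) (by omega)
        omega
      rw [hm] at hlt
      rw [hl] at hlt hWle ⊢
      have : 2 ^ m ≤ 2 ^ 3 := Nat.pow_le_pow_right (by norm_num) (by omega)
      have hl2 : l ≤ 2 := by
        by_contra hh
        have : 2 ^ 3 ≤ 2 ^ l := Nat.pow_le_pow_right (by norm_num) (by omega)
        omega
      interval_cases l <;> omega
    have hWc := (IsPGroup.isMulCommutative_of_card_eq_prime_sq (p := 2) (G := W) hW4).is_comm.comm
    have hWcent : W ≤ center (S : Subgroup K) := by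
      intro w hw
      rw [mem_center_iff]
      intro s
      have ca : Commute w a := mem_centralizer_singleton_iff.1 hw.1
      have cb : Commute w b := mem_centralizer_singleton_iff.1 hw.2
      have cW : ∀ u ∈ W, Commute w u := fun u hu => congrArg Subtype.val (hWc ⟨w, hw⟩ ⟨u, hu⟩)
      suffices Commute w s from this.eq.symm
      rcases hcov s with h1 | h1 | h1 | h1
      · exact cW _ h1
      · simpa using ca.mul_right (cW _ h1)
      · simpa using cb.mul_right (cW _ h1)
      · simpa [mul_assoc] using ca.mul_right (cb.mul_right (cW _ h1))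
    set D := center (S : Subgroup K) with hD
    have hD4 : Nat.card D = 4 := by
      have hge : 4 ≤ Nat.card D := hW4 ▸ Subgroup.card_le_of_le hWcent
      obtain ⟨l, hl⟩ := IsPGroup.iff_card.1 (S.isPGroup'.to_subgroup D)
      by_contra hne
      have hl3 : 3 ≤ l := by
        by_contra hh
        interval_cases l <;> omega
      have hdvd : D.index ∣ 2 := by
        have h1 : Nat.card D * D.index = 16 := D.card_mul_index.trans h16
        rw [hl] at h1
        have hl4 : l ≤ 4 := by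
          by_contra hh
          have : 2 ^ 5 ≤ 2 ^ l := Nat.pow_le_pow_right (by norm_num) (by omega)
          have := Nat.le_of_dvd (by norm_num) ⟨D.index, h1.symm⟩
          omega
        interval_cases l <;> norm_num [-Subgroup.index_eq_one] at h1
        · rw [show D.index = 2 by omega]
        · rw [show D.index = 1 by omega]; norm_num
      haveI : IsCyclic ((S : Subgroup K) ⧸ D) := by
        rcases (Nat.dvd_prime Nat.prime_two).1 hdvd with e | e
        · haveI := (Nat.card_eq_one_iff_unique.1 (D.index_eq_card ▸ e)).1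
          infer_instance
        · haveI : Fact (Nat.card ((S : Subgroup K) ⧸ D)).Prime := ⟨by rw [← D.index_eq_card, e]; exact Nat.prime_two⟩
          exact isCyclic_of_prime_card rfl
      exact hnab (isMulCommutative_of_isCyclic_quotient_center_self _)
    -- the only non-trivial element of its image
    set D' := (D.map (S : Subgroup K).subtype).map (QuotientGroup.mk' Z) with hD'
    have hD'mem : ∀ x : D, f (x : (S : Subgroup K)) = 1 ∨ QuotientGroup.mk' Z ((x : (S : Subgroup K)) : K) ∈ D' :=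
      fun x => Or.inr ⟨_, ⟨_, x.2, rfl⟩, rfl⟩
    have hζD : ζ ∈ D := mem_center_iff.2 hζc
    obtain ⟨w, hwD, hw1, hwz⟩ : ∃ w ∈ D, w ≠ 1 ∧ w ≠ ζ := by
      by_contra hall
      push Not at hall
      have hle : Nat.card D ≤ 2 := by
        refine le_trans (Nat.card_le_card_of_injective
          (fun x : D => if (x : (S : Subgroup K)) = 1 then (0 : Fin 2) else 1) fun x y hxy => ?_)
          (by simp)
        by_cases hx : (x : (S : Subgroup K)) = 1 <;> by_cases hy : (y : (S : Subgroup K)) = 1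
        · exact Subtype.ext (hx.trans hy.symm)
        · simp [hx, hy] at hxy
        · simp [hx, hy] at hxy
        · exact Subtype.ext ((hall _ x.2 hx).trans (hall _ y.2 hy).symm)
      omega
    set r := QuotientGroup.mk' Z (w : K) with hr
    have hrP : r ∈ (P : Subgroup (K ⧸ Z)) := ⟨w, w.2, rfl⟩
    have hr1 : r ≠ 1 := fun e1 => by
      rcases (hker w).1 (Subtype.ext e1) with e2 | e2
      · exact hw1 e2
      · exact hwz e2
    obtain ⟨n, hn, hnr⟩ := h.not_fixed P (orderOf_eq_prime (hel.2 r hrP) hr1) hrP hPc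
    obtain ⟨k₀, rfl⟩ := QuotientGroup.mk'_surjective Z n
    have hconjS : ∀ x : K, x ∈ (S : Subgroup K) ↔ k₀ * x * k₀⁻¹ ∈ (S : Subgroup K) := by
      have hmem : ∀ x : K, x ∈ (S : Subgroup K) ↔ QuotientGroup.mk' Z x ∈ (P : Subgroup (K ⧸ Z)) := fun x => by
        refine ⟨fun hx => ⟨x, hx, rfl⟩, ?_⟩
        rintro ⟨y, hy, hyx⟩
        rcases h.mk_eq_iff.1 hyx with e1 | e1
        · exact e1 ▸ hy
        · exact e1 ▸ mul_mem hy hzS
      intro x
      rw [hmem, hmem, map_mul, map_mul, map_inv]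
      exact mem_normalizer_iff.1 hn _
    set w' : (S : Subgroup K) := ⟨k₀ * (w : K) * k₀⁻¹, (hconjS _).1 w.2⟩ with hw'
    have hw'D : w' ∈ D := by
      refine mem_center_iff.2 fun s => Subtype.ext ?_
      show (s : K) * (k₀ * (w : K) * k₀⁻¹) = k₀ * (w : K) * k₀⁻¹ * s
      have hs' : k₀⁻¹ * s * k₀ ∈ (S : Subgroup K) := (hconjS _).2 (by
        rw [show k₀ * (k₀⁻¹ * (s : K) * k₀) * k₀⁻¹ = s by group]; exact s.2)
      have h1 : k₀⁻¹ * (s : K) * k₀ * w = w * (k₀⁻¹ * s * k₀) :=
        congrArg Subtype.val (mem_center_iff.1 hwD ⟨_, hs'⟩)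
      calc (s : K) * (k₀ * w * k₀⁻¹) = k₀ * (k₀⁻¹ * s * k₀ * w) * k₀⁻¹ := by group
        _ = k₀ * (w * (k₀⁻¹ * s * k₀)) * k₀⁻¹ := by rw [h1]
        _ = k₀ * (w : K) * k₀⁻¹ * s := by group
    haveI := Fintype.ofFinite D
    have hcases : w' = 1 ∨ w' = ζ ∨ w' = w ∨ w' = w * ζ := by
      by_contra hne
      push Not at hne
      have h5 : ({⟨1, one_mem D⟩, ⟨ζ, hζD⟩, ⟨w, hwD⟩, ⟨w * ζ, mul_mem hwD hζD⟩, ⟨w', hw'D⟩} : Finset D).card = 5 := by
        have hζ1 : ζ ≠ 1 := fun e => Involution.ne_one h.ord (congrArg Subtype.val e)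
        have hwζ1 : w * ζ ≠ 1 := fun e => hwz (by
          have := eq_inv_of_mul_eq_one_left e
          rwa [show ζ⁻¹ = ζ from inv_eq_of_mul_eq_one_right (Subtype.ext h.mul_self)] at this)
        rw [Finset.card_insert_of_notMem, Finset.card_insert_of_notMem, Finset.card_insert_of_notMem,
          Finset.card_insert_of_notMem, Finset.card_singleton] <;>
          simp [hne.1.symm, hne.2.1.symm, hne.2.2.1.symm, hne.2.2.2.symm, hw1, hw1.symm, hwz, hwz.symm,
            hζ1, hζ1.symm, hwζ1.symm]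
      have := h5 ▸ Finset.card_le_univ (α := D) _
      rw [← Nat.card_eq_fintype_card, hD4] at this
      omega
    refine hnr ?_
    rw [hr, ← map_inv, ← map_mul, ← map_mul]
    refine (h.mk_eq_iff.2 ?_).symm
    rcases hcases with e1 | e1 | e1 | e1
    · exact absurd (Subtype.ext (conj_eq_one_iff.1 (congrArg Subtype.val e1)) : w = 1) hw1
    · refine absurd (Subtype.ext ?_ : w = ζ) hwz
      have e2 : k₀ * (w : K) * k₀⁻¹ = z := congrArg Subtype.val e1
      rw [mul_inv_eq_iff_eq_mul, ← h.comm k₀] at e2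
      exact mul_left_cancel e2
    · exact Or.inl (congrArg Subtype.val e1)
    · exact Or.inr (congrArg Subtype.val e1)

/-- **The quotient has a strongly embedded subgroup.** -/
theorem hasStronglyEmbedded (hMain : Goldschmidt.General.MainAt (K ⧸ Z)) :
    ∃ H : Subgroup (K ⧸ Z), Cfsg.IsStronglyEmbedded H := by
  obtain ⟨S⟩ : Nonempty (Sylow 2 K) := inferInstance
  obtain ⟨A, hA1, hA2, hA3⟩ := h.stronglyClosed S
  obtain ⟨x, y, hxy⟩ : ∃ x y : K ⧸ Z, x * y ≠ y * x := by
    by_contra hh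
    push Not at hh
    exact h.nonab ⟨⟨hh⟩⟩
  rcases hMain h.simple ⟨x, y, hxy⟩ _ A hA1 hA2 hA3 with hse | ⟨hel, h8⟩
  · exact hse
  · exact (h.not_small S hel h8).elim

end Setting

end Cfsg.Agent.RankMeet.Cover
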