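/-
The quasisimple case of S3310, adapter (owner: helper72).

* `coverEmbedded` : modulo a central involution a quasisimple group with rank-one Sylow intersections and
  a second involution has a strongly embedded subgroup
-/
import Cfsg.Agent.Lib.RankMeet.Basic
import Cfsg.Agent.Lib.RankMeet.Cover
import Cfsg.Agent.Lib.Goldschmidt.General.Final

set_option autoImplicit false
set_option linter.style.haveILetI false

namespace Cfsg.Agent.RankMeet

open Subgroup

universe u

theorem coverEmbedded (hTI : Goldschmidt.ThreeInv.ThreeInvTarget.{u}) {K : Type u} [Group K] [Finite K]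
    (hR : RankMeet K) (hperf : commutator K = ⊤) {z : K} (hz : orderOf z = 2) (hzc : ∀ x, Commute x z)
    [(zpowers z).Normal] (hs : IsSimpleGroup (K ⧸ zpowers z)) (hu : ∃ u, orderOf u = 2 ∧ u ≠ z) :
    ∃ H : Subgroup (K ⧸ zpowers z), Cfsg.IsStronglyEmbedded H := by
  have hna : ¬ IsMulCommutative (K ⧸ zpowers z) := fun h => by
    have hle : commutator K ≤ zpowers z := Subgroup.Normal.quotient_commutative_iff_commutator_le.1 h
    haveI := hs
    obtain ⟨x, hx⟩ := exists_ne (1 : K ⧸ zpowers z)
    obtain ⟨y, rfl⟩ := QuotientGroup.mk'_surjective (zpowers z) x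
    exact hx ((QuotientGroup.eq_one_iff y).2 (hle (hperf ▸ mem_top y)))
  have h : Cover.Setting (zpowers z) z := by
    refine ⟨hperf, hz, mem_center_iff.2 fun x => (hzc x).eq, rfl, hs, hna, hu,
      fun t ht htz S T htS htT => ?_⟩
    have hmem : ∀ P : Sylow 2 K, z ∈ (P : Subgroup K) := fun P => by
      haveI : Fact (Nat.Prime 2) := ⟨Nat.prime_two⟩
      exact ((IsPGroup.of_card (n := 1) (G := zpowers z)
        (by rw [Nat.card_zpowers, hz, pow_one])).le_sylow_of_normal P) (mem_zpowers z)
    exact eq_of_four hR ht hz htz (hzc t) htS (hmem S) htT (hmem T)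
  exact h.hasStronglyEmbedded (Goldschmidt.General.mainAt_of hTI _)

end Cfsg.Agent.RankMeet
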