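/-
A cyclic centre of a component with a further involution (owner: helper31).

* `threeFam_of_cover` : the central quotient is in the three families (through `coverEmbedded`).
-/
import Cfsg.Agent.Lib.RankMeet.Components
import Cfsg.Agent.Lib.RankMeet.CoverMain

set_option autoImplicit false
set_option linter.style.haveILetI false
set_option linter.unusedSectionVars false

namespace Cfsg.Agent.RankMeet

open Cfsg Subgroup
open scoped Pointwise

universe u

theorem threeFam_of_cover (hTI : Goldschmidt.ThreeInv.ThreeInvTarget.{u}) {K : Type u} [Group K] [Finite K]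
    (hR : RankMeet K) (hq : Cfsg.IsQuasisimple K) (hZp : IsPGroup 2 (center K)) (hZc : IsCyclic (center K))
    (hZ1 : center K ≠ ⊥) (hu : ∃ u : K, orderOf u = 2 ∧ u ∉ center K) : ThreeFam (K ⧸ center K) := by
  classical
  haveI : Fact (Nat.Prime 2) := ⟨Nat.prime_two⟩
  haveI := hq.1
  haveI := hq.2
  obtain ⟨⟨c, hcZ⟩, hgen⟩ := hZc.exists_zpow_surjective
  have hcen : center K = zpowers c := le_antisymm (fun x hx => by
      obtain ⟨i, hi⟩ := hgen ⟨x, hx⟩
      exact mem_zpowers_iff.2 ⟨i, congrArg Subtype.val hi⟩) (zpowers_le.2 hcZ)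
  have hcc : ∀ g, Commute g c := fun g => mem_center_iff.1 hcZ g
  have hsqZ : c * c ∈ center K := mul_mem hcZ hcZ
  set N := zpowers (c * c) with hN
  have hNle : N ≤ center K := zpowers_le.2 hsqZ
  haveI : N.Normal := ⟨fun x hx g => by
    rwa [(mem_center_iff.1 (hNle hx) g), mul_inv_cancel_right]⟩
  set π := QuotientGroup.mk' N with hπ
  set z := π c with hz
  have hcN : c ∉ N := by
    intro h
    obtain ⟨i, hi⟩ := mem_zpowers_iff.1 h
    obtain ⟨k, hk⟩ := IsPGroup.iff_orderOf.1 hZp ⟨c, hcZ⟩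
    rw [Subgroup.orderOf_mk] at hk
    have h1 : (orderOf c : ℤ) ∣ 2 * i - 1 := orderOf_dvd_iff_zpow_eq_one.2 (by
      have h2 : c ^ (2 * i) = c := by rw [zpow_mul, zpow_two, hi]
      rw [zpow_sub, h2, zpow_one, mul_inv_cancel])
    rcases Nat.eq_zero_or_pos k with rfl | hk0
    · refine hZ1 (hcen.trans ?_)
      rw [zpowers_eq_bot, ← orderOf_eq_one_iff, hk, pow_zero]
    · have h3 : (2 : ℤ) ∣ orderOf c := by
        rw [hk]; exact_mod_cast dvd_pow_self 2 hk0.ne'
      have h4 := dvd_trans h3 h1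
      omega
  have hz2 : orderOf z = 2 := Involution.orderOf_of_sq
    (by rw [hz, ← map_mul]; exact (QuotientGroup.eq_one_iff _).2 (mem_zpowers _))
    fun h => hcN ((QuotientGroup.eq_one_iff _).1 h)
  have hzc : ∀ x, Commute x z := fun x => by
    obtain ⟨g, rfl⟩ := QuotientGroup.mk'_surjective N x
    exact (hcc g).map π
  have himage : (center K).map π = zpowers z := by rw [hcen, MonoidHom.map_zpowers]
  haveI : (zpowers z).Normal := himage ▸ Subgroup.Normal.map inferInstance π (QuotientGroup.mk'_surjective N)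
  have e : (K ⧸ N) ⧸ zpowers z ≃* K ⧸ center K :=
    (QuotientGroup.quotientMulEquivOfEq himage.symm).trans (QuotientGroup.quotientQuotientEquivQuotient N _ hNle)
  haveI : Nontrivial ((K ⧸ N) ⧸ zpowers z) := e.toEquiv.nontrivial
  haveI hs : IsSimpleGroup ((K ⧸ N) ⧸ zpowers z) := e.isSimpleGroup
  -- a lift outside the centre of an element outside `⟨z⟩`
  have hout : ∀ x : K, π x ≠ 1 → π x ≠ z → x ∉ center K := fun x h1 h2 hx => by
    rw [hcen] at hx
    obtain ⟨i, rfl⟩ := mem_zpowers_iff.1 hx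
    rw [map_zpow, ← hz] at h1 h2
    rw [← zpow_mod_orderOf, hz2] at h1 h2
    rcases Int.emod_two_eq_zero_or_one i with hi | hi <;> simp [hi] at h1 h2
  have hR' : RankMeet (K ⧸ N) := by
    intro Sb Tb hne V _ hV2
    by_contra hlt
    obtain ⟨w, hwV, hw1, hwz⟩ : ∃ w ∈ V, (w : K ⧸ N) ≠ 1 ∧ (w : K ⧸ N) ≠ z := by
      by_contra hno
      push Not at hno
      refine hlt (le_trans (Nat.card_le_card_of_injective
        (fun v : V => decide (((v : ↥((Sb : Subgroup (K ⧸ N)) ⊓ Tb)) : K ⧸ N) = 1)) ?_)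
        (by rw [Nat.card_eq_fintype_card, Fintype.card_bool]; norm_num))
      intro v v' h
      refine Subtype.ext (Subtype.ext ?_)
      have h' : (((v : ↥((Sb : Subgroup (K ⧸ N)) ⊓ Tb)) : K ⧸ N) = 1 ↔
          ((v' : ↥((Sb : Subgroup (K ⧸ N)) ⊓ Tb)) : K ⧸ N) = 1) := by simpa using h
      by_cases h1 : ((v : ↥((Sb : Subgroup (K ⧸ N)) ⊓ Tb)) : K ⧸ N) = 1
      · exact h1.trans (h'.1 h1).symm
      · exact (hno _ v.2 h1).trans (hno _ v'.2 fun e => h1 (h'.2 e)).symm
    obtain ⟨S, T, hS, hT, hST⟩ := SylowLift.exists_inf_lift (QuotientGroup.mk'_surjective N) Sb Tb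
    obtain ⟨x, hx, hxw⟩ := hST.ge w.2
    have hxx : x * x ∈ N := by
      rw [← QuotientGroup.eq_one_iff]
      show π (x * x) = 1
      rw [map_mul, hxw, ← pow_two]
      exact congrArg Subtype.val (hV2 w hwV)
    obtain ⟨i, hi⟩ := mem_zpowers_iff.1 hxx
    have hxZ : x ∉ center K := hout x (hxw ▸ hw1) (hxw ▸ hwz)
    have hZle : ∀ W : Sylow 2 K, center K ≤ (W : Subgroup K) := fun W => hZp.le_sylow_of_normal W
    set u := x * c ^ (-i) with hudef
    have hu2 : orderOf u = 2 := Involution.orderOf_of_sq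
      (by
        rw [hudef, mul_assoc, ← mul_assoc (c ^ (-i)), ← ((hcc x).zpow_right (-i)).eq, mul_assoc,
          ← mul_assoc, ← hi, (Commute.refl c).mul_zpow, ← mul_assoc, mul_assoc (c ^ i), ← zpow_add,
          ← zpow_add, ← zpow_add]
        simp)
      fun h => hxZ (by
        rw [show x = (c ^ (-i))⁻¹ by rw [← mul_eq_one_iff_eq_inv]; exact h]
        exact inv_mem (zpow_mem hcZ _))
    obtain ⟨z₀, hz₀⟩ := exists_prime_orderOf_dvd_card' (G := center K) 2 (by
      obtain ⟨k, hk⟩ := IsPGroup.iff_card.1 hZp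
      rw [hk]
      exact dvd_pow_self 2 fun h0 => hZ1 (Subgroup.card_eq_one.1 (by rw [hk, h0, pow_zero])))
    have hne0 : u ≠ (z₀ : K) := fun h => hxZ (by
      rw [show x = u * (c ^ (-i))⁻¹ by rw [hudef, mul_inv_cancel_right], h]
      exact mul_mem z₀.2 (inv_mem (zpow_mem hcZ _)))
    have key : S = T := eq_of_four hR hu2 (by rw [Subgroup.orderOf_coe, hz₀]) hne0
      (mem_center_iff.1 z₀.2 u) (mul_mem hx.1 (hZle S (zpow_mem hcZ _))) (hZle S z₀.2)
      (mul_mem hx.2 (hZle T (zpow_mem hcZ _))) (hZle T z₀.2)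
    exact hne (Sylow.ext (by rw [← hS, ← hT, key]))
  have hperf : commutator (K ⧸ N) = ⊤ := by
    rw [_root_.commutator_def, ← map_top_of_surjective π (QuotientGroup.mk'_surjective N),
      ← map_commutator, ← _root_.commutator_def, Group.IsPerfect.commutator_eq_top]
  obtain ⟨u, hu2, huZ⟩ := hu
  obtain ⟨H, hH⟩ := coverEmbedded hTI hR' hperf hz2 hzc hs ⟨π u, Involution.orderOf_of_sq
    (by rw [← map_mul, Involution.mul_self hu2, map_one])
    (fun h => huZ (hNle ((QuotientGroup.eq_one_iff u).1 h))),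
    fun h => huZ (by
      have h1 : u⁻¹ * c ∈ N := QuotientGroup.eq.1 h
      have h2 := mul_mem hcZ (inv_mem (hNle h1))
      rwa [show c * (u⁻¹ * c)⁻¹ = u by rw [mul_inv_rev, inv_inv, ← mul_assoc, mul_inv_cancel, one_mul]] at h2)⟩
  exact (threeFam_of_stronglyEmbedded hH).congr e.symm

end Cfsg.Agent.RankMeet
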