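/-
A group with one component (owner: helper31).

* `normal_of_unique`, `isSolvable_centralizer`, `centralizer_eq_bot` : the component and its centraliser.
* `lift_outside`, `lift_order_four` : lifts of the involutions of the central quotient.
* `exists_four_of_lift` : the four group a lift gives.
* `index_and_quotient` : `K O₂` has odd index, quotient `K/Z(K)`.
* `conclA_of_quaternion`, `meetCyclic_of_cyclic` : the outcome for quaternion, for cyclic 2-core.
-/
import Cfsg.Agent.Lib.RankMeet.OddIndex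

set_option autoImplicit false
set_option linter.style.haveILetI false
set_option linter.unusedSectionVars false

namespace Cfsg.Agent.RankMeet

open Cfsg Subgroup Components
open scoped Pointwise IsMulCommutative

universe u

variable {X : Type u} [Group X] [Finite X] {K : Subgroup X}

theorem le_of_odd_index {L P : Subgroup X} [L.Normal] (hL : Odd L.index) (hP : IsPGroup 2 ↥P) :
    P ≤ L := fun x hx => by
  obtain ⟨k, hk⟩ := hP ⟨x, hx⟩
  have hk' : x ^ 2 ^ k = 1 := congrArg Subtype.val hk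
  refine (QuotientGroup.eq_one_iff x).1 (orderOf_eq_one_iff.1 (Nat.eq_one_of_dvd_coprimes
    ((Nat.coprime_two_left.2 hL).pow_left k) (orderOf_dvd_of_pow_eq_one ?_) (orderOf_dvd_natCard _)))
  rw [← QuotientGroup.mk_pow, hk', QuotientGroup.mk_one]

theorem normal_of_unique (hK : Cfsg.IsComponent K) (hU : ∀ J, Cfsg.IsComponent J → J = K) : K.Normal :=
  ⟨fun x hx g => by
    have h := hU _ (IsComponent.conj hK g)
    rw [← h]
    exact ⟨x, hx, rfl⟩⟩

theorem isSolvable_centralizer (hcore : Cfsg.oddCore X = ⊥) (hR : RankMeet X)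
    (hns : ¬ Group.IsSolvable X) [K.Normal] (hU : ∀ J, Cfsg.IsComponent J → J = K) :
    Group.IsSolvable ↥(centralizer (K : Set X)) := by
  haveI : Fact (Nat.Prime 2) := ⟨Nat.prime_two⟩
  classical
  set Q := Cfsg.pCore 2 X with hQ
  set C := centralizer (K : Set X) with hC
  have hF : Cfsg.fittingSubgroup X = Q := fitting_eq_pCore_of hcore
  have hnil : Group.IsNilpotent ↥(C ⊓ centralizer (Q : Set X)) := by
    by_contra h
    obtain ⟨J, hJ, hJle⟩ := exists_component_le (S := C ⊓ centralizer (Q : Set X))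
      (Normal.isSubnormal inferInstance) (by rw [hF]; exact inf_le_right) h
    obtain rfl := hU J hJ
    exact IsComponent.not_le_centralizer hJ (hJle.trans inf_le_left)
  have hA : Group.IsSolvable (MulAut Q) := by
    refine ThreeInvol.isSolvable_mulAut_of_four_squareRoots (Cores.isPGroup_pCore 2 X) ?_
    refine le_trans (Nat.card_le_card_of_injective (fun x : {x : Q // x ^ 2 = 1} => decide (x.1 = 1)) ?_)
      (by rw [Nat.card_eq_fintype_card, Fintype.card_bool]; norm_num)
    intro x y h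
    have h' : (x.1 = 1 ↔ y.1 = 1) := by simpa using h
    by_cases hx : x.1 = 1
    · exact Subtype.ext (hx.trans (h'.1 hx).symm)
    · refine Subtype.ext (Subtype.ext (eq_of_involution (Cores.isPGroup_pCore 2 X) (pCore_rankOne hR hns)
        x.1.2 y.1.2 ?_ ?_))
      · rw [Subgroup.orderOf_coe]; exact orderOf_eq_prime x.2 hx
      · rw [Subgroup.orderOf_coe]; exact orderOf_eq_prime y.2 fun e => hx (h'.2 e)
  set ρ : C →* MulAut Q := (MulAut.conjNormal (H := Q)).comp C.subtype with hρ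
  have hker : ∀ g ∈ ρ.ker, (g : X) ∈ C ⊓ centralizer (Q : Set X) := fun g hg => by
    refine ⟨g.2, mem_centralizer_iff.2 fun q hq => ?_⟩
    have h := congrArg (fun e : MulAut Q => ((e ⟨q, hq⟩ : Q) : X)) (MonoidHom.mem_ker.1 hg)
    simp only [hρ, MonoidHom.comp_apply, MulAut.conjNormal_apply, MulAut.one_apply,
      Subgroup.coe_subtype] at h
    exact (mul_inv_eq_iff_eq_mul.1 h).symm
  haveI := hnil
  haveI : Group.IsSolvable ↥ρ.ker :=
    Group.isSolvable_of_isSolvable_injective (f := (C.subtype.comp ρ.ker.subtype).codRestrict _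
      fun g => hker _ g.2) fun g g' e => Subtype.ext (Subtype.ext
        (congrArg (fun w : ↥(C ⊓ centralizer (Q : Set X)) => (w : X)) e))
  exact Group.isSolvable_of_ker_le_range ρ.ker.subtype ρ (by rw [range_subtype])

/-- Without a 2-core the component is its own generalized Fitting subgroup. -/
theorem centralizer_eq_bot (hcore : Cfsg.oddCore X = ⊥) (hQ : Cfsg.pCore 2 X = ⊥)
    (hU : ∀ J, Cfsg.IsComponent J → J = K) : centralizer (K : Set X) = ⊥ := by
  haveI : Fact (Nat.Prime 2) := ⟨Nat.prime_two⟩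
  have hF : Cfsg.fittingSubgroup X = ⊥ := (fitting_eq_pCore_of hcore).trans hQ
  have hle : Cfsg.generalizedFittingSubgroup X ≤ K := by
    rw [Cfsg.generalizedFittingSubgroup, hF, sup_bot_eq]
    exact layer_le fun J hJ => (hU J hJ).le
  exact le_bot_iff.1 (((centralizer_le (SetLike.coe_subset_coe.2 hle)).trans
    centralizer_genFitting_le_fitting).trans hF.le)

/-- The lifts when the involution of the 2-core lies outside `K`. -/
theorem lift_outside (hcore : Cfsg.oddCore X = ⊥) (hR : RankMeet X) (hns : ¬ Group.IsSolvable X)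
    (hK : Cfsg.IsComponent K) {z : X} (hz : orderOf z = 2) (hzQ : z ∈ Cfsg.pCore 2 X) (hzK : z ∉ K) :
    ∀ x ∈ K, x ∉ centralizer (K : Set X) → x * x ∈ centralizer (K : Set X) →
      ∃ r ∈ Cfsg.pCore 2 X, orderOf (x * r) = 2 ∧ x * r ≠ z := by
  haveI : Fact (Nat.Prime 2) := ⟨Nat.prime_two⟩
  intro x hx hxc hxx
  have hbot : ∀ w ∈ K, w ∈ centralizer (K : Set X) → w = 1 := by
    intro w hwK hwc
    by_contra hw1
    obtain ⟨j, hj⟩ := IsPGroup.iff_orderOf.1 (Cores.isPGroup_pCore 2 X)
      ⟨w, center_component_le hcore hK ⟨hwK, hwc⟩⟩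
    rw [Subgroup.orderOf_mk] at hj
    rcases Nat.eq_zero_or_pos j with rfl | hj0
    · exact hw1 (orderOf_eq_one_iff.1 (by simpa using hj))
    have ho : orderOf (w ^ 2 ^ (j - 1)) = 2 := by
      rw [orderOf_pow' _ (by positivity), hj, Nat.gcd_eq_right (pow_dvd_pow 2 (by omega)),
        Nat.pow_div (by omega) (by norm_num), show j - (j - 1) = 1 by omega, pow_one]
    have h := eq_of_involution (Cores.isPGroup_pCore 2 X) (pCore_rankOne hR hns)
      (pow_mem (center_component_le hcore hK ⟨hwK, hwc⟩) _) hzQ ho hz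
    exact hzK (h ▸ pow_mem hwK _)
  refine ⟨1, one_mem _, ?_, ?_⟩
  · rw [mul_one]
    exact Involution.orderOf_of_sq (hbot _ (mul_mem hx hx) hxx) fun e => hxc (e ▸ one_mem _)
  · rw [mul_one]
    exact fun e => hzK (e ▸ hx)

/-- The lifts through an element of order four centralising `K`. -/
theorem lift_order_four {z c : X} (hz : orderOf z = 2) {R : Subgroup X} (hcR : c ∈ R)
    (hcK : c ∈ centralizer (K : Set X)) (hcc : c * c = z)
    (hZ : ∀ x ∈ K, x ∈ centralizer (K : Set X) → x = 1 ∨ x = z) :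
    ∀ x ∈ K, x ∉ centralizer (K : Set X) → x * x ∈ centralizer (K : Set X) →
      ∃ r ∈ R, orderOf (x * r) = 2 ∧ x * r ≠ z := by
  intro x hx hxc hxx
  have hzc' : z ∈ centralizer (K : Set X) := hcc ▸ mul_mem hcK hcK
  rcases hZ _ (mul_mem hx hx) hxx with h | h
  · refine ⟨1, one_mem _, ?_, ?_⟩
    · rw [mul_one]; exact Involution.orderOf_of_sq h fun e => hxc (e ▸ one_mem _)
    · rw [mul_one]; exact fun e => hxc (e ▸ hzc')
  · have hcx : x * c = c * x := hcK x hx
    have hne : ∀ w, x * c = w → w ∈ centralizer (K : Set X) → False := fun w e hw => hxc (by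
      rw [show x = w * c⁻¹ by rw [← e, mul_inv_cancel_right]]
      exact mul_mem hw (inv_mem hcK))
    refine ⟨c, hcR, Involution.orderOf_of_sq ?_ fun e => hne 1 e (one_mem _), fun e => hne z e hzc'⟩
    calc x * c * (x * c) = x * (c * x) * c := by group
      _ = x * (x * c) * c := by rw [hcx]
      _ = x * x * (c * c) := by group
      _ = z * z := by rw [h, hcc]
      _ = 1 := Involution.mul_self hz

/-- An involution of the central quotient. -/
theorem exists_square_central (hcore : Cfsg.oddCore X = ⊥) (hK : Cfsg.IsComponent K) :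
    ∃ (P : Sylow 2 K) (x : K), x ∈ (P : Subgroup K) ∧ (x : X) ∉ centralizer (K : Set X) ∧
      (x : X) * x ∈ centralizer (K : Set X) := by
  haveI : Fact (Nat.Prime 2) := ⟨Nat.prime_two⟩
  haveI := hK.2.2
  have h2 : 2 ∣ Nat.card (K ⧸ center K) := by
    by_contra h
    exact component_not_isSolvable hK ((Group.isSolvable_iff_subgroup_quotient (center K)).2
      ⟨inferInstance, OddOrderTheorem.solvable (Nat.odd_iff.2 (by omega))⟩)
  obtain ⟨w, hw⟩ := exists_prime_orderOf_dvd_card' 2 h2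
  obtain ⟨Pb, hPb⟩ := (IsPGroup.of_card (p := 2) (n := 1) (G := zpowers w)
    (by rw [Nat.card_zpowers, hw, pow_one])).exists_le_sylow
  obtain ⟨P, -, hP⟩ := SylowLift.exists_le_map_eq (QuotientGroup.mk'_surjective (center K)) Pb
    (R := ⊥) IsPGroup.of_bot (by simp)
  obtain ⟨x, hx, hxw⟩ := hP.ge (hPb (mem_zpowers w))
  refine ⟨P, x, hx, fun h => ?_, ?_⟩
  · have h1 : x ∈ center K := mem_center_iff.2 fun k => Subtype.ext (h k.1 k.2)
    exact Involution.ne_one hw (hxw.symm.trans ((QuotientGroup.eq_one_iff x).2 h1))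
  · have h1 : x * x ∈ center K := by
      rw [← QuotientGroup.eq_one_iff]
      show QuotientGroup.mk' (center K) (x * x) = 1
      rw [map_mul, hxw]
      exact Involution.mul_self hw
    exact fun k hk => congrArg Subtype.val (mem_center_iff.1 h1 ⟨k, hk⟩)

/-- The four group given by a lift through the 2-core. -/
theorem exists_four_of_lift (hcore : Cfsg.oddCore X = ⊥) (hK : Cfsg.IsComponent K) {z : X}
    (hzQ : z ∈ Cfsg.pCore 2 X) (hzc : ∀ g, Commute g z)
    (hlift : ∀ x ∈ K, x ∉ centralizer (K : Set X) → x * x ∈ centralizer (K : Set X) →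
      ∃ r ∈ Cfsg.pCore 2 X, orderOf (x * r) = 2 ∧ x * r ≠ z) :
    ∃ (P : Sylow 2 K) (a : X), a ∈ (P : Subgroup K).map K.subtype ⊔ Cfsg.pCore 2 X ∧
      z ∈ (P : Subgroup K).map K.subtype ⊔ Cfsg.pCore 2 X ∧ orderOf a = 2 ∧ a ≠ z ∧ Commute a z := by
  obtain ⟨P, x, hxP, hxc, hxx⟩ := exists_square_central hcore hK
  obtain ⟨r, hr, ho, hne⟩ := hlift x x.2 hxc hxx
  exact ⟨P, (x : X) * r, mul_mem (mem_sup_left ⟨x, hxP, rfl⟩) (mem_sup_right hr), mem_sup_right hzQ,
    ho, hne, hzc _⟩

/-- `K O₂` has odd index and quotient `K/Z(K)`. -/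
theorem index_and_quotient (hcore : Cfsg.oddCore X = ⊥) (hR : RankMeet X) [K.Normal]
    (hK : Cfsg.IsComponent K) (h3 : ThreeFam (K ⧸ center K)) (P : Sylow 2 K) {a b : X}
    (ha : orderOf a = 2) (hb : orderOf b = 2) (hab : a ≠ b) (hc : Commute a b)
    (haA : a ∈ (P : Subgroup K).map K.subtype ⊔ Cfsg.pCore 2 X)
    (hbA : b ∈ (P : Subgroup K).map K.subtype ⊔ Cfsg.pCore 2 X) :
    Odd (K ⊔ Cfsg.pCore 2 X).index ∧
      Nonempty (↥(K ⊔ Cfsg.pCore 2 X) ⧸ (Cfsg.pCore 2 X).subgroupOf (K ⊔ Cfsg.pCore 2 X) ≃*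
        K ⧸ center K) := by
  haveI : Fact (Nat.Prime 2) := ⟨Nat.prime_two⟩
  set Q := Cfsg.pCore 2 X with hQ
  set C := centralizer (K : Set X) with hC
  set A := (P : Subgroup K).map K.subtype ⊔ Q with hA
  have hKQ : ∀ q ∈ Q, ∀ k ∈ K, q * k = k * q := fun q hq k hk =>
    component_le_centralizer_pCore hK hk q hq
  have hQC : Q ≤ C := fun q hq k hk => (hKQ q hq k hk).symm
  have hAM : A ≤ K ⊔ C := sup_le ((map_subtype_le _).trans le_sup_left) (hQC.trans le_sup_right)
  have hodd := odd_index_of_component hR hK h3 ha hb hab hc (hAM haA) (hAM hbA)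
  -- a Sylow subgroup over `A`, normalised by `C`
  obtain ⟨S, hS⟩ := ((P.isPGroup'.map K.subtype).to_sup_of_normal_right
    (Cores.isPGroup_pCore 2 X) : IsPGroup 2 A).exists_le_sylow
  have hCS : C ≤ normalizer ((S : Subgroup X) : Set X) := fun g hg => by
    refine mem_normalizer_of_four_normalizer hR hS ha hb hab hc haA hbA ?_
    refine Coprime.mem_normalizer_of_forall fun x hx => ?_
    obtain ⟨p, hp, q, hq, rfl⟩ := (Coprime.mem_sup_iff (N := (P : Subgroup K).map K.subtype) (H := Q)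
      (fun q hq => Coprime.mem_normalizer_of_forall fun y hy => by
        rwa [hKQ q hq y ((map_subtype_le _) hy), mul_inv_cancel_right])).1 hx
    rw [show g * (p * q) * g⁻¹ = (g * p * g⁻¹) * (g * q * g⁻¹) by group,
      ← hg p ((map_subtype_le _) hp), mul_inv_cancel_right]
    exact mul_mem (mem_sup_left hp) (mem_sup_right ((inferInstance : Q.Normal).conj_mem q hq g))
  have hSC : (S : Subgroup X) ⊓ C ≤ Q := by
    haveI : (((S : Subgroup X) ⊓ C).subgroupOf C).Normal := ⟨fun x hx g => mem_subgroupOf.2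
      ⟨(mem_normalizer_iff.1 (hCS g.2) x).1 (mem_subgroupOf.1 hx).1, (g * x * g⁻¹).2⟩⟩
    have h1 : ((S : Subgroup X) ⊓ C).subgroupOf C ≤ Cfsg.pCore 2 C :=
      Cores.le_pCore inferInstance (S.isPGroup'.to_le inf_le_left).comap_subtype
    have h2 := map_mono (f := C.subtype) h1
    rw [map_subgroupOf_eq_of_le inf_le_right, Cores.pCore_map_subtype] at h2
    exact h2.trans inf_le_left
  refine ⟨?_, ?_⟩
  · have h1 : Odd ((K ⊔ Q).relIndex (K ⊔ C)) := by
      refine Nat.not_even_iff_odd.1 fun heven => ?_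
      have h2 : (K ⊔ Q).relIndex (K ⊔ C) = (K ⊔ Q).relIndex C := by
        rw [← relIndex_sup_right C (K := K ⊔ Q)]
        congr 1
        exact le_antisymm (sup_le (le_sup_left.trans le_sup_right) le_sup_left)
          (sup_le le_sup_right (sup_le le_sup_left (hQC.trans le_sup_right)))
      rw [h2] at heven
      have h3 := (even_iff_two_dvd.1 heven).trans
        (relIndex_dvd_of_le_left C (hSC.trans le_sup_right : (S : Subgroup X) ⊓ C ≤ K ⊔ Q))
      rw [inf_relIndex_right] at h3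
      exact S.not_dvd_index (h3.trans (ClassIndex.relIndex_dvd_index_of_normal_right _ C))
    rw [← relIndex_mul_index (sup_le le_sup_left (hQC.trans le_sup_right) : K ⊔ Q ≤ K ⊔ C)]
    exact h1.mul hodd
  · have he : Q.subgroupOf K = center K := by
      ext x
      rw [mem_subgroupOf, mem_center_iff]
      refine ⟨fun h k => Subtype.ext ((hKQ x h k k.2).symm), fun h => ?_⟩
      exact center_component_le hcore hK ⟨x.2, fun k hk => congrArg Subtype.val (h ⟨k, hk⟩)⟩
    exact ⟨(QuotientGroup.quotientInfEquivProdNormalQuotient K Q).symm.trans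
      (QuotientGroup.quotientMulEquivOfEq he)⟩

/-- The first alternative. -/
theorem conclA_of_quaternion (hcore : Cfsg.oddCore X = ⊥) (hR : RankMeet X) [K.Normal]
    (hK : Cfsg.IsComponent K) (h3 : ThreeFam (K ⧸ center K)) (P : Sylow 2 K) {a b : X}
    (ha : orderOf a = 2) (hb : orderOf b = 2) (hab : a ≠ b) (hc : Commute a b)
    (haA : a ∈ (P : Subgroup K).map K.subtype ⊔ Cfsg.pCore 2 X)
    (hbA : b ∈ (P : Subgroup K).map K.subtype ⊔ Cfsg.pCore 2 X)
    (hQ : ∃ n : ℕ, Nonempty (↥(Cfsg.pCore 2 X) ≃* QuaternionGroup (2 ^ (n + 1)))) : ConclA X := by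
  obtain ⟨hodd, ⟨e⟩⟩ := index_and_quotient hcore hR hK h3 P ha hb hab hc haA hbA
  exact ⟨K ⊔ Cfsg.pCore 2 X, inferInstance, hodd, le_sup_right, hQ, h3.congr e⟩

/-- With cyclic 2-core all meets are cyclic. -/
theorem meetCyclic_of_cyclic (hcore : Cfsg.oddCore X = ⊥) (hR : RankMeet X) [K.Normal]
    (hK : Cfsg.IsComponent K) (h3 : ThreeFam (K ⧸ center K)) (P : Sylow 2 K) {a b : X}
    (ha : orderOf a = 2) (hb : orderOf b = 2) (hab : a ≠ b) (hc : Commute a b)
    (haA : a ∈ (P : Subgroup K).map K.subtype ⊔ Cfsg.pCore 2 X)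
    (hbA : b ∈ (P : Subgroup K).map K.subtype ⊔ Cfsg.pCore 2 X)
    (hQ : IsCyclic ↥(Cfsg.pCore 2 X)) : CyclicMeet.MeetCyclic X := by
  haveI : Fact (Nat.Prime 2) := ⟨Nat.prime_two⟩
  obtain ⟨hodd, ⟨e⟩⟩ := index_and_quotient hcore hR hK h3 P ha hb hab hc haA hbA
  set Q := Cfsg.pCore 2 X with hQdef
  set M := K ⊔ Q with hM
  have hle : ∀ S : Sylow 2 X, (S : Subgroup X) ≤ M := fun S => le_of_odd_index hodd S.isPGroup'
  intro S T hne
  let f : M →* M ⧸ Q.subgroupOf M := QuotientGroup.mk' _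
  have hker : ∀ W : Sylow 2 X, f.ker ≤ (W : Subgroup X).subgroupOf M := fun W x hx => by
    rw [QuotientGroup.ker_mk'] at hx
    exact Cores.pCore_le_sylow W (mem_subgroupOf.1 hx)
  haveI := hK.2.2
  haveI : Nontrivial (M ⧸ Q.subgroupOf M) := e.toEquiv.nontrivial
  haveI : IsSimpleGroup (M ⧸ Q.subgroupOf M) := e.isSimpleGroup
  have hfs : Function.Surjective f := QuotientGroup.mk'_surjective _
  set Sb := (S.subtype (hle S)).mapSurjective hfs
  set Tb := (T.subtype (hle T)).mapSurjective hfs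
  have hne' : Sb ≠ Tb := fun h => hne (by
    have h1 := congrArg (fun W : Sylow 2 (M ⧸ Q.subgroupOf M) =>
      ((W : Subgroup (M ⧸ Q.subgroupOf M)).comap f).map M.subtype) h
    simp only [Sb, Tb, Sylow.coe_mapSurjective, comap_map_eq_self (hker S), comap_map_eq_self (hker T),
      Sylow.coe_subtype, map_subgroupOf_eq_of_le (hle S), map_subgroupOf_eq_of_le (hle T)] at h1
    exact Sylow.ext h1)
  have hJ : (S : Subgroup X) ⊓ (T : Subgroup X) ≤ Q := fun x hx => by
    have h1 : f ⟨x, hle S hx.1⟩ ∈ (Sb : Subgroup (M ⧸ Q.subgroupOf M)) ⊓ Tb :=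
      ⟨⟨_, hx.1, rfl⟩, ⟨⟨x, hle S hx.1⟩, hx.2, rfl⟩⟩
    rw [(h3.congr e).ti hne', mem_bot, QuotientGroup.mk'_apply, QuotientGroup.eq_one_iff] at h1
    exact h1
  exact isCyclic_of_injective (inclusion hJ) (inclusion_injective hJ)

end Cfsg.Agent.RankMeet
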