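/-
Quaternion 2-subgroups modulo their centre (owner: helper31).

* `q z` : the quotient by `⟨z⟩`; `q_eq_iff`.
* `Frame P z a b k` : `P = ⟨a, b⟩` quaternion of order `2 ^ (k + 3)`; `h = a ^ 2 ^ k`.
* `Frame.exists_fix` : an element squaring into `⟨z⟩` that does not invert `h` gives one centralising `h, b`.
-/
import Cfsg.Agent.Lib.RankMeet.Components

set_option autoImplicit false
set_option linter.style.haveILetI false
set_option linter.unusedSectionVars false

namespace Cfsg.Agent.RankMeet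

open Cfsg Subgroup

universe u

variable {X : Type u} [Group X] [Finite X]

/-- The quotient by `⟨z⟩`. -/
abbrev q (z : X) [(zpowers z).Normal] : X →* X ⧸ zpowers z := QuotientGroup.mk' (zpowers z)

theorem mem_zpowers_two {z x : X} (hz : orderOf z = 2) : x ∈ zpowers z ↔ x = 1 ∨ x = z := by
  constructor
  · intro h
    obtain ⟨i, rfl⟩ := mem_zpowers_iff.1 h
    rw [← zpow_mod_orderOf, hz]
    rcases Int.emod_two_eq_zero_or_one i with hi | hi <;> simp [hi]
  · rintro (rfl | rfl)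
    · exact one_mem _
    · exact mem_zpowers _

theorem q_eq_iff {z : X} [(zpowers z).Normal] (hz : orderOf z = 2) (hzc : ∀ g, Commute g z) {x y : X} :
    q z x = q z y ↔ x = y ∨ x = y * z := by
  rw [QuotientGroup.mk'_apply, QuotientGroup.mk'_apply, QuotientGroup.eq, mem_zpowers_two hz,
    inv_mul_eq_one, inv_mul_eq_iff_eq_mul]
  constructor
  · rintro (h | h)
    · exact Or.inl h
    · refine Or.inr ?_
      rw [h, mul_assoc, Involution.mul_self hz, mul_one]
  · rintro (h | h)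
    · exact Or.inl h
    · refine Or.inr ?_
      rw [h, mul_assoc, Involution.mul_self hz, mul_one]

theorem q_eq_one_iff {z : X} [(zpowers z).Normal] (hz : orderOf z = 2) {x : X} :
    q z x = 1 ↔ x = 1 ∨ x = z := by
  rw [QuotientGroup.mk'_apply, QuotientGroup.eq_one_iff, mem_zpowers_two hz]

theorem q_z {z : X} [(zpowers z).Normal] : q z z = 1 :=
  (QuotientGroup.eq_one_iff z).2 (mem_zpowers z)

/-- A quaternion group with its generators. -/
structure Frame (P : Subgroup X) (z a b : X) (k : ℕ) : Prop where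
  ha : a ∈ P
  hb : b ∈ P
  orda : orderOf a = 2 ^ (k + 2)
  powa : a ^ 2 ^ (k + 1) = z
  bb : b * b = z
  bab : b * a * b⁻¹ = a⁻¹
  card : Nat.card P = 2 ^ (k + 3)

namespace Frame

variable {P : Subgroup X} {z a b : X} {k : ℕ} (F : Frame P z a b k)

include F

theorem z_order : orderOf z = 2 := by
  rw [← F.powa, orderOf_pow' _ (by positivity), F.orda,
    Nat.gcd_eq_right (pow_dvd_pow 2 (Nat.le_succ _)), Nat.pow_div (Nat.le_succ _) (by norm_num),
    show k + 2 - (k + 1) = 1 by omega, pow_one]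

theorem conj_pow_b (i : ℕ) : b * a ^ i * b⁻¹ = (a ^ i)⁻¹ := by rw [← conj_pow, F.bab, inv_pow]

theorem b_not_mem : b ∉ zpowers a := fun h => by
  have hc : Commute b a := by
    obtain ⟨i, rfl⟩ := mem_zpowers_iff.1 h
    exact (Commute.refl a).zpow_left i
  have h1 := F.bab
  rw [hc.eq, mul_inv_cancel_right, eq_inv_iff_mul_eq_one, ← pow_two] at h1
  have h2 := orderOf_dvd_of_pow_eq_one h1
  rw [F.orda] at h2
  have h3 := Nat.le_of_dvd (by norm_num) h2
  have h4 : 2 ^ 2 ≤ 2 ^ (k + 2) := Nat.pow_le_pow_right (by norm_num) (by omega)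
  omega

theorem cases {p : X} (hp : p ∈ P) : ∃ i : ℕ, p = a ^ i ∨ p = a ^ i * b := by
  have hA : zpowers a ≤ P := zpowers_le.2 F.ha
  have hidx : ((zpowers a).subgroupOf P).index = 2 := by
    have h1 := ((zpowers a).subgroupOf P).card_mul_index
    rw [Nat.card_congr (subgroupOfEquivOfLe hA).toEquiv, Nat.card_zpowers, F.orda, F.card,
      show 2 ^ (k + 3) = 2 ^ (k + 2) * 2 by ring] at h1
    exact Nat.eq_of_mul_eq_mul_left (by positivity) h1
  by_cases h : p ∈ zpowers a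
  · obtain ⟨i, hi⟩ := (mem_powers_iff_mem_zpowers.2 h : p ∈ Submonoid.powers a)
    exact ⟨i, Or.inl hi.symm⟩
  · have h1 : (⟨p, hp⟩ : P) * (⟨b, F.hb⟩ : P)⁻¹ ∈ (zpowers a).subgroupOf P :=
      (mul_mem_iff_of_index_two hidx).2 (iff_of_false (fun h' => h (mem_subgroupOf.1 h'))
        fun h' => F.b_not_mem (by simpa using inv_mem (mem_subgroupOf.1 h')))
    obtain ⟨i, hi⟩ := (mem_powers_iff_mem_zpowers.2 (mem_subgroupOf.1 h1) : p * b⁻¹ ∈ Submonoid.powers a)
    refine ⟨i, Or.inr ?_⟩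
    rw [show a ^ i = p * b⁻¹ from hi, inv_mul_cancel_right]

theorem sq_outer (i : ℕ) : a ^ i * b * (a ^ i * b) = z := by
  calc a ^ i * b * (a ^ i * b) = a ^ i * (b * a ^ i * b⁻¹) * (b * b) := by group
    _ = z := by rw [F.conj_pow_b, mul_inv_cancel, one_mul, F.bb]

theorem outer_conj (e i : ℕ) : a ^ e * (a ^ i * b) * (a ^ e)⁻¹ = a ^ (2 * e) * (a ^ i * b) := by
  have h0 : b * (a ^ e)⁻¹ * b⁻¹ = a ^ e := by rw [← conj_inv, F.conj_pow_b, inv_inv]
  have h1 : b * (a ^ e)⁻¹ = a ^ e * b := mul_inv_eq_iff_eq_mul.1 h0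
  rw [mul_assoc (a ^ e), mul_assoc (a ^ i), h1, ← mul_assoc (a ^ i), ← pow_add, ← mul_assoc, ← pow_add,
    ← mul_assoc, ← pow_add]
  congr 2
  omega

/-- The element of order four in the centre modulo `⟨z⟩`. -/
theorem h_mem : a ^ 2 ^ k ∈ P := pow_mem F.ha _

theorem hh : a ^ 2 ^ k * a ^ 2 ^ k = z := by
  rw [← pow_add, ← F.powa, pow_succ, mul_two]

theorem b_conj_h : b * a ^ 2 ^ k * b⁻¹ = (a ^ 2 ^ k)⁻¹ := F.conj_pow_b _

theorem h_ne_inv : a ^ 2 ^ k ≠ (a ^ 2 ^ k)⁻¹ := fun h => by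
  rw [eq_inv_iff_mul_eq_one, F.hh] at h
  exact Involution.ne_one F.z_order h

theorem q_commute_h [(zpowers z).Normal] {p : X} (hp : p ∈ P) : Commute (q z p) (q z (a ^ 2 ^ k)) := by
  have hhi : q z (a ^ 2 ^ k)⁻¹ = q z (a ^ 2 ^ k) := by
    rw [map_inv, inv_eq_iff_mul_eq_one, ← map_mul, F.hh, q_z]
  have hb' : Commute (q z b) (q z (a ^ 2 ^ k)) := by
    show q z b * q z (a ^ 2 ^ k) = q z (a ^ 2 ^ k) * q z b
    rw [← mul_inv_eq_iff_eq_mul, ← map_inv, ← map_mul, ← map_mul, F.b_conj_h, hhi]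
  obtain ⟨i, rfl | rfl⟩ := F.cases hp
  · rw [map_pow, map_pow]; exact (Commute.refl _).pow_pow _ _
  · rw [map_mul]
    refine Commute.mul_left ?_ hb'
    rw [map_pow, map_pow]; exact (Commute.refl _).pow_pow _ _

theorem eq_of_sq [(zpowers z).Normal] {y : X} (hy : y ∈ P) (hy2 : y * y = 1 ∨ y * y = z)
    (hc : y * a ^ 2 ^ k * y⁻¹ = a ^ 2 ^ k) : q z y = 1 ∨ q z y = q z (a ^ 2 ^ k) := by
  obtain ⟨i, rfl | rfl⟩ := F.cases hy
  · have h4 : a ^ (4 * i) = 1 := by
      have hz2 := Involution.mul_self F.z_order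
      rw [show 4 * i = i + i + (i + i) by omega, pow_add, pow_add]
      rcases hy2 with h | h <;> rw [h]
      · exact one_mul 1
      · exact hz2
    have hdvd := orderOf_dvd_of_pow_eq_one h4
    rw [F.orda, show 2 ^ (k + 2) = 4 * 2 ^ k by ring] at hdvd
    obtain ⟨j, rfl⟩ := Nat.dvd_of_mul_dvd_mul_left (by norm_num) hdvd
    have h2 : q z (a ^ 2 ^ k) * q z (a ^ 2 ^ k) = 1 := by rw [← map_mul, F.hh, q_z]
    rw [pow_mul, map_pow]
    obtain ⟨l, hl | hl⟩ := Nat.even_or_odd' j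
    · left; rw [hl, pow_mul, pow_two, h2, one_pow]
    · right; rw [hl, pow_succ, pow_mul, pow_two, h2, one_pow, one_mul]
  · exfalso
    apply F.h_ne_inv
    rw [show a ^ i * b * a ^ 2 ^ k * (a ^ i * b)⁻¹ = a ^ i * (b * a ^ 2 ^ k * b⁻¹) * (a ^ i)⁻¹ by group,
      F.b_conj_h, ((Commute.refl a).pow_pow i (2 ^ k)).inv_right.eq, mul_inv_cancel_right] at hc
    exact hc.symm

/-- Only the centre centralises `h` and an element outside `⟨a⟩`. -/
theorem q_eq_one_of_centralizes [(zpowers z).Normal] {p : X} (hp : p ∈ P) {j : ℕ}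
    (hh : Commute p (a ^ 2 ^ k)) (hb : Commute p (a ^ j * b)) : q z p = 1 := by
  obtain ⟨i, rfl | rfl⟩ := F.cases hp
  · have h1 : Commute (a ^ i) b := by
      have h0 : Commute (a ^ i) ((a ^ j)⁻¹ * (a ^ j * b)) :=
        ((Commute.refl a).pow_pow i j).inv_right.mul_right hb
      rwa [inv_mul_cancel_left] at h0
    have h2 : a ^ i * a ^ i = 1 := by
      have := F.conj_pow_b i
      rw [← h1.eq, mul_inv_cancel_right] at this
      exact eq_inv_iff_mul_eq_one.1 this
    rcases F.eq_of_sq (pow_mem F.ha _) (Or.inl h2)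
        (by rw [((Commute.refl a).pow_pow i (2 ^ k)).eq, mul_inv_cancel_right]) with h | h
    · exact h
    · exfalso
      rw [QuotientGroup.mk'_apply, QuotientGroup.mk'_apply, QuotientGroup.eq, mem_zpowers_two F.z_order,
        inv_mul_eq_one, inv_mul_eq_iff_eq_mul] at h
      rcases h with e | e
      · exact Involution.ne_one F.z_order (F.hh.symm.trans (by rw [← e, h2]))
      · refine Involution.ne_one F.z_order (F.hh.symm.trans ?_)
        have hcz : Commute (a ^ i) z := by rw [← F.powa]; exact (Commute.refl a).pow_pow _ _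
        rw [e, mul_assoc, ← mul_assoc z, ← hcz.eq, mul_assoc (a ^ i) z z, Involution.mul_self F.z_order,
          mul_one, h2]
  · exfalso
    apply F.h_ne_inv
    have := hh.eq
    rw [← mul_inv_eq_iff_eq_mul, show a ^ i * b * a ^ 2 ^ k * (a ^ i * b)⁻¹ =
      a ^ i * (b * a ^ 2 ^ k * b⁻¹) * (a ^ i)⁻¹ by group, F.b_conj_h,
      ((Commute.refl a).pow_pow i (2 ^ k)).inv_right.eq, mul_inv_cancel_right] at this
    exact this.symm

/-- In order at least sixteen an element normalising `P` normalises `⟨a⟩`. -/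
theorem conj_a_mem (hk : 1 ≤ k) {g : X} (hgP : ∀ x ∈ P, g * x * g⁻¹ ∈ P) :
    g * a * g⁻¹ ∈ zpowers a := by
  obtain ⟨i, hi | hi⟩ := F.cases (hgP a F.ha)
  · rw [hi]; exact pow_mem (mem_zpowers a) i
  · exfalso
    have h4 : (g * a * g⁻¹) ^ 4 = 1 := by
      rw [hi, show (4 : ℕ) = 2 + 2 by rfl, pow_add, pow_two, F.sq_outer, Involution.mul_self F.z_order]
    rw [conj_pow, conj_eq_one_iff] at h4
    have h5 := Nat.le_of_dvd (by norm_num) (orderOf_dvd_of_pow_eq_one h4)
    rw [F.orda] at h5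
    have h6 : 2 ^ 3 ≤ 2 ^ (k + 2) := Nat.pow_le_pow_right (by norm_num) (by omega)
    omega

/-- An element squaring into `⟨z⟩` that normalises `⟨a⟩` and does not invert `h` can be corrected by `1` or
`h` to centralise `h` and `b`. -/
theorem exists_fix (hzc : ∀ g, Commute g z) {g : X} (hg2 : g * g = 1 ∨ g * g = z)
    (hgP : ∀ x ∈ P, g * x * g⁻¹ ∈ P) (hga : g * a * g⁻¹ ∈ zpowers a)
    (hne : g * a ^ 2 ^ k * g⁻¹ ≠ (a ^ 2 ^ k)⁻¹) :
    ∃ c, (c = g ∨ c = a ^ 2 ^ k * g) ∧ (c * c = 1 ∨ c * c = z) ∧ Commute c (a ^ 2 ^ k) ∧ Commute c b := by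
  obtain ⟨r, hr⟩ := (mem_powers_iff_mem_zpowers.2 hga : g * a * g⁻¹ ∈ Submonoid.powers a)
  have hr' : ∀ i : ℕ, g * a ^ i * g⁻¹ = a ^ (r * i) := fun i => by rw [← conj_pow, ← hr, pow_mul]
  set h := a ^ 2 ^ k with hh
  have ho : orderOf h = 4 := by
    rw [hh, orderOf_pow' _ (by positivity), F.orda, Nat.gcd_eq_right (pow_dvd_pow 2 (by omega)),
      Nat.pow_div (by omega) (by norm_num), show k + 2 - k = 2 by omega]
  have hhg : g * h * g⁻¹ = h ^ r := by rw [hh, hr', ← pow_mul, mul_comm r]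
  have hmod : h ^ r = h ^ (r % 4) := by rw [← ho, pow_mod_orderOf]
  have hfix : g * h * g⁻¹ = h ∧ r % 4 = 1 := by
    have h4 : r % 4 < 4 := Nat.mod_lt _ (by norm_num)
    have hord : orderOf (g * h * g⁻¹) = 4 := by rw [Involution.orderOf_conj, ho]
    rw [hhg, hmod] at hord hne
    rw [hhg, hmod]
    interval_cases hm : r % 4
    · simp at hord
    · exact ⟨pow_one h, rfl⟩
    · rw [orderOf_pow' _ (by norm_num), ho] at hord; norm_num at hord
    · refine absurd (eq_inv_of_mul_eq_one_left ?_) hne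
      rw [← pow_succ, show 3 + 1 = orderOf h by rw [ho], pow_orderOf_eq_one]
  have hgg : ∀ x, g * (g * x * g⁻¹) * g⁻¹ = x := fun x => by
    have hcx : Commute x (g * g) := by
      rcases hg2 with e | e <;> rw [e]
      · exact Commute.one_right x
      · exact hzc x
    calc g * (g * x * g⁻¹) * g⁻¹ = g * g * x * (g * g)⁻¹ := by group
      _ = x := by rw [← hcx.eq, mul_inv_cancel_right]
  obtain ⟨i, hi | hi⟩ := F.cases (hgP b F.hb)
  · exfalso
    have hb' := hgg b
    rw [hi, hr'] at hb'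
    exact F.b_not_mem (hb' ▸ pow_mem (mem_zpowers a) _)
  have hb2 := hgg b
  rw [hi, show g * (a ^ i * b) * g⁻¹ = g * a ^ i * g⁻¹ * (g * b * g⁻¹) by group, hr', hi, ← mul_assoc,
    mul_eq_right, ← pow_add] at hb2
  have hdvd := orderOf_dvd_of_pow_eq_one hb2
  rw [F.orda, show r * i + i = i * (r + 1) by ring] at hdvd
  obtain ⟨w, hw⟩ : ∃ w, r + 1 = 2 * w ∧ Odd w := by
    refine ⟨(r + 1) / 2, ?_, Nat.odd_iff.2 ?_⟩ <;> omega
  have hdvd2 : 2 ^ (k + 1) ∣ i := by
    rw [hw.1, show 2 ^ (k + 2) = 2 * 2 ^ (k + 1) by ring, ← mul_assoc, mul_comm i 2, mul_assoc] at hdvd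
    exact (Nat.Coprime.pow_left _ (Nat.coprime_two_left.2 hw.2)).dvd_of_dvd_mul_right
      (Nat.dvd_of_mul_dvd_mul_left (by norm_num) hdvd)
  obtain ⟨j, rfl⟩ := hdvd2
  rw [pow_mul, F.powa] at hi
  rcases Nat.even_or_odd' j with ⟨l, hl | hl⟩
  · have hb1 : g * b * g⁻¹ = b := by
      rw [hi, hl, pow_mul, pow_two, Involution.mul_self F.z_order, one_pow, one_mul]
    exact ⟨g, Or.inl rfl, hg2, mul_inv_eq_iff_eq_mul.1 hfix.1, mul_inv_eq_iff_eq_mul.1 hb1⟩
  · have hb1 : g * b * g⁻¹ = b * z := by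
      rw [hi, hl, pow_succ, pow_mul, pow_two, Involution.mul_self F.z_order, one_pow, one_mul,
        (hzc b).eq]
    have hgh : Commute g h := mul_inv_eq_iff_eq_mul.1 hfix.1
    refine ⟨h * g, Or.inr rfl, ?_, ((Commute.refl h).mul_left hgh), ?_⟩
    · have e : h * g * (h * g) = z * (g * g) := by
        rw [mul_assoc h g, ← mul_assoc g h g, hgh.eq, mul_assoc h g g, ← mul_assoc h h, hh, F.hh]
      rcases hg2 with e' | e' <;> rw [e, e']
      · exact Or.inr (mul_one z)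
      · exact Or.inl (Involution.mul_self F.z_order)
    · refine mul_inv_eq_iff_eq_mul.1 ?_
      have h1 : b * h * b⁻¹ = h⁻¹ := F.b_conj_h
      calc h * g * b * (h * g)⁻¹ = h * (g * b * g⁻¹) * h⁻¹ := by group
        _ = h * b * (z * h⁻¹) := by rw [hb1]; group
        _ = h * b * (h⁻¹ * z) := by rw [(hzc h⁻¹).eq]
        _ = h * b * h⁻¹ * z := by group
        _ = h * (h * b) * z := by
          rw [mul_assoc h b, show b * h⁻¹ = h * b from
            mul_inv_eq_iff_eq_mul.1 (by rw [← conj_inv, h1, inv_inv])]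
        _ = z * b * z := by rw [← mul_assoc h h, hh, F.hh]
        _ = b := by rw [← (hzc b).eq, mul_assoc, Involution.mul_self F.z_order, mul_one]

end Frame

end Cfsg.Agent.RankMeet
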