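/-
A quaternion component with 2-core of order two: the pairing argument (owner: helper31).

* `QCtx` : the setting.
* `QCtx.exists_frame` : generators of `S ∩ K`.
* `QCtx.false_of_inverts` : an outer involution `t` such that the outer elements squaring into `⟨z⟩` and
  commuting with `t` modulo `⟨z⟩` all invert `h` cannot exist.
-/
import Cfsg.Agent.Lib.RankMeet.QuatFrame
import Cfsg.Agent.Lib.QGroup.CoreFree

set_option autoImplicit false
set_option linter.style.haveILetI false
set_option linter.unusedSectionVars false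

namespace Cfsg.Agent.RankMeet

open Cfsg Subgroup Components
open scoped Pointwise commutatorElement

universe u

variable {X : Type u} [Group X] [Finite X]

/-- One component with quaternion Sylow 2-subgroups, over a 2-core `⟨z⟩`. -/
structure QCtx (K : Subgroup X) (z : X) : Prop where
  meet : RankMeet X
  core : Cfsg.oddCore X = ⊥
  normal : K.Normal
  comp : Cfsg.IsComponent K
  hz : orderOf z = 2
  zc : ∀ g, Commute g z
  zK : z ∈ K
  cent : ∀ x ∈ centralizer (K : Set X), x = 1 ∨ x = z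
  quat : ∀ P : Sylow 2 K, ∃ n : ℕ, Nonempty (↥(P : Subgroup K) ≃* QuaternionGroup (2 ^ (n + 1)))

namespace QCtx

variable {K : Subgroup X} {z : X} (c : QCtx K z)

include c

theorem normalZ : (zpowers z).Normal := ⟨fun x hx g => by
  rcases (mem_zpowers_two c.hz).1 hx with rfl | rfl
  · simp
  · rw [(c.zc g).eq, mul_inv_cancel_right]; exact mem_zpowers x⟩

theorem mem_sylow (S : Sylow 2 X) : z ∈ S := by
  haveI : Fact (Nat.Prime 2) := ⟨Nat.prime_two⟩
  haveI := c.normalZ
  exact (IsPGroup.of_card (n := 1) (G := zpowers z) (by rw [Nat.card_zpowers, c.hz, pow_one])).le_sylow_of_normal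
    S (mem_zpowers z)

/-- The only involution of `K` is `z`. -/
theorem sq_cases {x : X} (hx : x ∈ K) (hxx : x * x = 1) : x = 1 ∨ x = z := by
  haveI : Fact (Nat.Prime 2) := ⟨Nat.prime_two⟩
  by_contra hne
  push Not at hne
  have ho := Involution.orderOf_of_sq hxx hne.1
  have hxz : orderOf (⟨x, hx⟩ : K) = 2 := by rw [Subgroup.orderOf_mk, ho]
  obtain ⟨P, hP⟩ := (IsPGroup.of_card (n := 1) (G := zpowers (⟨x, hx⟩ : K))
    (by rw [Nat.card_zpowers, hxz, pow_one])).exists_le_sylow
  have hzP : (⟨z, c.zK⟩ : K) ∈ (P : Subgroup K) := by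
    haveI : (zpowers (⟨z, c.zK⟩ : K)).Normal := ⟨fun w hw g => by
      obtain ⟨i, rfl⟩ := mem_zpowers_iff.1 hw
      have hcm : Commute g (⟨z, c.zK⟩ : K) := Subtype.ext (c.zc g).eq
      rw [(hcm.zpow_right i).eq, mul_inv_cancel_right]
      exact zpow_mem (mem_zpowers _) i⟩
    exact (IsPGroup.of_card (n := 1) (G := zpowers (⟨z, c.zK⟩ : K))
      (by rw [Nat.card_zpowers, Subgroup.orderOf_mk, c.hz, pow_one])).le_sylow_of_normal P (mem_zpowers _)
  obtain ⟨n, ⟨e⟩⟩ := c.quat P
  have key : ∀ w : (P : Subgroup K), orderOf w = 2 →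
      e w = QuaternionGroup.a ((2 ^ (n + 1) : ℕ) : ZMod (2 * 2 ^ (n + 1))) := fun w hw =>
    QGroup.quaternion_involution rfl (Involution.mul_self (by rw [MulEquiv.orderOf_eq, hw]))
      (Involution.ne_one (by rw [MulEquiv.orderOf_eq, hw]))
  have h1 := key ⟨_, hP (mem_zpowers _)⟩ (by rw [Subgroup.orderOf_mk, hxz])
  have h2 := key ⟨_, hzP⟩ (by rw [Subgroup.orderOf_mk, Subgroup.orderOf_mk, c.hz])
  exact hne.2 (congrArg (fun w : (P : Subgroup K) => ((w : K) : X)) (e.injective (h1.trans h2.symm)))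

theorem exists_frame (S : Sylow 2 X) : ∃ a b k, Frame ((S : Subgroup X) ⊓ K) z a b k := by
  haveI : Fact (Nat.Prime 2) := ⟨Nat.prime_two⟩
  haveI := c.normal
  have hp : IsPGroup 2 ↥((S : Subgroup X).subgroupOf K) := S.isPGroup'.comap_subtype
  have hidx : ¬ 2 ∣ ((S : Subgroup X).subgroupOf K).index := fun h =>
    S.not_dvd_index (h.trans (ClassIndex.relIndex_dvd_index_of_normal_right _ K))
  obtain ⟨n, ⟨e⟩⟩ := c.quat (hp.toSylow hidx)
  let f : ↥((S : Subgroup X).subgroupOf K) ≃* QuaternionGroup (2 ^ (n + 1)) := e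
  haveI : NeZero (2 ^ (n + 1)) := ⟨by positivity⟩
  have hmem : ∀ x : ↥((S : Subgroup X).subgroupOf K), ((x : K) : X) ∈ (S : Subgroup X) ⊓ K :=
    fun x => ⟨x.2, x.1.2⟩
  set A := f.symm (QuaternionGroup.a 1) with hA
  set B := f.symm (QuaternionGroup.xa 0) with hB
  have hordA : orderOf ((A : K) : X) = 2 ^ (n + 2) := by
    rw [Subgroup.orderOf_coe, Subgroup.orderOf_coe, hA, MulEquiv.orderOf_eq, QuaternionGroup.orderOf_a_one,
      pow_succ' 2 (n + 1)]
  have hpow : ((A : K) : X) ^ 2 ^ (n + 1) = z := by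
    rcases c.sq_cases (pow_mem (A : K).2 _) (by
      rw [← pow_add, ← two_mul, ← pow_succ', ← hordA, pow_orderOf_eq_one]) with h | h
    · have := Nat.le_of_dvd (by positivity) (orderOf_dvd_of_pow_eq_one h)
      rw [hordA, pow_succ 2 (n + 1)] at this
      have := Nat.two_pow_pos (n + 1)
      omega
    · exact h
  refine ⟨((A : K) : X), ((B : K) : X), n, hmem A, hmem B, hordA, hpow, ?_, ?_, ?_⟩
  · rw [← hpow]
    have h1 : B * B = A ^ 2 ^ (n + 1) := f.injective (by
      rw [map_mul, map_pow, hA, hB, f.apply_symm_apply, f.apply_symm_apply, ← pow_two,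
        QuaternionGroup.xa_sq, QuaternionGroup.a_one_pow])
    exact congrArg (fun w : ↥((S : Subgroup X).subgroupOf K) => ((w : K) : X)) h1
  · have h1 : B * A * B⁻¹ = A⁻¹ := f.injective (by
      rw [map_mul, map_mul, map_inv, map_inv, hA, hB, f.apply_symm_apply, f.apply_symm_apply,
        mul_inv_eq_iff_eq_mul]
      show QuaternionGroup.xa (0 : ZMod (2 * 2 ^ (n + 1))) * QuaternionGroup.a 1 =
        QuaternionGroup.a (-1) * QuaternionGroup.xa 0
      rw [QuaternionGroup.xa_mul_a, QuaternionGroup.a_mul_xa, zero_add, zero_sub, neg_neg])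
    exact congrArg (fun w : ↥((S : Subgroup X).subgroupOf K) => ((w : K) : X)) h1
  · have h1 : Nat.card ↥((S : Subgroup X) ⊓ K) = Nat.card ↥((S : Subgroup X).subgroupOf K) := by
      rw [← inf_subgroupOf_right]
      exact (Nat.card_congr (subgroupOfEquivOfLe inf_le_right).toEquiv).symm
    rw [h1, Nat.card_congr f.toEquiv, Nat.card_eq_fintype_card, QuaternionGroup.card]
    ring

theorem conj_inf {S : Sylow 2 X} {g : X} (hg : g ∈ normalizer ((S : Subgroup X) : Set X)) :
    ∀ x ∈ (S : Subgroup X) ⊓ K, g * x * g⁻¹ ∈ (S : Subgroup X) ⊓ K := fun x hx =>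
  ⟨(mem_normalizer_iff.1 hg x).1 hx.1, c.normal.conj_mem x hx.2 g⟩

theorem mem_normalizer_of_conj {S : Sylow 2 X} {g t : X} (htS : t ∈ S) (ht : orderOf t = 2) (htz : t ≠ z)
    (hg : g * t * g⁻¹ ∈ S) : g ∈ normalizer ((S : Subgroup X) : Set X) :=
  mem_normalizer_of_four c.meet ht c.hz htz (c.zc t) htS (c.mem_sylow S) hg
    (by rw [(c.zc g).eq, mul_inv_cancel_right]; exact c.mem_sylow S)

theorem mem_normalizer_of_q [(zpowers z).Normal] {S : Sylow 2 X} {g t : X} (htS : t ∈ S)
    (ht : orderOf t = 2) (htz : t ≠ z) (hg : Commute (q z g) (q z t)) :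
    g ∈ normalizer ((S : Subgroup X) : Set X) := by
  refine c.mem_normalizer_of_conj htS ht htz ?_
  have h1 : q z (g * t * g⁻¹) = q z t := by
    rw [map_mul, map_mul, map_inv, hg.eq, mul_inv_cancel_right]
  rcases (q_eq_iff c.hz c.zc).1 h1 with h | h <;> rw [h]
  · exact htS
  · exact mul_mem htS (c.mem_sylow S)

theorem mem_sylow_of_sq {S : Sylow 2 X} {g : X} (hg : g ∈ normalizer ((S : Subgroup X) : Set X))
    (hgg : g * g = 1 ∨ g * g = z) : g ∈ S := by
  have h4 : g ^ (2 ^ 2) = 1 := by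
    rw [show (2 : ℕ) ^ 2 = 2 + 2 by norm_num, pow_add, pow_two]
    rcases hgg with h | h <;> rw [h]
    · exact one_mul 1
    · exact Involution.mul_self c.hz
  obtain ⟨j, -, hj⟩ := (Nat.dvd_prime_pow Nat.prime_two).1 (orderOf_dvd_of_pow_eq_one h4)
  exact CentralMeet.mem_sylow_of_two_elt S hg hj

/-- Only the centre of `K` centralises `K` modulo `⟨z⟩`. -/
theorem cent_q [(zpowers z).Normal] {w : X} (hw : ∀ x ∈ K, Commute (q z x) (q z w)) :
    w ∈ centralizer (K : Set X) := by
  have h1 : ⁅K, zpowers w⁆ ≤ zpowers z := by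
    refine (commutator_le).2 fun x hx y hy => ?_
    obtain ⟨i, rfl⟩ := mem_zpowers_iff.1 hy
    rw [← QuotientGroup.eq_one_iff]
    show q z ⁅x, w ^ i⁆ = 1
    rw [map_commutatorElement, commutatorElement_eq_one_iff_mul_comm, map_zpow]
    exact ((hw x hx).zpow_right i).eq
  have h2 : ⁅zpowers z, K⁆ = ⊥ := by
    rw [commutator_eq_bot_iff_le_centralizer, zpowers_le]
    exact fun x _ => (c.zc x).eq
  have h3 := commutator_eq_bot_of_perfect_of_le (IsComponent.perfect c.comp) h1 h2
  rw [commutator_comm, commutator_eq_bot_iff_le_centralizer] at h3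
  exact h3 (mem_zpowers w)

/-- The pairing argument. -/
theorem false_of_inverts [(zpowers z).Normal] {S : Sylow 2 X} {a b : X} {k : ℕ}
    (F : Frame ((S : Subgroup X) ⊓ K) z a b k) {t : X} (htS : t ∈ S) (ht : orderOf t = 2) (htK : t ∉ K)
    (hinv : ∀ g ∈ S, g ∉ K → (g * g = 1 ∨ g * g = z) → Commute (q z g) (q z t) →
      g * a ^ 2 ^ k * g⁻¹ = (a ^ 2 ^ k)⁻¹) : False := by
  haveI := c.normal
  have htz : t ≠ z := fun h => htK (h ▸ c.zK)
  have htt := Involution.mul_self ht
  have hsq : ∀ {w : X}, q z w * q z w = 1 → w * w = 1 ∨ w * w = z := fun {w} h =>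
    (q_eq_one_iff c.hz).1 (by rw [map_mul, h])
  have hhinv : q z (a ^ 2 ^ k)⁻¹ = q z (a ^ 2 ^ k) := by
    rw [map_inv, inv_eq_iff_mul_eq_one, ← map_mul, F.hh, q_z]
  -- inner elements commuting with `t`
  have hinner : ∀ w ∈ S, w ∈ K → (w * w = 1 ∨ w * w = z) → Commute (q z w) (q z t) →
      q z w = 1 ∨ q z w = q z (a ^ 2 ^ k) := by
    intro w hwS hwK hw2 hwt
    refine F.eq_of_sq ⟨hwS, hwK⟩ hw2 ?_
    set h := a ^ 2 ^ k with hh
    have h1 : q z (w * h * w⁻¹) = q z h := by
      rw [map_mul, map_mul, map_inv, (F.q_commute_h ⟨hwS, hwK⟩).eq, mul_inv_cancel_right]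
    rcases (q_eq_iff c.hz c.zc).1 h1 with e | e
    · exact e
    exfalso
    have hwtK : w * t ∉ K := fun h2 => htK (by
      have := mul_mem (inv_mem hwK) h2
      rwa [inv_mul_cancel_left] at this)
    have hqt : q z t * q z t = 1 := by rw [← map_mul, htt, map_one]
    have hqw : q z w * q z w = 1 := by
      rw [← map_mul]; exact (q_eq_one_iff c.hz).2 hw2
    have h2 := hinv (w * t) (mul_mem hwS htS) hwtK (hsq (by
        rw [map_mul, mul_assoc (q z w), ← mul_assoc (q z t), ← hwt.eq, mul_assoc (q z w) (q z t) (q z t),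
          hqt, mul_one, hqw]))
      (by rw [map_mul]; exact hwt.mul_left (Commute.refl _))
    have h3 := hinv t htS htK (Or.inl htt) (Commute.refl _)
    rw [show w * t * h * (w * t)⁻¹ = w * (t * h * t⁻¹) * w⁻¹ by group, h3,
      show w * h⁻¹ * w⁻¹ = (w * h * w⁻¹)⁻¹ by group, inv_inj, e] at h2
    have hz1 : z = 1 := mul_left_cancel (a := h) (h2.trans (mul_one h).symm)
    exact Involution.ne_one c.hz hz1
  -- every element of `K` squaring to `z` centralises `h` modulo `⟨z⟩`
  have hall : ∀ x ∈ K, x * x = z → Commute (q z x) (q z (a ^ 2 ^ k)) := by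
    intro x hxK hxx
    have hx1 : q z x ≠ 1 := fun h => by
      rcases (q_eq_one_iff c.hz).1 h with rfl | rfl
      · exact Involution.ne_one c.hz (by rw [← hxx, one_mul])
      · exact Involution.ne_one c.hz (hxx.symm.trans (Involution.mul_self c.hz))
    have hqx : orderOf (q z x) = 2 := Involution.orderOf_of_sq (by rw [← map_mul, hxx, q_z]) hx1
    have hqt1 : q z t ≠ 1 := fun h => htK (by
      rcases (q_eq_one_iff c.hz).1 h with rfl | rfl
      · exact one_mem K
      · exact c.zK)
    have hqt : orderOf (q z t) = 2 := Involution.orderOf_of_sq (by rw [← map_mul, htt, map_one]) hqt1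
    have hnc : ¬ IsConj (q z x) (q z t) := by
      intro hc
      obtain ⟨w, hw⟩ := isConj_iff.1 hc
      obtain ⟨g, rfl⟩ := QuotientGroup.mk'_surjective _ w
      have h1 : q z (g * x * g⁻¹) = q z t := by rw [map_mul, map_mul, map_inv, hw]
      have hmem : g * x * g⁻¹ ∈ K := c.normal.conj_mem x hxK g
      rcases (q_eq_iff c.hz c.zc).1 h1.symm with e | e
      · exact htK (e ▸ hmem)
      · exact htK (e ▸ mul_mem hmem c.zK)
    obtain ⟨y', hy', hyx, hyt, -⟩ := Involution.exists_commuting_involution hqx hqt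
      (Involution.even_of_not_isConj hqx hqt hnc)
    obtain ⟨y, rfl⟩ := QuotientGroup.mk'_surjective _ y'
    have hy2 := hsq (Involution.mul_self hy')
    have hyS : y ∈ S := c.mem_sylow_of_sq (c.mem_normalizer_of_q htS ht htz hyt) hy2
    by_cases hyK : y ∈ K
    · rcases hinner y hyS hyK hy2 hyt with e | e
      · exact absurd e (Involution.ne_one hy')
      · rw [← e]; exact hyx.symm
    · -- the partner is an involution
      have hqw : q z (y * t⁻¹) * q z (y * t⁻¹) = 1 := by
        rw [Involution.inv_eq ht, map_mul, mul_assoc (q z y), ← mul_assoc (q z t), ← hyt.eq,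
          mul_assoc (q z y) (q z t) (q z t), Involution.mul_self hqt, mul_one, Involution.mul_self hy']
      have hwK : y * t⁻¹ ∈ K := by
        by_contra hwK
        have hc : Commute (q z (y * t⁻¹)) (q z t) := by
          rw [Involution.inv_eq ht, map_mul]; exact hyt.mul_left (Commute.refl _)
        have h2 := hinv _ (mul_mem hyS (inv_mem htS)) hwK (hsq hqw) hc
        rw [show y * t⁻¹ * a ^ 2 ^ k * (y * t⁻¹)⁻¹ = y * (t⁻¹ * a ^ 2 ^ k * t) * y⁻¹ by group,
          show t⁻¹ * a ^ 2 ^ k * t = t * a ^ 2 ^ k * t⁻¹ by rw [Involution.inv_eq ht],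
          hinv t htS htK (Or.inl htt) (Commute.refl _),
          show y * (a ^ 2 ^ k)⁻¹ * y⁻¹ = (y * a ^ 2 ^ k * y⁻¹)⁻¹ by group,
          hinv y hyS hyK hy2 hyt, inv_inv] at h2
        exact F.h_ne_inv h2
      have hy0 : y = y * t⁻¹ * t := (inv_mul_cancel_right y t).symm
      have hy1 : y * y = 1 := by
        rcases hinner _ (mul_mem hyS (inv_mem htS)) hwK (hsq hqw)
            (by rw [Involution.inv_eq ht, map_mul]; exact hyt.mul_left (Commute.refl _)) with e | e
        · rcases (q_eq_one_iff c.hz).1 e with e' | e' <;> rw [hy0, e']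
          · rw [one_mul, htt]
          · rw [← (c.zc t).eq, mul_assoc t z, ← mul_assoc z t z, ← (c.zc t).eq, mul_assoc t z z,
              Involution.mul_self c.hz, mul_one, htt]
        · have key : ∀ w, t * w * t⁻¹ = w⁻¹ → w * t * (w * t) = 1 := fun w hw => by
            rw [mul_assoc w t, ← mul_assoc t w t, show t * w * t = w⁻¹ by
              rw [← hw, Involution.inv_eq ht], mul_inv_cancel]
          have h3 := hinv t htS htK (Or.inl htt) (Commute.refl _)
          rcases (q_eq_iff c.hz c.zc).1 e with e' | e' <;> rw [hy0, e'] <;> refine key _ ?_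
          · exact h3
          · rw [show t * (a ^ 2 ^ k * z) * t⁻¹ = t * a ^ 2 ^ k * t⁻¹ * (t * z * t⁻¹) by group, h3,
              (c.zc t).eq, mul_inv_cancel_right, mul_inv_rev, Involution.inv_eq c.hz, (c.zc (a ^ 2 ^ k)⁻¹).eq]
      have hy1' : orderOf y = 2 := Involution.orderOf_of_sq hy1 fun e => hyK (e ▸ one_mem K)
      have hxS : x ∈ S := c.mem_sylow_of_sq
        (c.mem_normalizer_of_q hyS hy1' (fun e => hyK (e ▸ c.zK)) hyx.symm) (Or.inr hxx)
      exact F.q_commute_h ⟨hxS, hxK⟩
  -- these elements generate `K`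
  set h : K := ⟨a ^ 2 ^ k, F.h_mem.2⟩ with hh
  set M : Subgroup K := closure {x : K | (x : X) * x = z} with hM
  haveI : M.Normal := ⟨fun y hy g => by
    have hle : M.map (MulAut.conj g).toMonoidHom ≤ M := by
      rw [hM, MonoidHom.map_closure]
      refine closure_mono ?_
      rintro _ ⟨x, hx, rfl⟩
      show ((g * x * g⁻¹ : K) : X) * ((g * x * g⁻¹ : K) : X) = z
      push_cast
      rw [show (g : X) * x * (g : X)⁻¹ * ((g : X) * x * (g : X)⁻¹) = g * ((x : X) * x) * (g : X)⁻¹ by group,
        hx, (c.zc g).eq, mul_inv_cancel_right]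
    exact hle ⟨y, hy, rfl⟩⟩
  have hMc : ∀ x ∈ M, Commute (q z (x : X)) (q z (a ^ 2 ^ k)) := fun x hx => by
    induction hx using Subgroup.closure_induction with
    | mem y hy => exact hall y y.2 hy
    | one => rw [Subgroup.coe_one, map_one]; exact Commute.one_left _
    | mul y y' _ _ h1 h2 => rw [Subgroup.coe_mul, map_mul]; exact h1.mul_left h2
    | inv y _ h1 => rw [Subgroup.coe_inv, map_inv]; exact h1.inv_left
  have hhM : h ∈ M := subset_closure (show ((h : X) * h = z) from F.hh)
  rcases IsQuasisimple.normal_eq_top_or_le_center c.comp.2 M with hT | hT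
  · have hC := c.cent_q (w := a ^ 2 ^ k) fun x hx => hMc ⟨x, hx⟩ (hT ▸ mem_top _)
    rcases c.cent _ hC with e | e
    · exact Involution.ne_one c.hz (F.hh.symm.trans (by rw [e, one_mul]))
    · exact Involution.ne_one c.hz (F.hh.symm.trans (by rw [e, Involution.mul_self c.hz]))
  · have hC : a ^ 2 ^ k ∈ centralizer (K : Set X) :=
      (center_map_subtype K).le ⟨h, hT hhM, rfl⟩ |>.2
    rcases c.cent _ hC with e | e
    · exact Involution.ne_one c.hz (F.hh.symm.trans (by rw [e, one_mul]))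
    · exact Involution.ne_one c.hz (F.hh.symm.trans (by rw [e, Involution.mul_self c.hz]))

end QCtx

end Cfsg.Agent.RankMeet
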