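/-
A quaternion component of order at least sixteen (owner: helper31).

* `QCtx.exists_fusion` : an element of `K` carries `b` into `⟨a⟩`.
* `QCtx.false_of_centralizing` : nothing outside `K` squaring into `⟨z⟩` centralises `h` and `b`.
-/
import Cfsg.Agent.Lib.RankMeet.QuatPair
import Cfsg.Agent.S0111

set_option autoImplicit false
set_option linter.style.haveILetI false
set_option linter.unusedSectionVars false

namespace Cfsg.Agent.RankMeet

open Cfsg Subgroup Components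
open scoped Pointwise commutatorElement IsMulCommutative

universe u

variable {X : Type u} [Group X] [Finite X]

namespace QCtx

variable {K : Subgroup X} {z : X} (c : QCtx K z)

include c

theorem exists_fusion [(zpowers z).Normal] {S : Sylow 2 X} {a b : X} {k : ℕ}
    (F : Frame ((S : Subgroup X) ⊓ K) z a b k) : ∃ g ∈ K, g * b * g⁻¹ ∈ zpowers a := by
  haveI : Fact (Nat.Prime 2) := ⟨Nat.prime_two⟩
  haveI := c.normal
  haveI := c.comp.2.2
  set π := QuotientGroup.mk' (center K) with hπ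
  have hp : IsPGroup 2 ↥((S : Subgroup X).subgroupOf K) := S.isPGroup'.comap_subtype
  have hidx : ¬ 2 ∣ ((S : Subgroup X).subgroupOf K).index := fun h =>
    S.not_dvd_index (h.trans (ClassIndex.relIndex_dvd_index_of_normal_right _ K))
  let P0 : Sylow 2 K := hp.toSylow hidx
  let P' : Sylow 2 (K ⧸ center K) := P0.mapSurjective (QuotientGroup.mk'_surjective (center K))
  set a0 : K := ⟨a, F.ha.2⟩ with ha0
  set b0 : K := ⟨b, F.hb.2⟩ with hb0
  set M' := (zpowers a0).map π with hM'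
  have hzA : z ∈ zpowers a := F.powa ▸ pow_mem (mem_zpowers a) _
  have hlift : ∀ x : K, π x ∈ M' → (x : X) ∈ zpowers a := by
    intro x hx
    obtain ⟨y, hy, hyx⟩ := hx
    have h1 : y⁻¹ * x ∈ center K := QuotientGroup.eq.1 hyx
    have h2 : ((y⁻¹ * x : K) : X) ∈ centralizer (K : Set X) :=
      ((center_map_subtype K).le ⟨_, h1, rfl⟩).2
    have hyA : (y : X) ∈ zpowers a := by
      obtain ⟨i, rfl⟩ := mem_zpowers_iff.1 hy
      exact mem_zpowers_iff.2 ⟨i, by rw [Subgroup.coe_zpow, ha0]⟩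
    rw [Subgroup.coe_mul, Subgroup.coe_inv] at h2
    rcases c.cent _ h2 with e | e
    · rw [inv_mul_eq_one] at e
      exact e ▸ hyA
    · rw [inv_mul_eq_iff_eq_mul] at e
      exact e ▸ mul_mem hyA hzA
  have hzc0 : π ⟨z, c.zK⟩ = 1 :=
    (QuotientGroup.eq_one_iff _).2 (mem_center_iff.2 fun g => Subtype.ext (c.zc g).eq)
  have hMP : M' ≤ (P' : Subgroup (K ⧸ center K)) :=
    map_mono (show zpowers a0 ≤ (P0 : Subgroup K) from zpowers_le.2 F.ha.1)
  have hbP : π b0 ∈ (P' : Subgroup (K ⧸ center K)) := ⟨b0, F.hb.1, rfl⟩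
  have hbM : π b0 ∉ M' := fun h => F.b_not_mem (hlift b0 h)
  have hM2 : M'.relIndex (P' : Subgroup (K ⧸ center K)) = 2 := by
    refine relIndex_eq_two_iff_exists_notMem_and.2 ⟨π b0, hbP, hbM, ?_⟩
    rintro _ ⟨p, hp, rfl⟩
    obtain ⟨i, hi | hi⟩ := F.cases (⟨hp, p.2⟩ : (p : X) ∈ (S : Subgroup X) ⊓ K)
    · exact Or.inr ⟨a0 ^ i, pow_mem (mem_zpowers _) i,
        congrArg π (Subtype.ext (by rw [Subgroup.coe_pow]; exact hi.symm))⟩
    · left
      have e : p * b0 = a0 ^ i * ⟨z, c.zK⟩ := Subtype.ext (by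
        rw [Subgroup.coe_mul, Subgroup.coe_mul, Subgroup.coe_pow, hi]
        show a ^ i * b * b = a ^ i * z
        rw [mul_assoc, F.bb])
      rw [← map_mul, e, map_mul, hzc0, mul_one]
      exact ⟨a0 ^ i, pow_mem (mem_zpowers _) i, rfl⟩
  have hu : orderOf (π b0) = 2 := Involution.orderOf_of_sq
    (by rw [← map_mul, show b0 * b0 = (⟨z, c.zK⟩ : K) from Subtype.ext F.bb, hzc0])
    fun h => hbM (h ▸ one_mem M')
  rcases S0111.result P' M' hMP hM2 (π b0) hu hbP hbM with ⟨M, hMn, hMi, -⟩ | ⟨g, hg⟩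
  · exfalso
    rcases hMn.eq_bot_or_eq_top with h | h
    · rw [h, index_bot] at hMi
      refine component_not_isSolvable c.comp
        ((Group.isSolvable_iff_subgroup_quotient (center K)).2 ⟨inferInstance, ?_⟩)
      haveI : IsCyclic (K ⧸ center K) := isCyclic_of_prime_card hMi
      exact Group.isSolvable_of_comm IsMulCommutative.is_comm.comm
    · rw [h, index_top] at hMi; omega
  · obtain ⟨g0, rfl⟩ := QuotientGroup.mk'_surjective _ g
    exact ⟨(g0 : X), g0.2, hlift (g0 * b0 * g0⁻¹) (by rw [map_mul, map_mul, map_inv]; exact hg)⟩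

theorem false_of_centralizing [(zpowers z).Normal] {S : Sylow 2 X} {a b : X} {k : ℕ} (hk : 1 ≤ k)
    (F : Frame ((S : Subgroup X) ⊓ K) z a b k) {g : X} (hgS : g ∈ S) (hgK : g ∉ K)
    (hg2 : g * g = 1 ∨ g * g = z) (hgh : Commute g (a ^ 2 ^ k)) (hgb : Commute g b) : False := by
  haveI : Fact (Nat.Prime 2) := ⟨Nat.prime_two⟩
  haveI := c.normal
  set h := a ^ 2 ^ k with hh
  set P := (S : Subgroup X) ⊓ K with hP
  have hhh : h * h = z := F.hh
  obtain ⟨g0, hg0K, hg0⟩ := c.exists_fusion F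
  have hb2 : g0 * b * g0⁻¹ * (g0 * b * g0⁻¹) = z := by
    rw [show g0 * b * g0⁻¹ * (g0 * b * g0⁻¹) = g0 * (b * b) * g0⁻¹ by group, F.bb, (c.zc g0).eq,
      mul_inv_cancel_right]
  have hq0 : q z (g0 * b * g0⁻¹) = q z h := by
    obtain ⟨i, hi⟩ := mem_zpowers_iff.1 hg0
    refine (F.eq_of_sq (zpowers_le.2 F.ha hg0) (Or.inr hb2) ?_).resolve_left fun e => ?_
    · rw [← hi, ((Commute.refl a).zpow_left i |>.pow_right (2 ^ k)).eq, mul_inv_cancel_right]
    · rcases (q_eq_one_iff c.hz).1 e with e' | e' <;> rw [e'] at hb2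
      · exact Involution.ne_one c.hz (by rw [← hb2, one_mul])
      · exact Involution.ne_one c.hz (hb2.symm.trans (Involution.mul_self c.hz))
  set J := (centralizer ({q z b} : Set (X ⧸ zpowers z))).comap (q z) with hJ
  have hJmem : ∀ x, x ∈ J ↔ Commute (q z x) (q z b) := fun x => mem_centralizer_singleton_iff
  have hqb : q z b * q z b = 1 := by rw [← map_mul, F.bb, q_z]
  set A := closure ({h, b, g} : Set X) with hA
  have hAS : A ≤ (S : Subgroup X) := (closure_le _).2 (by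
    rintro x (rfl | rfl | rfl)
    · exact F.h_mem.1
    · exact F.hb.1
    · exact hgS)
  have hAJ : A ≤ J := (closure_le _).2 (by
    rintro x (rfl | rfl | rfl) <;> rw [SetLike.mem_coe, hJmem]
    · exact (F.q_commute_h F.hb).symm
    · exact Commute.map hgb _)
  obtain ⟨W, hW⟩ := ((S.isPGroup'.to_le hAS).comap_of_injective J.subtype J.subtype_injective).exists_le_sylow
  have hP0J : P.map (MulAut.conj g0⁻¹).toMonoidHom ≤ J := by
    rintro _ ⟨p, hp, rfl⟩
    rw [hJmem]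
    show Commute (q z (g0⁻¹ * p * g0⁻¹⁻¹)) (q z b)
    have e : q z b = q z g0⁻¹ * q z h * (q z g0⁻¹)⁻¹ := by
      rw [← hq0, map_mul, map_mul, map_inv]; group
    rw [e, map_mul, map_mul, map_inv]
    exact (F.q_commute_h hp).map (MulAut.conj (q z g0⁻¹)).toMonoidHom
  obtain ⟨W', hW'⟩ := (((S.isPGroup'.to_le (inf_le_left : P ≤ _)).map
    (MulAut.conj g0⁻¹).toMonoidHom).comap_of_injective J.subtype J.subtype_injective).exists_le_sylow
  obtain ⟨⟨j, hj⟩, hjW⟩ := MulAction.exists_smul_eq J W' W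
  obtain ⟨g1, hg1⟩ : ∃ w, w = g0 * j⁻¹ := ⟨_, rfl⟩
  have hconj : ∀ p ∈ P, g1⁻¹ * p * g1 ∈ J ∧ (∀ hmem, (⟨g1⁻¹ * p * g1, hmem⟩ : J) ∈ W) := fun p hp => by
    have h1 : g0⁻¹ * p * g0⁻¹⁻¹ ∈ J := hP0J ⟨p, hp, rfl⟩
    have h2 : (⟨g0⁻¹ * p * g0⁻¹⁻¹, h1⟩ : J) ∈ W' := hW' ⟨p, hp, rfl⟩
    have h3 : (⟨j, hj⟩ : J) * ⟨_, h1⟩ * (⟨j, hj⟩ : J)⁻¹ ∈ W := by
      rw [← hjW]; exact ⟨_, h2, rfl⟩
    have e : j * (g0⁻¹ * p * g0⁻¹⁻¹) * j⁻¹ = g1⁻¹ * p * g1 := by rw [hg1]; group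
    refine ⟨e ▸ (mul_mem (mul_mem hj h1) (inv_mem hj)), fun hmem => ?_⟩
    have e' : (⟨g1⁻¹ * p * g1, hmem⟩ : J) = ⟨j, hj⟩ * ⟨_, h1⟩ * (⟨j, hj⟩ : J)⁻¹ :=
      Subtype.ext (by push_cast; exact e.symm)
    rw [e']; exact h3
  set W0 := (W : Subgroup J).map J.subtype ⊓ K with hW0
  have hsub : P.map (MulAut.conj g1⁻¹).toMonoidHom ≤ W0 := by
    rintro _ ⟨p, hp, rfl⟩
    refine ⟨⟨⟨g1⁻¹ * p * g1, (hconj p hp).1⟩, (hconj p hp).2 _, ?_⟩, c.normal.conj_mem p hp.2 _⟩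
    show g1⁻¹ * p * g1 = g1⁻¹ * p * g1⁻¹⁻¹
    rw [inv_inv]
  have hW0eq : P.map (MulAut.conj g1⁻¹).toMonoidHom = W0 := by
    refine eq_of_le_of_card_ge hsub ?_
    rw [card_map_of_injective (MulAut.conj g1⁻¹).injective]
    have hW0p : IsPGroup 2 W0 := (W.isPGroup'.map J.subtype).to_le inf_le_left
    obtain ⟨R, hR⟩ := (hW0p.comap_of_injective K.subtype K.subtype_injective).exists_le_sylow
    have hidx : ¬ 2 ∣ ((S : Subgroup X).subgroupOf K).index := fun h =>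
      S.not_dvd_index (h.trans (ClassIndex.relIndex_dvd_index_of_normal_right _ K))
    let P0 : Sylow 2 K := (S.isPGroup'.comap_subtype (H := (S : Subgroup X)) (K := K)).toSylow hidx
    have hcR : Nat.card (R : Subgroup K) = Nat.card P := by
      rw [R.card_eq_multiplicity, ← P0.card_eq_multiplicity]
      show Nat.card ↥((S : Subgroup X).subgroupOf K) = _
      rw [← inf_subgroupOf_right, Nat.card_congr (subgroupOfEquivOfLe inf_le_right).toEquiv]
    rw [← hcR, ← Nat.card_congr (subgroupOfEquivOfLe (inf_le_right : W0 ≤ K)).toEquiv]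
    exact card_le_of_le hR
  have hback : ∀ w ∈ W0, g1 * w * g1⁻¹ ∈ P := fun w hw => by
    rw [← hW0eq] at hw
    obtain ⟨p, hp, rfl⟩ := hw
    have e : g1 * (g1⁻¹ * p * g1⁻¹⁻¹) * g1⁻¹ = p := by group
    show g1 * (g1⁻¹ * p * g1⁻¹⁻¹) * g1⁻¹ ∈ P
    rwa [e]
  have hmemW0 : ∀ x ∈ A, x ∈ K → x ∈ W0 := fun x hx hxK =>
    ⟨⟨⟨x, hAJ hx⟩, hW (show (⟨x, hAJ hx⟩ : J) ∈ A.comap J.subtype from hx), rfl⟩, hxK⟩
  have hhA : h ∈ A := subset_closure (Or.inl rfl)
  have hbA : b ∈ A := subset_closure (Or.inr (Or.inl rfl))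
  -- the images of `b` and `h`
  have hb1 : q z (g1 * b * g1⁻¹) = q z h := by
    have hjb : q z j⁻¹ * q z b * (q z j⁻¹)⁻¹ = q z b := by
      rw [((hJmem _).1 (inv_mem hj)).eq, mul_inv_cancel_right]
    rw [hg1, ← hq0]
    simp only [map_mul, map_inv] at hjb ⊢
    calc q z g0 * (q z j)⁻¹ * q z b * (q z g0 * (q z j)⁻¹)⁻¹
        = q z g0 * ((q z j)⁻¹ * q z b * (q z j)⁻¹⁻¹) * (q z g0)⁻¹ := by group
      _ = q z g0 * q z b * (q z g0)⁻¹ := by rw [hjb]
  obtain ⟨i, hi⟩ : ∃ i, g1 * h * g1⁻¹ = a ^ i * b := by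
    obtain ⟨i, hi | hi⟩ := F.cases (hback h (hmemW0 h hhA F.h_mem.2))
    · exfalso
      have hcz : Commute (a ^ i) z := (c.zc _)
      have hc1 : Commute (g1 * h * g1⁻¹) (g1 * b * g1⁻¹) := by
        rcases (q_eq_iff c.hz c.zc).1 hb1 with e | e <;> rw [hi, e, hh]
        · exact (Commute.refl a).pow_pow _ _
        · exact ((Commute.refl a).pow_pow _ _).mul_right hcz
      have hc2 : Commute h b := by
        have h1 := hc1.map (MulAut.conj g1⁻¹).toMonoidHom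
        simpa [mul_assoc] using h1
      apply F.h_ne_inv
      rw [← hh, ← F.b_conj_h, ← hh, ← hc2.eq, mul_inv_cancel_right]
    · exact ⟨i, hi⟩
  -- the element `s`
  set e := 2 ^ (k - 1) with he
  have he2 : 2 * e = 2 ^ k := by rw [he, ← pow_succ', show k - 1 + 1 = k by omega]
  set s := g1⁻¹ * a ^ e * g1 with hs
  have hsW : s ∈ W0 := by
    have h1 := hsub ⟨a ^ e, pow_mem F.ha e, rfl⟩
    have e' : (MulAut.conj g1⁻¹).toMonoidHom (a ^ e) = s := by
      show g1⁻¹ * a ^ e * g1⁻¹⁻¹ = s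
      rw [hs, inv_inv]
    rwa [e'] at h1
  have hsb : s * b * s⁻¹ = b := by
    have h1 : Commute (a ^ e) (g1 * b * g1⁻¹) := by
      rcases (q_eq_iff c.hz c.zc).1 hb1 with e' | e' <;> rw [e', hh]
      · exact (Commute.refl a).pow_pow _ _
      · exact ((Commute.refl a).pow_pow _ _).mul_right (c.zc _)
    rw [hs, show g1⁻¹ * a ^ e * g1 * b * (g1⁻¹ * a ^ e * g1)⁻¹ =
      g1⁻¹ * (a ^ e * (g1 * b * g1⁻¹) * (a ^ e)⁻¹) * g1 by group, h1.eq, mul_inv_cancel_right]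
    group
  have hsh : q z (s * h * s⁻¹) = q z b * q z h := by
    have h1 : s * h * s⁻¹ = g1⁻¹ * (h * (g1 * h * g1⁻¹)) * g1 := by
      rw [hs, show g1⁻¹ * a ^ e * g1 * h * (g1⁻¹ * a ^ e * g1)⁻¹ =
        g1⁻¹ * (a ^ e * (g1 * h * g1⁻¹) * (a ^ e)⁻¹) * g1 by group, hi, F.outer_conj, he2, ← hh]
    have h2 : q z (g1⁻¹ * h * g1) = q z b := by
      rw [show q z (g1⁻¹ * h * g1) = (q z g1)⁻¹ * q z h * q z g1 by simp only [map_mul, map_inv], ← hb1,
        show q z (g1 * b * g1⁻¹) = q z g1 * q z b * (q z g1)⁻¹ by simp only [map_mul, map_inv]]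
      group
    rw [h1, show g1⁻¹ * (h * (g1 * h * g1⁻¹)) * g1 = g1⁻¹ * h * g1 * h by group, map_mul, h2]
  have hsh' : Commute g (s * h * s⁻¹) := by
    rw [← map_mul] at hsh
    rcases (q_eq_iff c.hz c.zc).1 hsh with e' | e' <;> rw [e']
    · exact hgb.mul_right hgh
    · exact (hgb.mul_right hgh).mul_right (c.zc g)
  have hsg : Commute (q z g) (q z s) := by
    have hgW : (⟨g, hAJ (subset_closure (Or.inr (Or.inr rfl)))⟩ : J) ∈ W :=
      hW (show _ ∈ A.comap J.subtype from subset_closure (Or.inr (Or.inr rfl)))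
    set w := s⁻¹ * (g * s * g⁻¹) with hw
    have hwW : w ∈ W0 := by
      refine mul_mem (inv_mem hsW) ⟨?_, c.normal.conj_mem s hsW.2 g⟩
      obtain ⟨s', hs', hs'e⟩ := hsW.1
      exact ⟨⟨g, _⟩ * s' * (⟨g, _⟩ : J)⁻¹, mul_mem (mul_mem hgW hs') (inv_mem hgW),
        by rw [← hs'e]; rfl⟩
    have hwh : Commute w h := mul_inv_eq_iff_eq_mul.1 (by
      calc w * h * w⁻¹ = s⁻¹ * (g * (s * (g⁻¹ * h * g) * s⁻¹) * g⁻¹) * s := by rw [hw]; group
        _ = s⁻¹ * (g * (s * h * s⁻¹) * g⁻¹) * s := by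
          rw [show g⁻¹ * h * g = h by rw [mul_assoc, ← hgh.eq, inv_mul_cancel_left]]
        _ = h := by rw [hsh'.eq, mul_inv_cancel_right]; group)
    have hwb : Commute w b := mul_inv_eq_iff_eq_mul.1 (by
      calc w * b * w⁻¹ = s⁻¹ * (g * (s * (g⁻¹ * b * g) * s⁻¹) * g⁻¹) * s := by rw [hw]; group
        _ = s⁻¹ * (g * (s * b * s⁻¹) * g⁻¹) * s := by
          rw [show g⁻¹ * b * g = b by rw [mul_assoc, ← hgb.eq, inv_mul_cancel_left]]
        _ = s⁻¹ * (s * b * s⁻¹) * s := by rw [hsb, hgb.eq, mul_inv_cancel_right]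
        _ = b := by group)
    have hwh1 : Commute (g1 * w * g1⁻¹) (a ^ i * b) := hi ▸ CentralMeet.commute_conj g1 hwh
    have hwb1 : Commute (g1 * w * g1⁻¹) h := by
      have h1 := CentralMeet.commute_conj g1 hwb
      rcases (q_eq_iff c.hz c.zc).1 hb1.symm with e' | e' <;> rw [e']
      · exact h1
      · exact h1.mul_right (c.zc _)
    have h1 := F.q_eq_one_of_centralizes (hback w hwW) hwb1 hwh1
    rw [map_mul, map_mul, map_inv, conj_eq_one_iff, hw, map_mul, map_inv, inv_mul_eq_one,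
      map_mul, map_mul, map_inv] at h1
    exact mul_inv_eq_iff_eq_mul.1 h1.symm
  -- `s` normalises `S`
  have hzK := c.zK
  have hgz : g ≠ z := fun e' => hgK (e' ▸ hzK)
  have hsN : s ∈ normalizer ((S : Subgroup X) : Set X) := by
    rcases hg2 with hg2 | hg2
    · exact c.mem_normalizer_of_q hgS (Involution.orderOf_of_sq hg2 fun e' => hgK (e' ▸ one_mem K)) hgz hsg.symm
    · have ht2 : h * g * (h * g) = 1 := by
        rw [mul_assoc h g, ← mul_assoc g h g, hgh.eq, mul_assoc h g g, ← mul_assoc h h, hhh, hg2,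
          Involution.mul_self c.hz]
      have htK : h * g ∉ K := fun h1 => hgK (by
        have := mul_mem (inv_mem (show h ∈ K from F.h_mem.2)) h1
        rwa [inv_mul_cancel_left] at this)
      refine c.mem_normalizer_of_conj (t := h * g) (mul_mem F.h_mem.1 hgS)
        (Involution.orderOf_of_sq ht2 fun e' => htK (e' ▸ one_mem K)) (fun e' => htK (e' ▸ hzK)) ?_
      have h1 : q z (s * (h * g) * s⁻¹) = q z (b * h * g) := by
        rw [show s * (h * g) * s⁻¹ = s * h * s⁻¹ * (s * g * s⁻¹) by group, map_mul, hsh, map_mul, map_mul,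
          map_inv, ← hsg.eq, mul_inv_cancel_right, map_mul, map_mul]
      rcases (q_eq_iff c.hz c.zc).1 h1 with e' | e' <;> rw [e']
      · exact mul_mem (mul_mem F.hb.1 F.h_mem.1) hgS
      · exact mul_mem (mul_mem (mul_mem F.hb.1 F.h_mem.1) hgS) (c.mem_sylow S)
  have ha1 := F.conj_a_mem hk (c.conj_inf hsN)
  obtain ⟨l, hl⟩ := mem_zpowers_iff.1 ha1
  have hmem : s * h * s⁻¹ ∈ zpowers a := by
    rw [hh, ← conj_pow, ← hl]; exact pow_mem (zpow_mem (mem_zpowers a) l) _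
  rw [← map_mul] at hsh
  have hhA' : h ∈ zpowers a := pow_mem (mem_zpowers a) _
  have hzA : z ∈ zpowers a := F.powa ▸ pow_mem (mem_zpowers a) _
  refine F.b_not_mem ?_
  rcases (q_eq_iff c.hz c.zc).1 hsh with e' | e' <;> rw [e'] at hmem
  · exact ((mul_mem_cancel_right hhA').1 hmem)
  · exact ((mul_mem_cancel_right hhA').1 ((mul_mem_cancel_right hzA).1 hmem))

end QCtx

end Cfsg.Agent.RankMeet
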