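/-
A quaternion component of order eight (owner: helper31).

* `QCtx.four_gen`, `QCtx.cent_le` : the centraliser in `K` modulo `⟨z⟩` of an involution of `P̄` centralises `P̄`.
* `QCtx.false_of_pairs` : then `K/⟨z⟩` is a three-family group and outer elements centralising `P` are inner.
* `QCtx.isolated_false` : Glauberman's theorem excludes a single outer class.
* `QCtx.no_inner_small` : no outer element squaring into `⟨z⟩` centralises `P`.
-/
import Cfsg.Agent.Lib.RankMeet.QuatPair
import Cfsg.Agent.Lib.ZStar.Glauberman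
import Cfsg.Agent.Lib.ZStarPrimePower.Proved

set_option autoImplicit false
set_option linter.style.haveILetI false
set_option linter.unusedSectionVars false

namespace Cfsg.Agent.RankMeet

open Cfsg Subgroup Components
open scoped Pointwise commutatorElement IsMulCommutative
open Cfsg.Agent.Goldschmidt.General (centre RankFacts)

universe u

variable {X : Type u} [Group X] [Finite X]

namespace QCtx

variable {K : Subgroup X} {z : X} (c : QCtx K z) [(zpowers z).Normal] {S : Sylow 2 X} {a b : X}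
  (F : Frame ((S : Subgroup X) ⊓ K) z a b 0)

include c F

/-- The image of `P`. -/
theorem card_image : Nat.card ↥(((S : Subgroup X) ⊓ K).map (q z)) = 4 := by
  have h1 := card_mul_index (((q z).comp ((S : Subgroup X) ⊓ K).subtype).ker)
  rw [index_ker, MonoidHom.range_comp, range_subtype, F.card] at h1
  have h2 : Nat.card ((q z).comp ((S : Subgroup X) ⊓ K).subtype).ker = 2 := by
    have e : ((q z).comp ((S : Subgroup X) ⊓ K).subtype).ker =
        (zpowers z).subgroupOf ((S : Subgroup X) ⊓ K) := by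
      rw [← MonoidHom.comap_ker, QuotientGroup.ker_mk']
      rfl
    rw [e, Nat.card_congr (subgroupOfEquivOfLe (zpowers_le.2 (show z ∈ (S : Subgroup X) ⊓ K from ⟨c.mem_sylow S, c.zK⟩))).toEquiv,
      Nat.card_zpowers, c.hz]
  rw [h2] at h1
  norm_num at h1 ⊢
  omega

/-- Two different non-trivial elements generate the image of `P`. -/
theorem four_gen {x y r : X ⧸ zpowers z} (hx : x ∈ ((S : Subgroup X) ⊓ K).map (q z))
    (hy : y ∈ ((S : Subgroup X) ⊓ K).map (q z)) (hr : r ∈ ((S : Subgroup X) ⊓ K).map (q z))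
    (hx1 : x ≠ 1) (hy1 : y ≠ 1) (hxy : x ≠ y) : r = 1 ∨ r = x ∨ r = y ∨ r = x * y := by
  by_contra hno
  push Not at hno
  have hsq : ∀ w ∈ ((S : Subgroup X) ⊓ K).map (q z), w * w = 1 := by
    rintro _ ⟨p, hp, rfl⟩
    rw [← map_mul, q_eq_one_iff c.hz]
    refine c.sq_cases (mul_mem hp.2 hp.2) ?_
    obtain ⟨i, rfl | rfl⟩ := F.cases hp
    · have : (a ^ i * a ^ i) * (a ^ i * a ^ i) = (a ^ 4) ^ i := by
        rw [← pow_add, ← pow_add, ← pow_mul]; congr 1; omega
      rw [this, show (4 : ℕ) = orderOf a by rw [F.orda]; norm_num, pow_orderOf_eq_one, one_pow]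
    · rw [F.sq_outer, Involution.mul_self c.hz]
  set Pb := ((S : Subgroup X) ⊓ K).map (q z) with hPb
  have hxy1 : x * y ≠ 1 := fun h => hxy (by
    have := congrArg (fun w => w * y) h
    simp only [mul_assoc, hsq y hy, mul_one, one_mul] at this
    exact this)
  have hxyx : x * y ≠ x := fun h => hy1 (mul_eq_left.1 h)
  have hxyy : x * y ≠ y := fun h => hx1 (mul_eq_right.1 h)
  let f : Fin 5 → Pb := ![1, ⟨x, hx⟩, ⟨y, hy⟩, ⟨x * y, mul_mem hx hy⟩, ⟨r, hr⟩]
  have hf : Function.Injective f := by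
    intro i j e
    have e' := congrArg (fun w : Pb => (w : X ⧸ zpowers z)) e
    fin_cases i <;> fin_cases j <;> simp [f, hx1, hy1, hxy, hxy1, hxyx, hxyy, hno.1, hno.2.1, hno.2.2.1,
      hno.2.2.2, hx1.symm, hy1.symm, hxy.symm, hxy1.symm, hxyx.symm, hxyy.symm, hno.1.symm, hno.2.1.symm,
      hno.2.2.1.symm, hno.2.2.2.symm] at e' ⊢
  have h5 := Nat.card_le_card_of_injective f hf
  rw [c.card_image F, Nat.card_eq_fintype_card, Fintype.card_fin] at h5
  omega

theorem commute_image {x y : X ⧸ zpowers z} (hx : x ∈ ((S : Subgroup X) ⊓ K).map (q z))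
    (hy : y ∈ ((S : Subgroup X) ⊓ K).map (q z)) : Commute x y := by
  obtain ⟨p, hp, rfl⟩ := hx
  obtain ⟨r, hr, rfl⟩ := hy
  have ha' : ∀ p ∈ (S : Subgroup X) ⊓ K, Commute (q z p) (q z a) := fun p hp => by
    have h := F.q_commute_h hp
    rwa [pow_zero, pow_one] at h
  have hb' : Commute (q z p) (q z b) := by
    obtain ⟨i, rfl | rfl⟩ := F.cases hp <;> simp only [map_mul, map_pow]
    · exact ((ha' b F.hb).symm).pow_left i
    · exact (((ha' b F.hb).symm).pow_left i).mul_left (Commute.refl _)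
  obtain ⟨i, rfl | rfl⟩ := F.cases hr <;> simp only [map_mul, map_pow]
  · exact (ha' p hp).pow_right i
  · exact ((ha' p hp).pow_right i).mul_right hb'

/-- An element of odd order normalising the image of `P` and fixing a non-trivial element fixes all. -/
theorem centralizes_of_normalizes {w x y : X ⧸ zpowers z} (hw : ∀ r ∈ ((S : Subgroup X) ⊓ K).map (q z),
      w * r * w⁻¹ ∈ ((S : Subgroup X) ⊓ K).map (q z))
    (hx : x ∈ ((S : Subgroup X) ⊓ K).map (q z)) (hy : y ∈ ((S : Subgroup X) ⊓ K).map (q z))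
    (hx1 : x ≠ 1) (hwx : Commute w x) {m : ℕ} (hm : Odd m) (hwm : Commute (w ^ m) y) : Commute w y := by
  by_cases hy1 : y = 1
  · rw [hy1]; exact Commute.one_right w
  by_cases hxy : x = y
  · exact hxy ▸ hwx
  rcases c.four_gen F hx hy (hw y hy) hx1 hy1 hxy with e | e | e | e
  · exact absurd (conj_eq_one_iff.1 e) hy1
  · exfalso
    refine hxy ?_
    have h1 : w * x * w⁻¹ = x := by rw [hwx.eq, mul_inv_cancel_right]
    exact (mul_left_cancel (mul_right_cancel (e.trans h1.symm))).symm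
  · exact mul_inv_eq_iff_eq_mul.1 e
  · -- `w` swaps `y` and `x y`
    exfalso
    obtain ⟨l, rfl⟩ := hm
    have h2 : Commute (w * w) y := mul_inv_eq_iff_eq_mul.1 (by
      calc w * w * y * (w * w)⁻¹ = w * (w * y * w⁻¹) * w⁻¹ := by group
        _ = w * (x * y) * w⁻¹ := by rw [e]
        _ = (w * x * w⁻¹) * (w * y * w⁻¹) := by group
        _ = x * (x * y) := by rw [e, hwx.eq, mul_inv_cancel_right]
        _ = y := by
          obtain ⟨p, hp, rfl⟩ := hx
          rw [← mul_assoc, ← map_mul]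
          rcases c.sq_cases (mul_mem hp.2 hp.2) (by
            obtain ⟨i, rfl | rfl⟩ := F.cases hp
            · have : (a ^ i * a ^ i) * (a ^ i * a ^ i) = (a ^ 4) ^ i := by
                rw [← pow_add, ← pow_add, ← pow_mul]; congr 1; omega
              rw [this, show (4 : ℕ) = orderOf a by rw [F.orda]; norm_num, pow_orderOf_eq_one, one_pow]
            · rw [F.sq_outer, Involution.mul_self c.hz]) with h' | h' <;> rw [h']
          · rw [map_one, one_mul]
          · rw [q_z, one_mul])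
    have h3 : Commute w y := by
      have h4 : Commute ((w * w) ^ l) y := h2.pow_left l
      have h5 : w = ((w * w) ^ l)⁻¹ * w ^ (2 * l + 1) := by
        rw [← pow_two, ← pow_mul, pow_succ, inv_mul_cancel_left]
      rw [h5]
      exact h4.inv_left.mul_left hwm
    have h4 : w * y * w⁻¹ = y := by rw [h3.eq, mul_inv_cancel_right]
    exact hx1 (mul_eq_right.1 (e.symm.trans h4))

/-- The centraliser in `K` modulo `⟨z⟩` of an involution of the image of `P` centralises that image. -/
theorem cent_le {h g1 g2 : X} (hhP : h ∈ (S : Subgroup X) ⊓ K) (hh1 : q z h ≠ 1)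
    (hg1 : g1 ∈ S) (hg2 : g2 ∈ S) (ho1 : orderOf g1 = 2) (ho2 : orderOf g2 = 2) (hK1 : g1 ∉ K)
    (hK2 : g2 ∉ K) (h1h : Commute (q z g1) (q z h)) (h2h : Commute (q z g2) (q z h))
    (h12 : Commute (q z g1) (q z g2))
    (h3 : (∃ p ∈ (S : Subgroup X) ⊓ K, q z (g1 * g2) = q z p ∧ q z p ≠ 1 ∧ q z p ≠ q z h) ∨
      (g1 * g2 ∉ K ∧ orderOf (g1 * g2) = 2)) :
    K.map (q z) ⊓ centralizer ({q z h} : Set (X ⧸ zpowers z)) ≤
      centralizer ((((S : Subgroup X) ⊓ K).map (q z)) : Set (X ⧸ zpowers z)) := by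
  haveI : Fact (Nat.Prime 2) := ⟨Nat.prime_two⟩
  haveI := c.normal
  set Pb := ((S : Subgroup X) ⊓ K).map (q z) with hPbdef
  set Lb := K.map (q z) with hLb
  haveI : Lb.Normal := Subgroup.Normal.map inferInstance _ (QuotientGroup.mk'_surjective _)
  set Cb := Lb ⊓ centralizer ({q z h} : Set (X ⧸ zpowers z)) with hCb
  have hhPb : q z h ∈ Pb := ⟨h, hhP, rfl⟩
  have hPC : Pb ≤ Cb := fun x hx => ⟨map_mono inf_le_right hx,
    mem_centralizer_singleton_iff.2 (c.commute_image F hx hhPb).eq⟩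
  have hPp : IsPGroup 2 ↥(Pb.subgroupOf Cb) :=
    ((S.isPGroup'.to_le inf_le_left).map _).comap_subtype
  have hPidx : ¬ 2 ∣ (Pb.subgroupOf Cb).index := by
    intro hd
    have h1 : Pb.relIndex Cb ∣ Pb.relIndex Lb := by
      rw [← relIndex_mul_relIndex _ _ _ hPC (inf_le_left : Cb ≤ Lb)]
      exact dvd_mul_right _ _
    have h2 : Pb.relIndex Lb = ((S : Subgroup X) ⊓ K).relIndex K := by
      rw [hPbdef, hLb, ← relIndex_comap, comap_map_eq, QuotientGroup.ker_mk', sup_eq_left.2
        (zpowers_le.2 (show z ∈ (S : Subgroup X) ⊓ K from ⟨c.mem_sylow S, c.zK⟩))]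
    have h4 := hd.trans h1
    rw [h2, inf_relIndex_right] at h4
    exact S.not_dvd_index (h4.trans (ClassIndex.relIndex_dvd_index_of_normal_right _ K))
  let T : Sylow 2 Cb := hPp.toSylow hPidx
  have hT : ∀ x : Cb, x ∈ (T : Subgroup Cb) ↔ (x : X ⧸ zpowers z) ∈ Pb := fun x => Iff.rfl
  have hfix : ∀ w ∈ Cb, (∀ r ∈ Pb, w * r * w⁻¹ ∈ Pb) → ∀ y ∈ Pb, Commute w y := by
    intro w hw hwn y hy
    obtain ⟨j, m, hm2, hjm⟩ :=
      Nat.exists_eq_pow_mul_and_not_dvd (orderOf_pos (⟨w, hw⟩ : Cb)).ne' 2 (by norm_num)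
    refine c.centralizes_of_normalizes F hwn hhPb hy hh1 (mem_centralizer_singleton_iff.1 hw.2)
      (Nat.odd_iff.2 (by omega)) ?_ (m := m)
    set w' : Cb := ⟨w, hw⟩ with hw'
    have hn : w' ∈ normalizer ((T : Subgroup Cb) : Set Cb) :=
      Coprime.mem_normalizer_of_forall fun r hr => (hT _).2 (hwn r ((hT r).1 hr))
    have hmem : w' ^ m ∈ (T : Subgroup Cb) := CentralMeet.mem_sylow_of_two_elt T (pow_mem hn m) (k := j) (by
      rw [orderOf_pow_of_dvd (by omega) (by rw [hjm]; exact dvd_mul_left m _), hjm,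
        Nat.mul_div_cancel _ (by omega)])
    have hmem' : (w : X ⧸ zpowers z) ^ m ∈ Pb := (hT _).1 hmem
    exact c.commute_image F hmem' hy
  have hNC : normalizer ((T : Subgroup Cb) : Set Cb) ≤ centralizer ((T : Subgroup Cb) : Set Cb) := by
    intro n hn y hy
    refine Subtype.ext (hfix n n.2 (fun r hr => ?_) y ((hT y).1 hy)).eq.symm
    exact (hT _).1 ((mem_normalizer_iff.1 hn ⟨r, hPC hr⟩).1 ((hT _).2 hr))
  have hcompl := MonoidHom.ker_transferSylow_isComplement' T hNC
  set U₀ := (MonoidHom.transferSylow T hNC).ker with hU₀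
  have hUodd : Odd (Nat.card U₀) := Nat.not_even_iff_odd.1 fun he =>
    MonoidHom.not_dvd_card_ker_transferSylow T hNC (even_iff_two_dvd.1 he)
  have hodd_mem : ∀ x : Cb, Odd (orderOf x) → x ∈ U₀ := by
    intro x hx
    rw [hU₀, MonoidHom.mem_ker]
    obtain ⟨j, hj⟩ := IsPGroup.iff_orderOf.1 T.isPGroup' (MonoidHom.transferSylow T hNC x)
    have h1 := orderOf_map_dvd (MonoidHom.transferSylow T hNC) x
    rw [hj] at h1
    exact orderOf_eq_one_iff.1 (hj.trans (Nat.eq_one_of_dvd_coprimes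
      ((Nat.coprime_two_left.2 hx).pow_left j) (dvd_refl _) h1))
  set U := U₀.map Cb.subtype with hU
  suffices hUP : U ≤ centralizer (Pb : Set (X ⧸ zpowers z)) by
    intro x hx
    obtain ⟨⟨u, t⟩, hut⟩ := hcompl.2 (⟨x, hx⟩ : Cb)
    have e : ((u : Cb) : X ⧸ zpowers z) * ((t : Cb) : X ⧸ zpowers z) = x := congrArg Subtype.val hut
    rw [← e]
    exact mul_mem (hUP ⟨u, u.2, rfl⟩) fun y hy => (c.commute_image F hy ((hT _).1 t.2)).eq
  -- the outer involutions act on `U`
  have hUCb : U ≤ Cb := map_subtype_le _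
  have hgood : ∀ g ∈ S, g ∉ K → orderOf g = 2 → ∀ w ∈ U, Commute w (q z g) →
      w ∈ centralizer (Pb : Set (X ⧸ zpowers z)) := by
    intro g hgS hgK hgo w hw hwg
    obtain ⟨x, hxK, rfl⟩ := (hUCb hw).1
    have hn := c.mem_normalizer_of_q hgS hgo (fun e => hgK (e ▸ c.zK)) hwg
    refine fun y hy => (hfix _ (hUCb hw) (fun r hr => ?_) y hy).eq.symm
    obtain ⟨p, hp, rfl⟩ := hr
    exact ⟨x * p * x⁻¹, c.conj_inf hn p hp, by rw [map_mul, map_mul, map_inv]⟩
  have hd1 : q z g1 * q z g1 = 1 := by rw [← map_mul, Involution.mul_self ho1, map_one]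
  have hd2 : q z g2 * q z g2 = 1 := by rw [← map_mul, Involution.mul_self ho2, map_one]
  have hne1 : ∀ g, g ∉ K → q z g ≠ 1 := fun g hg e => hg (by
    rcases (q_eq_one_iff c.hz).1 e with rfl | rfl
    · exact one_mem K
    · exact c.zK)
  have h3ne : q z g1 ≠ q z g2 := fun e => by
    have e' : q z (g1 * g2) = 1 := by rw [map_mul, e, hd2]
    rcases h3 with ⟨p, -, hp, hp1, -⟩ | ⟨hK, -⟩
    · exact hp1 (hp ▸ e')
    · exact hne1 _ hK e'
  haveI := Bender.isMulCommutative_fourOf hd1 hd2 h12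
  refine Coprime.le_of_noncyclic (A := Bender.fourOf hd1 hd2 h12)
    (Bender.not_isCyclic_fourOf hd1 hd2 h12 (hne1 _ hK1) (hne1 _ hK2) h3ne) ?_ ?_ ?_
  · have key : ∀ g : X, Commute (q z g) (q z h) → q z g ∈ normalizer (U : Set (X ⧸ zpowers z)) := by
      intro g hg
      refine Coprime.mem_normalizer_of_forall fun w hw => ?_
      obtain ⟨w₀, hw₀, rfl⟩ := hw
      have hmem : q z g * (w₀ : X ⧸ zpowers z) * (q z g)⁻¹ ∈ Cb := by
        refine ⟨(inferInstance : Lb.Normal).conj_mem _ w₀.2.1 _, mem_centralizer_singleton_iff.2 ?_⟩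
        have h1 : Commute (w₀ : X ⧸ zpowers z) (q z h) := mem_centralizer_singleton_iff.1 w₀.2.2
        have h2 := CentralMeet.commute_conj (q z g) h1
        rwa [hg.eq, mul_inv_cancel_right] at h2
      refine ⟨⟨_, hmem⟩, hodd_mem _ ?_, rfl⟩
      rw [← Subgroup.orderOf_coe]
      show Odd (orderOf (q z g * (w₀ : X ⧸ zpowers z) * (q z g)⁻¹))
      rw [Involution.orderOf_conj, Subgroup.orderOf_coe]
      exact hUodd.of_dvd_nat (Subgroup.orderOf_dvd_natCard _ hw₀)
    rintro x (rfl | rfl | rfl | rfl)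
    · exact one_mem _
    · exact key g1 h1h
    · exact key g2 h2h
    · exact mul_mem (key g1 h1h) (key g2 h2h)
  · obtain ⟨n, hn⟩ := IsPGroup.iff_card.1 (Bender.card_fourOf_dvd hd1 hd2 h12)
    rw [hn, hU, card_map_of_injective Cb.subtype_injective]
    exact Nat.Coprime.pow_left n (Nat.coprime_two_left.2 hUodd)
  · rintro x (rfl | rfl | rfl | rfl) hx1 w ⟨hwU, hwc⟩ <;>
      have hwx : Commute w _ := mem_centralizer_singleton_iff.1 hwc
    · exact absurd rfl hx1
    · exact hgood g1 hg1 hK1 ho1 w hwU hwx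
    · exact hgood g2 hg2 hK2 ho2 w hwU hwx
    · rw [← map_mul] at hwx
      rcases h3 with ⟨p, hp, hpe, hp1, hph⟩ | ⟨hK, ho⟩
      · intro y hy
        rw [hpe] at hwx
        have hwh : Commute w (q z h) := mem_centralizer_singleton_iff.1 (hUCb hwU).2
        rcases c.four_gen F hhPb ⟨p, hp, rfl⟩ hy hh1 hp1 hph.symm with rfl | rfl | rfl | rfl
        · exact (Commute.one_left w).eq
        · exact hwh.symm.eq
        · exact hwx.symm.eq
        · exact (hwh.mul_right hwx).symm.eq
      · exact hgood _ (mul_mem hg1 hg2) hK ho w hwU hwx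

/-- An outer element centralising `P` with enough outer involutions is impossible. -/
theorem false_of_pairs {g : X} (hgS : g ∈ S) (hgK : g ∉ K) (hga : Commute g a) (hgb : Commute g b)
    (hpairs : ∀ h ∈ (S : Subgroup X) ⊓ K, q z h ≠ 1 → ∃ g1 g2, g1 ∈ S ∧ g2 ∈ S ∧ orderOf g1 = 2 ∧
      orderOf g2 = 2 ∧ g1 ∉ K ∧ g2 ∉ K ∧ Commute (q z g1) (q z h) ∧ Commute (q z g2) (q z h) ∧
      Commute (q z g1) (q z g2) ∧
      ((∃ p ∈ (S : Subgroup X) ⊓ K, q z (g1 * g2) = q z p ∧ q z p ≠ 1 ∧ q z p ≠ q z h) ∨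
        (g1 * g2 ∉ K ∧ orderOf (g1 * g2) = 2))) : False := by
  haveI : Fact (Nat.Prime 2) := ⟨Nat.prime_two⟩
  haveI := c.normal
  set Pb := ((S : Subgroup X) ⊓ K).map (q z) with hPbdef
  set Lb := K.map (q z) with hLb
  haveI : Lb.Normal := Subgroup.Normal.map inferInstance _ (QuotientGroup.mk'_surjective _)
  set φ : K →* X ⧸ zpowers z := (q z).comp K.subtype with hφ
  have hker : φ.ker = center K := by
    ext x
    rw [MonoidHom.mem_ker, hφ, MonoidHom.comp_apply, q_eq_one_iff c.hz]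
    constructor
    · rintro (e | e)
      · exact mem_center_iff.2 fun k => Subtype.ext (by rw [Subgroup.coe_mul, Subgroup.coe_mul, show (x : X) = 1 from e, mul_one, one_mul])
      · exact mem_center_iff.2 fun k => Subtype.ext (by
          rw [Subgroup.coe_mul, Subgroup.coe_mul, show (x : X) = z from e]
          exact (c.zc k).eq)
    · intro hx
      exact c.cent _ ((center_map_subtype K).le ⟨x, hx, rfl⟩).2
  have e : ↥Lb ≃* K ⧸ center K :=
    ((MulEquiv.subgroupCongr (show φ.range = Lb by rw [hφ, MonoidHom.range_comp, range_subtype])).symm.trans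
      (QuotientGroup.quotientKerEquivRange φ).symm).trans (QuotientGroup.quotientMulEquivOfEq hker)
  haveI := c.comp.2.2
  haveI : Nontrivial ↥Lb := e.toEquiv.nontrivial
  haveI : IsSimpleGroup ↥Lb := e.isSimpleGroup
  have hns : ¬ Group.IsSolvable ↥Lb := fun hs => component_not_isSolvable c.comp
    ((Group.isSolvable_iff_subgroup_quotient (center K)).2 ⟨inferInstance, by
      haveI := hs
      exact Group.isSolvable_of_surjective (f := e.toMonoidHom) e.surjective⟩)
  -- the Sylow subgroup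
  have hPL : Pb ≤ Lb := map_mono inf_le_right
  have hPidx : ¬ 2 ∣ (Pb.subgroupOf Lb).index := by
    intro hd
    have h2 : Pb.relIndex Lb = ((S : Subgroup X) ⊓ K).relIndex K := by
      rw [hPbdef, hLb, ← relIndex_comap, comap_map_eq, QuotientGroup.ker_mk', sup_eq_left.2
        (zpowers_le.2 (show z ∈ (S : Subgroup X) ⊓ K from ⟨c.mem_sylow S, c.zK⟩))]
    have h4 : 2 ∣ Pb.relIndex Lb := hd
    rw [h2, inf_relIndex_right] at h4
    exact S.not_dvd_index (h4.trans (ClassIndex.relIndex_dvd_index_of_normal_right _ K))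
  let T0 : Sylow 2 ↥Lb :=
    (((S.isPGroup'.to_le (inf_le_left : (S : Subgroup X) ⊓ K ≤ _)).map (q z)).comap_subtype
      (H := Pb) (K := Lb)).toSylow hPidx
  have hT0 : ∀ x : ↥Lb, x ∈ (T0 : Subgroup ↥Lb) ↔ (x : X ⧸ zpowers z) ∈ Pb := fun x => Iff.rfl
  -- TI
  have hTI : ∀ A B : Sylow 2 ↥Lb, A ≠ B → (A : Subgroup ↥Lb) ⊓ (B : Subgroup ↥Lb) = ⊥ := by
    intro A B hne
    by_contra hJ
    obtain ⟨v, hv, hv1⟩ := ((Subgroup.ne_bot_iff_exists_ne_one.1 hJ).elim fun v hv =>
      (⟨v, v.2, fun e => hv (Subtype.ext e)⟩ : ∃ v ∈ (A : Subgroup ↥Lb) ⊓ (B : Subgroup ↥Lb), v ≠ 1))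
    obtain ⟨m, hm⟩ := MulAction.exists_smul_eq ↥Lb A T0
    set h' := m * v * m⁻¹ with hh'
    have hh'T : h' ∈ (T0 : Subgroup ↥Lb) := by rw [← hm]; exact ⟨v, hv.1, rfl⟩
    obtain ⟨p, hp, hpe⟩ := (hT0 _).1 hh'T
    have hp1 : q z p ≠ 1 := fun e => hv1 (conj_eq_one_iff.1 (Subtype.ext (hpe.symm.trans e) : h' = 1))
    obtain ⟨g1, g2, a1, a2, a3, a4, a5, a6, a7, a8, a9, a10⟩ := hpairs p hp hp1
    have hC := c.cent_le F hp hp1 a1 a2 a3 a4 a5 a6 a7 a8 a9 a10
    have hall : ∀ R : Sylow 2 ↥Lb, h' ∈ (R : Subgroup ↥Lb) → R = T0 := by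
      intro R hR
      have hRc : ∀ r ∈ (R : Subgroup ↥Lb), Commute r h' := by
        have h4 : Nat.card (R : Subgroup ↥Lb) = 2 ^ 2 := by
          rw [R.card_eq_multiplicity, ← T0.card_eq_multiplicity]
          show Nat.card ↥(Pb.subgroupOf Lb) = 4
          rw [Nat.card_congr (subgroupOfEquivOfLe hPL).toEquiv, hPbdef, c.card_image F]
        intro r hr
        exact congrArg Subtype.val (IsPGroup.commutative_of_card_eq_prime_sq (p := 2)
          (G := (R : Subgroup ↥Lb)) h4 ⟨r, hr⟩ ⟨h', hR⟩)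
      have hRn : ∀ r ∈ (R : Subgroup ↥Lb), r ∈ normalizer ((T0 : Subgroup ↥Lb) : Set ↥Lb) := by
        intro r hr
        have hrc : (r : X ⧸ zpowers z) ∈ centralizer (Pb : Set (X ⧸ zpowers z)) := hC ⟨r.2,
          mem_centralizer_singleton_iff.2 (by rw [hpe]; exact congrArg Subtype.val (hRc r hr).eq)⟩
        refine Coprime.mem_normalizer_of_forall fun y hy => ?_
        have e' : r * y * r⁻¹ = y := Subtype.ext (by
          show (r : X ⧸ zpowers z) * y * (r : X ⧸ zpowers z)⁻¹ = y
          rw [← hrc y ((hT0 y).1 hy), mul_inv_cancel_right])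
        rw [e']; exact hy
      refine Sylow.ext (R.is_maximal' T0.isPGroup' fun r hr => ?_).symm
      obtain ⟨j, hj⟩ := IsPGroup.iff_orderOf.1 R.isPGroup' ⟨r, hr⟩
      exact CentralMeet.mem_sylow_of_two_elt T0 (hRn r hr) (by rwa [Subgroup.orderOf_mk] at hj)
    have hB : m • B = T0 := hall _ ⟨v, hv.2, rfl⟩
    exact hne (MulAction.injective m (hm.trans hB.symm))
  obtain ⟨H, hH⟩ := exists_stronglyEmbedded_of_ti hns hTI
  obtain ⟨qn, hq⟩ := (threeFam_of_stronglyEmbedded hH).facts
  -- the outer element is inner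
  have hfix : ∀ x : ↥Lb, x ∈ (T0 : Subgroup ↥Lb) → MulAut.conjNormal (q z g) x = x := by
    intro x hx
    refine Subtype.ext ?_
    rw [MulAut.conjNormal_apply]
    obtain ⟨p, hp, hpe⟩ := (hT0 x).1 hx
    have hgp : Commute g p := by
      obtain ⟨i, rfl | rfl⟩ := F.cases hp
      · exact hga.pow_right i
      · exact (hga.pow_right i).mul_right hgb
    rw [← hpe, ← map_inv, ← map_mul, ← map_mul, hgp.eq, mul_inv_cancel_right]
  obtain ⟨s, hs, hse⟩ := hq.autInner T0 (MulAut.conjNormal (q z g)) (fun x hx => hfix x hx.1)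
    (fun x hx => by rw [hfix x hx, inv_mul_cancel]; exact one_mem _)
  obtain ⟨p, hp, hpe⟩ := (hT0 s).1 hs
  have hw : p⁻¹ * g ∈ centralizer (K : Set X) := c.cent_q fun x hx => by
    have h1 := congrArg (fun α : MulAut ↥Lb => ((α ⟨q z x, ⟨x, hx, rfl⟩⟩ : ↥Lb) : X ⧸ zpowers z)) hse
    simp only [MulAut.conjNormal_apply, MulAut.conj_apply, Subgroup.coe_mul, Subgroup.coe_inv] at h1
    rw [← hpe] at h1
    show q z x * q z (p⁻¹ * g) = q z (p⁻¹ * g) * q z x
    rw [map_mul, map_inv]
    calc q z x * ((q z p)⁻¹ * q z g) = (q z p)⁻¹ * (q z p * q z x * (q z p)⁻¹) * q z g := by group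
      _ = (q z p)⁻¹ * q z g * q z x := by rw [← h1]; group
  refine hgK ?_
  rw [show g = p * (p⁻¹ * g) from (mul_inv_cancel_left p g).symm]
  rcases c.cent _ hw with e' | e' <;> rw [e']
  · rw [mul_one]; exact hp.2
  · exact mul_mem hp.2 c.zK

/-- A single class of outer involutions centralising `P`. -/
theorem isolated_false {g : X} (hgS : g ∈ S) (hgK : g ∉ K) (hg : orderOf g = 2)
    (hga : Commute g a) (hgb : Commute g b)
    (huniq : ∀ r ∈ S, r ∉ K → r * r = 1 → Commute r a → Commute r b → q z r = q z g) : False := by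
  haveI : Fact (Nat.Prime 2) := ⟨Nat.prime_two⟩
  haveI := c.normal
  have hgz : g ≠ z := fun e => hgK (e ▸ c.zK)
  have hq1 : q z g ≠ 1 := fun e => hgK (by
    rcases (q_eq_one_iff c.hz).1 e with rfl | rfl
    · exact one_mem K
    · exact c.zK)
  have hgP : ∀ p ∈ (S : Subgroup X) ⊓ K, Commute g p := fun p hp => by
    obtain ⟨i, rfl | rfl⟩ := F.cases hp
    · exact hga.pow_right i
    · exact (hga.pow_right i).mul_right hgb
  have hiso : Cfsg.IsIsolatedInvolution (q z g) := by
    refine ⟨Involution.orderOf_of_sq (by rw [← map_mul, Involution.mul_self hg, map_one]) hq1,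
      fun w hw => ?_⟩
    obtain ⟨x, rfl⟩ := QuotientGroup.mk'_surjective _ w
    set y := x * g * x⁻¹ with hy
    have hqy : q z x * q z g * (q z x)⁻¹ = q z y := by rw [hy, map_mul, map_mul, map_inv]
    rw [hqy] at hw ⊢
    have hyo : orderOf y = 2 := by rw [hy, Involution.orderOf_conj, hg]
    have hyS : y ∈ S := c.mem_sylow_of_sq (c.mem_normalizer_of_q hgS hg hgz hw.symm)
      (Or.inl (Involution.mul_self hyo))
    have hxN := c.mem_normalizer_of_conj hgS hg hgz hyS
    have hyP : ∀ p ∈ (S : Subgroup X) ⊓ K, Commute y p := fun p hp => by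
      have h1 : x⁻¹ * p * x ∈ (S : Subgroup X) ⊓ K := by
        have := c.conj_inf (inv_mem hxN) p hp
        rwa [inv_inv] at this
      have h2 := CentralMeet.commute_conj x (hgP _ h1)
      rwa [show x * (x⁻¹ * p * x) * x⁻¹ = p by group] at h2
    have hyK : y ∉ K := fun hK => hgK (by
      have := c.normal.conj_mem y hK x⁻¹
      rwa [show x⁻¹ * y * x⁻¹⁻¹ = g by rw [hy]; group] at this)
    exact huniq y hyS hyK (Involution.mul_self hyo) (hyP a F.ha) (hyP b F.hb)
  have hcore : Cfsg.pPrimeCore 2 (X ⧸ zpowers z) = ⊥ := by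
    set O := Cfsg.pPrimeCore 2 (X ⧸ zpowers z) with hO
    set M := O.comap (q z) with hM
    haveI : O.Normal := Cores.pPrimeCore_normal 2 _
    have hoddO : Odd (Nat.card O) := Nat.coprime_two_right.1 (Cores.coprime_card_pPrimeCore 2)
    have hle : M ⊓ K ≤ centralizer (K : Set X) := by
      rcases IsQuasisimple.normal_eq_top_or_le_center c.comp.2 (M.subgroupOf K) with hT | hT
      · exfalso
        have hKM : K ≤ M := subgroupOf_eq_top.1 hT
        have h4 : 4 ∣ Nat.card ↥(((S : Subgroup X) ⊓ K).map (q z)) := by rw [c.card_image F]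
        have h5 : ((S : Subgroup X) ⊓ K).map (q z) ≤ O :=
          (map_mono (inf_le_right.trans hKM)).trans (map_comap_le _ _)
        exact Nat.not_even_iff_odd.2 hoddO
          (even_iff_two_dvd.2 ((dvd_trans (by norm_num) h4).trans (card_dvd_of_le h5)))
      · rintro x ⟨hxM, hxK⟩
        exact ((center_map_subtype K).le ⟨⟨x, hxK⟩, hT (mem_subgroupOf.2 hxM), rfl⟩).2
    refine le_bot_iff.1 fun w hw => ?_
    obtain ⟨x, rfl⟩ := QuotientGroup.mk'_surjective _ w
    have hxc : x ∈ centralizer (K : Set X) := c.cent_q fun y hy => by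
      rw [← commutatorElement_eq_one_iff_commute, ← map_commutatorElement, q_eq_one_iff c.hz]
      refine c.cent _ (hle (show ⁅y, x⁆ ∈ M ⊓ K from ⟨?_, ?_⟩))
      · rw [commutatorElement_def]
        exact M.mul_mem ((Subgroup.Normal.comap (inferInstance : O.Normal) (q z)).conj_mem x (show x ∈ M from hw) y)
          (M.inv_mem (show x ∈ M from hw))
      · rw [commutatorElement_def, show y * x * y⁻¹ * x⁻¹ = y * (x * y⁻¹ * x⁻¹) by group]
        exact mul_mem hy (c.normal.conj_mem _ (inv_mem hy) x)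
    rw [mem_bot, q_eq_one_iff c.hz]
    exact c.cent _ hxc
  have hz := ZStar.zStar ZStarPrimePower.uniqueInvolutionZStar_proved _ (X ⧸ zpowers z) (q z g) rfl hiso
  have hgc : g ∈ centralizer (K : Set X) := c.cent_q fun x _ => by
    have h1 := hz (q z x)
    rw [hcore, mem_bot, mul_inv_eq_one] at h1
    exact (mul_inv_eq_iff_eq_mul.1 h1).symm
  rcases c.cent _ hgc with e | e
  · exact Involution.ne_one hg e
  · exact hgz e

/-- Nothing outside `K` squaring into `⟨z⟩` centralises `P`. -/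
theorem no_inner_small {g : X} (hgS : g ∈ S) (hgK : g ∉ K) (hg2 : g * g = 1 ∨ g * g = z)
    (hga : Commute g a) (hgb : Commute g b) : False := by
  have hzK := c.zK
  have hz1 := Involution.mul_self c.hz
  have hcomm : ∀ r : X, Commute r a → Commute r b → ∀ p ∈ (S : Subgroup X) ⊓ K, Commute r p :=
    fun r hra hrb p hp => by
      obtain ⟨i, rfl | rfl⟩ := F.cases hp
      · exact hra.pow_right i
      · exact (hra.pow_right i).mul_right hrb
  by_cases h4 : ∃ r ∈ S, r ∉ K ∧ r * r = z ∧ Commute r a ∧ Commute r b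
  · -- an outer element of order four
    obtain ⟨r, hrS, hrK, hr2, hra, hrb⟩ := h4
    refine c.false_of_pairs F hrS hrK hra hrb fun h hh hh1 => ?_
    have hsq : ∀ p ∈ (S : Subgroup X) ⊓ K, q z p ≠ 1 → p * p = z := fun p hp hp1 => by
      rcases c.sq_cases (mul_mem hp.2 hp.2) (by
        obtain ⟨i, rfl | rfl⟩ := F.cases hp
        · have : (a ^ i * a ^ i) * (a ^ i * a ^ i) = (a ^ 4) ^ i := by
            rw [← pow_add, ← pow_add, ← pow_mul]; congr 1; omega
          rw [this, show (4 : ℕ) = orderOf a by rw [F.orda]; norm_num, pow_orderOf_eq_one, one_pow]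
        · rw [F.sq_outer, hz1]) with e | e
      · exfalso
        rcases c.sq_cases hp.2 e with e' | e'
        · exact hp1 (by rw [e', map_one])
        · exact hp1 (by rw [e', q_z])
      · exact e
    obtain ⟨p, hp, hp1, hph⟩ : ∃ p ∈ (S : Subgroup X) ⊓ K, q z p ≠ 1 ∧ q z p ≠ q z h := by
      have ha1 : q z a ≠ 1 := fun e => by
        rcases (q_eq_one_iff c.hz).1 e with e' | e' <;>
          have := F.orda <;> rw [e'] at this
        · simp at this
        · rw [c.hz] at this; norm_num at this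
      by_cases he : q z a = q z h
      · refine ⟨b, F.hb, fun e => ?_, fun e => ?_⟩
        · refine F.b_not_mem ?_
          rcases (q_eq_one_iff c.hz).1 e with e' | e' <;> rw [e']
          · exact one_mem _
          · exact F.powa ▸ pow_mem (mem_zpowers a) _
        · refine F.b_not_mem ?_
          rcases (q_eq_iff c.hz c.zc).1 (e.trans he.symm) with e' | e' <;> rw [e']
          · exact mem_zpowers a
          · exact mul_mem (mem_zpowers a) (F.powa ▸ pow_mem (mem_zpowers a) _)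
      · exact ⟨a, F.ha, ha1, he⟩
    have hgood : ∀ y ∈ (S : Subgroup X) ⊓ K, q z y ≠ 1 → r * y ∈ S ∧ r * y ∉ K ∧ orderOf (r * y) = 2 := by
      intro y hy hy1
      have hK : r * y ∉ K := fun h => hrK (by
        have := mul_mem h (inv_mem hy.2); rwa [mul_inv_cancel_right] at this)
      refine ⟨mul_mem hrS hy.1, hK, Involution.orderOf_of_sq ?_ fun e => hK (e ▸ one_mem K)⟩
      rw [mul_assoc r y, ← mul_assoc y r y, ← (hcomm r hra hrb y hy).eq, mul_assoc r y y,
        ← mul_assoc r r, hr2, hsq y hy hy1, hz1]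
    have hcomm' : ∀ y y', y ∈ (S : Subgroup X) ⊓ K → y' ∈ (S : Subgroup X) ⊓ K →
        Commute (q z (r * y)) (q z y') := fun y y' hy hy' => by
      rw [map_mul]
      exact ((hcomm r hra hrb y' hy').map _).mul_left (c.commute_image F ⟨y, hy, rfl⟩ ⟨y', hy', rfl⟩)
    obtain ⟨hs1, hk1, ho1⟩ := hgood h hh hh1
    obtain ⟨hs2, hk2, ho2⟩ := hgood p hp hp1
    refine ⟨r * h, r * p, hs1, hs2, ho1, ho2, hk1, hk2, hcomm' h h hh hh, hcomm' p h hp hh, ?_, Or.inl
      ⟨h * p, mul_mem hh hp, ?_, ?_, ?_⟩⟩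
    · rw [map_mul (q z) r p]
      exact (((Commute.refl r).mul_left (hcomm r hra hrb h hh).symm).map (q z)).mul_right (hcomm' h p hh hp)
    · rw [show r * h * (r * p) = r * r * (h * p) by
        rw [mul_assoc r h, ← mul_assoc h r p, ← (hcomm r hra hrb h hh).eq, mul_assoc r h p, ← mul_assoc r r],
        hr2, map_mul, q_z, one_mul]
    · intro e
      apply hph
      rw [map_mul, mul_eq_one_iff_eq_inv, ← map_inv] at e
      rw [e, ← mul_one (q z p⁻¹), ← q_z (z := z), ← map_mul]
      congr 1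
      rw [← hsq p hp hp1, inv_mul_cancel_left]
    · intro e
      rw [map_mul, mul_eq_left] at e
      exact hp1 e
  push Not at h4
  have hinv : ∀ r ∈ S, r ∉ K → (r * r = 1 ∨ r * r = z) → Commute r a → Commute r b → r * r = 1 :=
    fun r hrS hrK hr2 hra hrb => hr2.resolve_right fun e => h4 r hrS hrK e hra hrb
  have hg1 : g * g = 1 := hinv g hgS hgK hg2 hga hgb
  have hgo : orderOf g = 2 := Involution.orderOf_of_sq hg1 fun e => hgK (e ▸ one_mem K)
  by_cases h2 : ∀ r ∈ S, r ∉ K → r * r = 1 → Commute r a → Commute r b → q z r = q z g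
  · exact c.isolated_false F hgS hgK hgo hga hgb h2
  push Not at h2
  obtain ⟨r, hrS, hrK, hr1, hra, hrb, hne⟩ := h2
  -- the subgroup generated by the two meets `K` in `⟨z⟩`
  have hmeet : ∀ w ∈ (S : Subgroup X), w ∈ K → Commute w a → Commute w b → w = 1 ∨ w = z :=
    fun w hwS hwK hwa hwb => (q_eq_one_iff c.hz).1 (F.q_eq_one_of_centralizes ⟨hwS, hwK⟩ (j := 0)
      (by rwa [pow_zero, pow_one]) (by rwa [pow_zero, one_mul]))
  obtain ⟨r', hr'S, hr'K, hr'1, hr'a, hr'b, hne', hcg⟩ : ∃ r' ∈ S, r' ∉ K ∧ r' * r' = 1 ∧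
      Commute r' a ∧ Commute r' b ∧ q z r' ≠ q z g ∧ Commute g r' := by
    set d := g * r with hd
    have hgR : g ∈ (S : Subgroup X) := hgS
    have hdS : d ∈ (S : Subgroup X) := mul_mem hgS hrS
    have hda : Commute d a := hga.mul_left hra
    have hdb : Commute d b := hgb.mul_left hrb
    obtain ⟨j, hj⟩ := IsPGroup.iff_orderOf.1 S.isPGroup' ⟨d, hdS⟩
    rw [Subgroup.orderOf_mk] at hj
    have hinvd : g * d * g⁻¹ = d⁻¹ := Involution.inverts_mul_left hgo
      (Involution.orderOf_of_sq hr1 fun e => hrK (e ▸ one_mem K))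
    have hgr : g ≠ r := fun e => hne (e ▸ rfl)
    rcases Nat.eq_zero_or_pos j with rfl | hj0
    · refine absurd ?_ hgr
      have : d = 1 := orderOf_eq_one_iff.1 (by simpa using hj)
      rw [hd, mul_eq_one_iff_eq_inv, Involution.inv_eq (Involution.orderOf_of_sq hr1 fun e => hrK (e ▸ one_mem K))] at this
      exact this
    set w := d ^ 2 ^ (j - 1) with hw
    have hwS : w ∈ (S : Subgroup X) := pow_mem hdS _
    have hwo : orderOf w = 2 := by
      rw [hw, orderOf_pow' _ (by positivity), hj, Nat.gcd_eq_right (pow_dvd_pow 2 (by omega)),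
        Nat.pow_div (by omega) (by norm_num), show j - (j - 1) = 1 by omega, pow_one]
    have hwg : Commute g w := mul_inv_eq_iff_eq_mul.1 (by
      rw [hw, ← conj_pow, hinvd, inv_pow, ← hw, Involution.inv_eq hwo])
    have hw1 := Involution.mul_self hwo
    have hwa : Commute w a := hda.pow_left _
    have hwb : Commute w b := hdb.pow_left _
    rcases Nat.lt_or_ge j 2 with hj1 | hj2
    · -- `g` and `r` commute
      refine ⟨r, hrS, hrK, hr1, hra, hrb, hne, ?_⟩
      have hwd : w = d := by rw [hw, show j - 1 = 0 by omega, pow_zero, pow_one]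
      have : g * r * (g * r) = 1 := by rw [← hd, ← hwd]; exact hw1
      calc g * r = (g * r)⁻¹ := eq_inv_of_mul_eq_one_left this
        _ = r * g := by
          rw [mul_inv_rev, Involution.inv_eq hgo,
            Involution.inv_eq (Involution.orderOf_of_sq hr1 fun e => hrK (e ▸ one_mem K))]
    by_cases hwK : w ∈ K
    · exfalso
      rcases hmeet w hwS hwK hwa hwb with e | e
      · exact Involution.ne_one hwo e
      set v := d ^ 2 ^ (j - 2) with hv
      have hvv : v * v = z := by rw [← e, hv, hw, ← pow_add, ← two_mul, ← pow_succ', show j - 2 + 1 = j - 1 by omega]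
      have hvS : v ∈ (S : Subgroup X) := pow_mem hdS _
      by_cases hvK : v ∈ K
      · rcases hmeet v hvS hvK (hda.pow_left _) (hdb.pow_left _) with e' | e' <;> rw [e'] at hvv
        · exact Involution.ne_one c.hz (by rw [← hvv, one_mul])
        · exact Involution.ne_one c.hz (hvv.symm.trans hz1)
      · exact h4 v hvS hvK hvv (hda.pow_left _) (hdb.pow_left _)
    by_cases hwg' : q z w = q z g
    · -- then `g` is central in the dihedral group
      refine ⟨r, hrS, hrK, hr1, hra, hrb, hne, ?_⟩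
      have hwr : Commute w r := by
        have hdw : Commute d w := (Commute.refl d).pow_right _
        have h1 : Commute (g⁻¹ * d) w := hwg.inv_left.mul_left hdw
        rw [hd, inv_mul_cancel_left] at h1
        exact h1.symm
      rcases (q_eq_iff c.hz c.zc).1 hwg' with e | e
      · exact e ▸ hwr
      · have h1 : Commute (w * z) r := hwr.mul_left (c.zc r).symm
        rwa [e, mul_assoc, hz1, mul_one] at h1
    · exact ⟨w, hwS, hwK, hw1, hwa, hwb, hwg', hwg⟩
  refine c.false_of_pairs F hgS hgK hga hgb fun h hh hh1 => ?_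
  have hK3 : g * r' ∉ K := fun hK => hne' (by
    rcases hmeet _ (mul_mem hgS hr'S) hK (hga.mul_left hr'a) (hgb.mul_left hr'b) with e | e
    · rw [mul_eq_one_iff_eq_inv] at e
      rw [e, Involution.inv_eq (Involution.orderOf_of_sq hr'1 fun e' => hr'K (e' ▸ one_mem K))]
    · rw [show r' = g * z by rw [← e, ← mul_assoc, hg1, one_mul], map_mul, q_z, mul_one])
  refine ⟨g, r', hgS, hr'S, hgo, Involution.orderOf_of_sq hr'1 fun e => hr'K (e ▸ one_mem K), hgK, hr'K,
    (hcomm g hga hgb h hh).map _, (hcomm r' hr'a hr'b h hh).map _, hcg.map _,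
    Or.inr ⟨hK3, Involution.orderOf_of_sq ?_ fun e => hK3 (e ▸ one_mem K)⟩⟩
  rw [mul_assoc g r', ← mul_assoc r' g r', ← hcg.eq, mul_assoc g r' r', ← mul_assoc g g, hg1, hr'1, mul_one]

end QCtx

end Cfsg.Agent.RankMeet
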