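/-
A component with quaternion Sylow 2-subgroups over a 2-core of order two is impossible (owner: helper31).

* `QCtx.false` : no Sylow 2-subgroup has an involution outside the component.
-/
import Cfsg.Agent.Lib.RankMeet.QuatBig
import Cfsg.Agent.Lib.RankMeet.QuatSmall

set_option autoImplicit false
set_option linter.style.haveILetI false
set_option linter.unusedSectionVars false

namespace Cfsg.Agent.RankMeet

open Cfsg Subgroup

universe u

variable {X : Type u} [Group X] [Finite X]

namespace Frame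

variable {P : Subgroup X} {z a b : X} (F : Frame P z a b 0)

include F

/-- The generators exchanged. -/
theorem swap (hzc : ∀ g, Commute g z) : Frame P z b a 0 := by
  have hbb := F.bb
  have haa : a * a = z := by have := F.hh; rwa [pow_zero, pow_one] at this
  have hb4 : orderOf b = 4 := by
    have h4 : b ^ 2 ^ 2 = 1 := by
      rw [show (2 : ℕ) ^ 2 = 2 + 2 by norm_num, pow_add, pow_two, hbb, Involution.mul_self F.z_order]
    obtain ⟨j, hj, hj'⟩ := (Nat.dvd_prime_pow Nat.prime_two).1 (orderOf_dvd_of_pow_eq_one h4)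
    interval_cases j
    · simp at hj'
      exact absurd (by rw [← hbb, hj', one_mul]) (Involution.ne_one F.z_order)
    · have := pow_orderOf_eq_one b
      rw [hj', pow_one, pow_two, hbb] at this
      exact absurd this (Involution.ne_one F.z_order)
    · exact hj'
  refine ⟨F.hb, F.ha, by rw [hb4]; norm_num, by rw [zero_add, pow_one, pow_two, hbb], haa, ?_, F.card⟩
  have h1 : b * a⁻¹ = a * b := mul_inv_eq_iff_eq_mul.1 (by rw [← conj_inv, F.bab, inv_inv])
  rw [mul_assoc, h1, ← mul_assoc, haa, ← (hzc b).eq]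
  exact eq_inv_of_mul_eq_one_left (by
    rw [mul_assoc, (hzc b).symm.eq, ← mul_assoc, hbb, Involution.mul_self F.z_order])

/-- The product as a first generator. -/
theorem turn (hzc : ∀ g, Commute g z) : Frame P z (a * b) a 0 := by
  have haa : a * a = z := by have := F.hh; rwa [pow_zero, pow_one] at this
  have hab : a * b * (a * b) = z := by have := F.sq_outer 1; rwa [pow_one] at this
  have h4 : orderOf (a * b) = 4 := by
    have h4 : (a * b) ^ 2 ^ 2 = 1 := by
      rw [show (2 : ℕ) ^ 2 = 2 + 2 by norm_num, pow_add, pow_two, hab, Involution.mul_self F.z_order]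
    obtain ⟨j, hj, hj'⟩ := (Nat.dvd_prime_pow Nat.prime_two).1 (orderOf_dvd_of_pow_eq_one h4)
    interval_cases j
    · simp at hj'
      exact absurd (by rw [← hab, hj', one_mul]) (Involution.ne_one F.z_order)
    · have := pow_orderOf_eq_one (a * b)
      rw [hj', pow_one, pow_two, hab] at this
      exact absurd this (Involution.ne_one F.z_order)
    · exact hj'
  refine ⟨mul_mem F.ha F.hb, F.ha, by rw [h4]; norm_num, by rw [zero_add, pow_one, pow_two, hab], haa, ?_,
    F.card⟩
  have h0 : a * b * a⁻¹ = b⁻¹ := (F.swap hzc).bab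
  rw [show a * (a * b) * a⁻¹ = a * (a * b * a⁻¹) by group, h0]
  refine eq_inv_of_mul_eq_one_left ?_
  calc a * b⁻¹ * (a * b) = a * (b⁻¹ * a * b) := by group
    _ = a * a⁻¹ := by
      congr 1
      have h2 : b * a⁻¹ * b⁻¹ = a := by rw [← conj_inv, F.bab, inv_inv]
      calc b⁻¹ * a * b = b⁻¹ * (b * a⁻¹ * b⁻¹) * b := by rw [h2]
        _ = a⁻¹ := by group
    _ = 1 := mul_inv_cancel a

end Frame

namespace QCtx

variable {K : Subgroup X} {z : X} (c : QCtx K z)

include c

/-- An outer element fixing both generators modulo `⟨z⟩` in order eight. -/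
theorem inner_small [(zpowers z).Normal] {S : Sylow 2 X} {a b : X}
    (F : Frame ((S : Subgroup X) ⊓ K) z a b 0) {g : X} (hgS : g ∈ S) (hgK : g ∉ K)
    (hg2 : g * g = 1 ∨ g * g = z) (hga : q z (g * a * g⁻¹) = q z a) (hgb : q z (g * b * g⁻¹) = q z b) :
    False := by
  have haP : q z a = q z (a ^ 2 ^ 0) := by rw [pow_zero, pow_one]
  have hfinish : ∀ g, g ∈ S → g ∉ K → (g * g = 1 ∨ g * g = z) → q z (g * a * g⁻¹) = q z a →
      g * a * g⁻¹ ≠ a⁻¹ → False := by
    intro g hgS hgK hg2 hga hne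
    have hmem : g * a * g⁻¹ ∈ zpowers a := by
      rcases (q_eq_iff c.hz c.zc).1 hga with e | e <;> rw [e]
      · exact mem_zpowers a
      · exact mul_mem (mem_zpowers a) (F.powa ▸ pow_mem (mem_zpowers a) _)
    obtain ⟨d, hd, hd2, hda, hdb⟩ := F.exists_fix c.zc hg2 (c.conj_inf (le_normalizer hgS)) hmem
      (by rwa [pow_zero, pow_one])
    rw [pow_zero, pow_one] at hd hda
    rcases hd with rfl | rfl
    · exact c.no_inner_small F hgS hgK hd2 hda hdb
    · exact c.no_inner_small F (mul_mem F.ha.1 hgS) (fun h => hgK (by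
        have := mul_mem (inv_mem (show a ∈ K from F.ha.2)) h; rwa [inv_mul_cancel_left] at this)) hd2 hda hdb
  by_cases hne : g * a * g⁻¹ = a⁻¹
  · refine hfinish (b * g) (mul_mem F.hb.1 hgS) (fun h => hgK (by
      have := mul_mem (inv_mem (show b ∈ K from F.hb.2)) h; rwa [inv_mul_cancel_left] at this)) ?_ ?_ ?_
    · rw [← q_eq_one_iff c.hz]
      have hc : Commute (q z g) (q z b) := by
        rw [map_mul, map_mul, map_inv] at hgb
        exact mul_inv_eq_iff_eq_mul.1 hgb
      have h1 : q z g * q z g = 1 := by rw [← map_mul]; exact (q_eq_one_iff c.hz).2 hg2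
      have h2 : q z b * q z b = 1 := by rw [← map_mul, F.bb, q_z]
      rw [map_mul, map_mul, mul_assoc (q z b), ← mul_assoc (q z g), hc.eq, mul_assoc (q z b) (q z g),
        h1, mul_one, h2]
    · have h3 := F.q_commute_h F.hb
      rw [pow_zero, pow_one] at h3
      rw [show b * g * a * (b * g)⁻¹ = b * (g * a * g⁻¹) * b⁻¹ by group, map_mul, map_mul, hga, map_inv,
        h3.eq, mul_inv_cancel_right]
    · rw [show b * g * a * (b * g)⁻¹ = b * (g * a * g⁻¹) * b⁻¹ by group, hne, ← conj_inv, F.bab, inv_inv]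
      have := F.h_ne_inv
      rwa [pow_zero, pow_one] at this
  · exact hfinish g hgS hgK hg2 hga hne

/-- No Sylow 2-subgroup has an involution outside `K`. -/
theorem false_of_outer {S : Sylow 2 X} {t : X} (htS : t ∈ S) (ht : orderOf t = 2) (htK : t ∉ K) :
    False := by
  haveI := c.normalZ
  haveI := c.normal
  obtain ⟨a, b, k, F⟩ := c.exists_frame S
  have htt := Involution.mul_self ht
  have key : ∀ {a b : X} {k : ℕ} (F : Frame ((S : Subgroup X) ⊓ K) z a b k),
      (∀ g ∈ S, g ∉ K → (g * g = 1 ∨ g * g = z) → Commute (q z g) (q z t) → g * a * g⁻¹ ∈ zpowers a) →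
      (∀ g, g ∈ S → g ∉ K → (g * g = 1 ∨ g * g = z) → Commute g (a ^ 2 ^ k) → Commute g b → False) → False := by
    intro a b k F hA hC
    refine c.false_of_inverts F htS ht htK fun g hgS hgK hg2 hgt => ?_
    by_contra hne
    obtain ⟨d, hd, hd2, hda, hdb⟩ := F.exists_fix c.zc hg2 (c.conj_inf (le_normalizer hgS))
      (hA g hgS hgK hg2 hgt) hne
    rcases hd with rfl | rfl
    · exact hC _ hgS hgK hd2 hda hdb
    · exact hC _ (mul_mem F.h_mem.1 hgS) (fun h => hgK (by
        have := mul_mem (inv_mem (show a ^ 2 ^ k ∈ K from F.h_mem.2)) h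
        rwa [inv_mul_cancel_left] at this)) hd2 hda hdb
  rcases Nat.eq_zero_or_pos k with rfl | hk
  swap
  · exact key F (fun g hgS _ _ _ => F.conj_a_mem hk (c.conj_inf (le_normalizer hgS)))
      fun g h1 h2 h3 h4 h5 => c.false_of_centralizing hk F h1 h2 h3 h4 h5
  have hqq : ∀ x : X, x ∈ (S : Subgroup X) ⊓ K → q z (t * x * t⁻¹) ∈ ((S : Subgroup X) ⊓ K).map (q z) :=
    fun x hx => ⟨_, c.conj_inf (le_normalizer htS) x hx, rfl⟩
  have hne1 : ∀ {a b : X}, Frame ((S : Subgroup X) ⊓ K) z a b 0 → q z a ≠ 1 ∧ q z b ≠ 1 ∧ q z a ≠ q z b := by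
    intro a b F
    have hzA : z ∈ zpowers a := F.powa ▸ pow_mem (mem_zpowers a) _
    refine ⟨fun e => ?_, fun e => F.b_not_mem ?_, fun e => F.b_not_mem ?_⟩
    · have haa := F.hh
      rw [pow_zero, pow_one] at haa
      rcases (q_eq_one_iff c.hz).1 e with e' | e' <;> rw [e'] at haa
      · exact Involution.ne_one c.hz (by rw [← haa, one_mul])
      · exact Involution.ne_one c.hz (haa.symm.trans (Involution.mul_self c.hz))
    · rcases (q_eq_one_iff c.hz).1 e with e' | e' <;> rw [e']
      · exact one_mem _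
      · exact hzA
    · rcases (q_eq_iff c.hz c.zc).1 e.symm with e' | e' <;> rw [e']
      · exact mem_zpowers a
      · exact mul_mem (mem_zpowers a) hzA
  have hqt : q z t * q z t = 1 := by rw [← map_mul, htt, map_one]
  have hinvol : ∀ x, q z (t * (t * x * t⁻¹) * t⁻¹) = q z x := fun x => by
    rw [show t * (t * x * t⁻¹) * t⁻¹ = t * t * x * (t * t)⁻¹ by group, htt, one_mul, inv_one, mul_one]
  -- a generator fixed by `t`
  obtain ⟨a', b', F', hfix⟩ : ∃ a' b', Frame ((S : Subgroup X) ⊓ K) z a' b' 0 ∧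
      q z (t * a' * t⁻¹) = q z a' := by
    obtain ⟨n1, n2, n12⟩ := hne1 F
    have hgen := c.four_gen F ⟨a, F.ha, rfl⟩ ⟨b, F.hb, rfl⟩ (hqq a F.ha) n1 n2 n12
    rcases hgen with e | e | e | e
    · rw [map_mul, map_mul, map_inv, conj_eq_one_iff] at e
      exact absurd e n1
    · exact ⟨a, b, F, e⟩
    · -- `a ↦ b`
      refine ⟨a * b, a, F.turn c.zc, ?_⟩
      have hb' : q z (t * b * t⁻¹) = q z a := by
        rw [map_mul, map_mul, ← e, ← map_mul, ← map_mul, hinvol]
      rw [show t * (a * b) * t⁻¹ = t * a * t⁻¹ * (t * b * t⁻¹) by group, map_mul, e, hb', map_mul,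
        (c.commute_image F ⟨b, F.hb, rfl⟩ ⟨a, F.ha, rfl⟩).eq]
    · -- `a ↦ a b`
      refine ⟨b, a, F.swap c.zc, ?_⟩
      have hab' : q z (t * (a * b) * t⁻¹) = q z a := by
        rw [map_mul, map_mul, map_mul, ← e, ← map_mul, ← map_mul, hinvol]
      have ha2 : q z a * q z a = 1 := by
        rw [← map_mul]; have := F.hh; rw [pow_zero, pow_one] at this; rw [this, q_z]
      rw [show t * b * t⁻¹ = (t * a * t⁻¹)⁻¹ * (t * (a * b) * t⁻¹) by group, map_mul, map_inv, e, hab',
        mul_inv_rev, inv_eq_of_mul_eq_one_right ha2, mul_assoc, ha2, mul_one,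
        inv_eq_of_mul_eq_one_right (show q z b * q z b = 1 by rw [← map_mul, F.bb, q_z])]
  clear F
  by_cases hfb : q z (t * b' * t⁻¹) = q z b'
  · exact c.inner_small F' htS htK (Or.inl htt) hfix hfb
  refine key F' (fun g hgS _ _ hgt => ?_) fun g h1 h2 h3 h4 h5 => by
    rw [pow_zero, pow_one] at h4
    exact c.no_inner_small F' h1 h2 h3 h4 h5
  obtain ⟨n1, n2, n12⟩ := hne1 F'
  have hmem : q z (g * a' * g⁻¹) ∈ ((S : Subgroup X) ⊓ K).map (q z) :=
    ⟨_, c.conj_inf (le_normalizer hgS) a' F'.ha, rfl⟩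
  have hfix' : q z (t * (g * a' * g⁻¹) * t⁻¹) = q z (g * a' * g⁻¹) := by
    simp only [map_mul, map_inv] at hfix ⊢
    calc q z t * (q z g * q z a' * (q z g)⁻¹) * (q z t)⁻¹
        = (q z t * q z g) * q z a' * (q z t * q z g)⁻¹ := by group
      _ = q z g * (q z t * q z a' * (q z t)⁻¹) * (q z g)⁻¹ := by rw [← hgt.eq]; group
      _ = q z g * q z a' * (q z g)⁻¹ := by rw [hfix]
  have hzA : z ∈ zpowers a' := F'.powa ▸ pow_mem (mem_zpowers a') _
  rcases c.four_gen F' ⟨a', F'.ha, rfl⟩ ⟨b', F'.hb, rfl⟩ hmem n1 n2 n12 with e | e | e | e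
  · rw [map_mul, map_mul, map_inv, conj_eq_one_iff] at e
    exact absurd e n1
  · rcases (q_eq_iff c.hz c.zc).1 e with e' | e' <;> rw [e']
    · exact mem_zpowers a'
    · exact mul_mem (mem_zpowers a') hzA
  · exfalso
    apply hfb
    rw [map_mul, map_mul, map_inv, ← e]
    rw [map_mul, map_mul, map_inv] at hfix'
    exact hfix'
  · exfalso
    apply hfb
    rw [map_mul (q z) (t * (g * a' * g⁻¹)), map_mul (q z) t, e] at hfix'
    simp only [map_mul, map_inv] at hfix hfix' ⊢
    apply mul_left_cancel (a := q z a')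
    calc q z a' * (q z t * q z b' * (q z t)⁻¹)
        = (q z t * q z a' * (q z t)⁻¹) * (q z t * q z b' * (q z t)⁻¹) := by rw [hfix]
      _ = q z t * (q z a' * q z b') * (q z t)⁻¹ := by group
      _ = q z a' * q z b' := hfix'

end QCtx

end Cfsg.Agent.RankMeet
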