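/-
A component with its centraliser has odd index (owner: helper31).

* `eq_of_inf_le` : a Sylow 2-subgroup of a normal section with a four group over it lies in one Sylow.
* `odd_index_of_component` : `K C(K)` has odd index when `K/Z(K)` is in the three families.
-/
import Cfsg.Agent.Lib.RankMeet.Components

set_option autoImplicit false
set_option linter.style.haveILetI false
set_option linter.unusedSectionVars false

namespace Cfsg.Agent.RankMeet

open Cfsg Subgroup Components
open scoped Pointwise IsMulCommutative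

universe u v

variable {X : Type u} [Group X] [Finite X]

/-- If the preimage of a normal subgroup contains a four group, each Sylow 2-subgroup of the normal
subgroup lies in only one Sylow 2-subgroup. -/
theorem eq_of_inf_le (hR : RankMeet X) {Y : Type v} [Group Y] {f : X →* Y} (hf : Function.Surjective f)
    (Lb : Subgroup Y) [Lb.Normal] {a b : X} (ha : orderOf a = 2) (hb : orderOf b = 2) (hab : a ≠ b)
    (hc : Commute a b) (haM : f a ∈ Lb) (hbM : f b ∈ Lb) (Sb Tb : Sylow 2 Y)
    (hle : (Sb : Subgroup Y) ⊓ Lb ≤ (Tb : Subgroup Y)) : Sb = Tb := by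
  haveI : Fact (Nat.Prime 2) := ⟨Nat.prime_two⟩
  haveI : Finite Y := Finite.of_surjective _ hf
  obtain ⟨S, -, hS⟩ := SylowLift.exists_le_map_eq hf Sb (R := ⊥) IsPGroup.of_bot (by simp)
  obtain ⟨T, -, hT⟩ := SylowLift.exists_le_map_eq hf Tb (R := ⊥) IsPGroup.of_bot (by simp)
  set M := Lb.comap f with hM
  set A := (Sb : Subgroup Y) ⊓ Lb with hA
  have hAT : (Tb : Subgroup Y) ⊓ Lb = A := by
    have hp : IsPGroup 2 ↥(A.subgroupOf Lb) := (Sb.isPGroup'.to_le inf_le_left).comap_subtype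
    have hidx : ¬ 2 ∣ (A.subgroupOf Lb).index := by
      rw [hA, inf_subgroupOf_right]
      exact fun h => Sb.not_dvd_index (h.trans (ClassIndex.relIndex_dvd_index_of_normal_right _ Lb))
    have h1 := (hp.toSylow hidx).is_maximal' (Q := ((Tb : Subgroup Y) ⊓ Lb).subgroupOf Lb)
      ((Tb.isPGroup'.to_le inf_le_left).comap_subtype)
      fun x hx => mem_subgroupOf.2 ⟨hle (mem_subgroupOf.1 hx), x.2⟩
    have h2 : (((Tb : Subgroup Y) ⊓ Lb).subgroupOf Lb).map Lb.subtype = (A.subgroupOf Lb).map Lb.subtype :=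
      congrArg (Subgroup.map Lb.subtype) h1
    rwa [map_subgroupOf_eq_of_le inf_le_right, map_subgroupOf_eq_of_le (inf_le_right : A ≤ Lb)] at h2
  set M₀ := A.comap f with hM₀
  have hM₀M : M₀ ≤ M := comap_mono inf_le_right
  have hlow : ∀ W : Sylow 2 X, ∀ B : Subgroup Y, (W : Subgroup X).map f = B → B ⊓ Lb = A →
      (W : Subgroup X) ⊓ M ≤ M₀ := fun W B hW hB x hx => by
    show f x ∈ A
    rw [← hB, ← hW]
    exact ⟨⟨x, hx.1, rfl⟩, hx.2⟩
  have hsyl : ∀ W : Sylow 2 X, (W : Subgroup X) ⊓ M ≤ M₀ →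
      ∃ P : Sylow 2 M₀, (P : Subgroup M₀) = ((W : Subgroup X) ⊓ M).subgroupOf M₀ := fun W hW => by
    refine ⟨((W.isPGroup'.to_le (inf_le_left : (W : Subgroup X) ⊓ M ≤ _)).comap_subtype
      (K := M₀)).toSylow ?_, rfl⟩
    have h1 : ((W : Subgroup X) ⊓ M).relIndex M₀ ∣ ((W : Subgroup X) ⊓ M).relIndex M := by
      rw [← relIndex_mul_relIndex _ _ _ hW hM₀M]
      exact dvd_mul_right _ _
    intro h
    have h2 := h.trans h1
    rw [inf_relIndex_right] at h2
    exact W.not_dvd_index (h2.trans (ClassIndex.relIndex_dvd_index_of_normal_right _ M))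
  obtain ⟨P, hP⟩ := hsyl S (hlow S _ hS rfl)
  obtain ⟨P', hP'⟩ := hsyl T (hlow T _ hT hAT)
  obtain ⟨⟨g, hg⟩, hgP⟩ := MulAction.exists_smul_eq M₀ P P'
  -- a four group inside `S ⊓ M`
  obtain ⟨a', b', ha', hb', ha'2, hb'2, hab', hc'⟩ : ∃ a' b' : X, a' ∈ (S : Subgroup X) ⊓ M ∧
      b' ∈ (S : Subgroup X) ⊓ M ∧ orderOf a' = 2 ∧ orderOf b' = 2 ∧ a' ≠ b' ∧ Commute a' b' := by
    set V := Bender.fourOf (Involution.mul_self ha) (Involution.mul_self hb) hc with hV
    have hVp : IsPGroup 2 V := fun ⟨x, hx⟩ => ⟨1, by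
      rcases hx with e | e | e | e <;> subst e <;> refine Subtype.ext ?_ <;>
        simp only [pow_one, pow_two, Subgroup.coe_mul, Subgroup.coe_one]
      · exact one_mul 1
      · exact Involution.mul_self ha
      · exact Involution.mul_self hb
      · exact Involution.mul_self (orderOf_mul_of_commute ha hb hab hc)⟩
    obtain ⟨W, hW⟩ := hVp.exists_le_sylow
    obtain ⟨m, hm⟩ := MulAction.exists_smul_eq X W S
    have key : ∀ w ∈ V, f w ∈ Lb → m * w * m⁻¹ ∈ (S : Subgroup X) ⊓ M := fun w hw hwL => by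
      refine ⟨?_, ?_⟩
      · rw [← hm, Sylow.coe_subgroup_smul]
        exact ⟨w, hW hw, rfl⟩
      · show f (m * w * m⁻¹) ∈ Lb
        rw [map_mul, map_mul, map_inv]
        exact (inferInstance : Lb.Normal).conj_mem _ hwL _
    exact ⟨_, _, key a (Or.inr (Or.inl rfl)) haM, key b (Or.inr (Or.inr (Or.inl rfl))) hbM,
      by rw [Involution.orderOf_conj, ha], by rw [Involution.orderOf_conj, hb],
      fun h => hab (mul_left_cancel (mul_right_cancel h)), CentralMeet.commute_conj m hc⟩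
  have hgm : ∀ x ∈ (S : Subgroup X) ⊓ M, g * x * g⁻¹ ∈ (T : Subgroup X) := fun x hx => by
    have hxP : (⟨x, hlow S _ hS rfl hx⟩ : M₀) ∈ (P : Subgroup M₀) := by rw [hP]; exact hx
    have h1 : (⟨g, hg⟩ : M₀) * ⟨x, hlow S _ hS rfl hx⟩ * (⟨g, hg⟩ : M₀)⁻¹ ∈ (P' : Subgroup M₀) := by
      rw [← hgP, Sylow.coe_subgroup_smul]
      exact ⟨_, hxP, rfl⟩
    rw [hP'] at h1
    exact h1.1
  have hgS : g • S = T := eq_of_four hR
    (a := g * a' * g⁻¹) (b := g * b' * g⁻¹) (by rw [Involution.orderOf_conj, ha'2])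
    (by rw [Involution.orderOf_conj, hb'2]) (fun h => hab' (mul_left_cancel (mul_right_cancel h)))
    (CentralMeet.commute_conj g hc') ⟨a', ha'.1, rfl⟩ ⟨b', hb'.1, rfl⟩ (hgm a' ha') (hgm b' hb')
  refine Sylow.ext ?_
  rw [← hT, ← hgS, Sylow.coe_subgroup_smul, ← hS]
  have hfg : f g ∈ (S : Subgroup X).map f := hS ▸ (show f g ∈ (Sb : Subgroup Y) from (hg : f g ∈ A).1)
  ext y
  constructor
  · rintro ⟨x, hx, rfl⟩
    obtain ⟨g₀, hg₀, he⟩ := hfg
    refine ⟨g * (g₀⁻¹ * x * g₀) * g⁻¹, ⟨g₀⁻¹ * x * g₀, mul_mem (mul_mem (inv_mem hg₀) hx) hg₀, rfl⟩, ?_⟩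
    simp only [map_mul, map_inv, he]
    group
  · rintro ⟨_, ⟨x, hx, rfl⟩, rfl⟩
    show f (g * x * g⁻¹) ∈ (S : Subgroup X).map f
    rw [map_mul, map_mul, map_inv]
    exact mul_mem (mul_mem hfg ⟨x, hx, rfl⟩) (inv_mem hfg)

/-- `K C(K)` has odd index. -/
theorem odd_index_of_component (hR : RankMeet X) {K : Subgroup X} [K.Normal] (hK : Cfsg.IsComponent K)
    (h3 : ThreeFam (K ⧸ center K)) {a b : X} (ha : orderOf a = 2) (hb : orderOf b = 2) (hab : a ≠ b)
    (hc : Commute a b) (haM : a ∈ K ⊔ centralizer (K : Set X)) (hbM : b ∈ K ⊔ centralizer (K : Set X)) :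
    Odd (K ⊔ centralizer (K : Set X)).index := by
  classical
  set C := centralizer (K : Set X) with hC
  set f := QuotientGroup.mk' C with hf
  set φ : K →* X ⧸ C := f.comp K.subtype with hφ
  have hker : φ.ker = center K := by
    ext x
    rw [MonoidHom.mem_ker, hφ, MonoidHom.comp_apply, hf, QuotientGroup.mk'_apply,
      QuotientGroup.eq_one_iff, mem_center_iff]
    exact ⟨fun h k => Subtype.ext (h k.1 k.2), fun h k hk => congrArg Subtype.val (h ⟨k, hk⟩)⟩
  have hrange : φ.range = K.map f := by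
    rw [hφ, MonoidHom.range_comp, range_subtype]
  haveI hLn : (K.map f).Normal := Subgroup.Normal.map inferInstance f (QuotientGroup.mk'_surjective C)
  have e : ↥(K.map f) ≃* K ⧸ center K :=
    ((MulEquiv.subgroupCongr hrange.symm).trans (QuotientGroup.quotientKerEquivRange φ).symm).trans
      (QuotientGroup.quotientMulEquivOfEq hker)
  haveI := hK.2.2
  haveI : Nontrivial ↥(K.map f) := e.toEquiv.nontrivial
  haveI : IsSimpleGroup ↥(K.map f) := e.isSimpleGroup
  have hns : ¬ Group.IsSolvable (K ⧸ center K) := fun h =>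
    component_not_isSolvable hK ((Group.isSolvable_iff_subgroup_quotient (center K)).2 ⟨inferInstance, h⟩)
  have hab' : ¬ IsMulCommutative ↥(K.map f) := fun h => hns (by
    haveI : Group.IsSolvable ↥(K.map f) := Group.isSolvable_of_comm h.is_comm.comm
    exact Group.isSolvable_of_surjective (f := e.toMonoidHom) e.surjective)
  have hrig := ThreeFam.coreRigid (L := ↥(K.map f)) (h3.congr e)
  have hperf : ⁅K, K⁆ = K := IsComponent.perfect hK
  have hCL : centralizer (K.map f : Set (X ⧸ C)) = ⊥ := by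
    rw [eq_bot_iff]
    intro y hy
    obtain ⟨x, rfl⟩ := QuotientGroup.mk'_surjective C y
    rw [mem_bot, QuotientGroup.mk'_apply, QuotientGroup.eq_one_iff]
    have h1 : ⁅K, zpowers x⁆ ≤ C ⊓ K := by
      refine le_inf ((commutator_le).2 fun k hk w hw => ?_) (commutator_le_left _ _)
      obtain ⟨i, rfl⟩ := mem_zpowers_iff.1 hw
      rw [← QuotientGroup.eq_one_iff, ← QuotientGroup.mk'_apply, map_commutatorElement,
        commutatorElement_eq_one_iff_mul_comm, map_zpow]
      exact ((show Commute (f k) (f x) from hy (f k) ⟨k, hk, rfl⟩).zpow_right i).eq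
    have h2 : ⁅C ⊓ K, K⁆ = ⊥ := commutator_eq_bot_iff_le_centralizer.2 inf_le_left
    have h3 := commutator_eq_bot_of_perfect_of_le hperf h1 h2
    rw [commutator_comm, commutator_eq_bot_iff_le_centralizer] at h3
    exact h3 (mem_zpowers x)
  have hcomap : (K.map f).comap f = K ⊔ C := by rw [comap_map_eq, hf, QuotientGroup.ker_mk']
  have h := MeetReduce.odd_index_of_unique hab' hCL hrig fun S S' hle =>
    eq_of_inf_le hR (QuotientGroup.mk'_surjective C) (K.map f) ha hb hab hc
      (by rw [← mem_comap, hcomap]; exact haM) (by rw [← mem_comap, hcomap]; exact hbM) S S' hle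
  rwa [← index_comap_of_surjective (K.map f) (QuotientGroup.mk'_surjective C), hcomap] at h

end Cfsg.Agent.RankMeet
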