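/-
Two components: alternative (b) of S3310 (owner: helper72).

* `exists_pair` : two components share their central involution and have no further one.
* `Pair.card`, `Pair.equiv` : each is SL(2,5).
* `Pair.pCore_card`, `Pair.components`, `Pair.centralizer_sup_le` : the 2-core has order two, there is no
  third component, their product is self-centralising.
* `conclB_of_two` : alternative (b).
-/
import Cfsg.Agent.Lib.RankMeet.Components
import Cfsg.Agent.Lib.RankMeet.OddIndex
import Cfsg.Agent.S3378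

set_option autoImplicit false
set_option linter.style.haveILetI false
set_option linter.unusedSectionVars false

namespace Cfsg.Agent.RankMeet

open Cfsg Subgroup Components
open scoped Pointwise

universe u

variable {X : Type u} [Group X] [Finite X] {K J : Subgroup X} {z : X}

/-- Two components with the shared involution `z`. -/
structure Pair (z : X) (K J : Subgroup X) : Prop where
  core : Cfsg.oddCore X = ⊥
  meet : RankMeet X
  nonsolvable : ¬ Group.IsSolvable X
  compK : Cfsg.IsComponent K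
  compJ : Cfsg.IsComponent J
  ne : K ≠ J
  ord : orderOf z = 2
  comm : ∀ g, Commute g z
  memCore : z ∈ Cfsg.pCore 2 X
  memK : z ∈ K
  memJ : z ∈ J
  uniqK : ∀ x ∈ K, x * x = 1 → x = 1 ∨ x = z
  uniqJ : ∀ x ∈ J, x * x = 1 → x = 1 ∨ x = z
  centK : ∀ x ∈ K, x ∈ centralizer (K : Set X) → x = 1 ∨ x = z
  centJ : ∀ x ∈ J, x ∈ centralizer (J : Set X) → x = 1 ∨ x = z

theorem Pair.symm (h : Pair z K J) : Pair z J K :=
  ⟨h.core, h.meet, h.nonsolvable, h.compJ, h.compK, h.ne.symm, h.ord, h.comm, h.memCore, h.memJ, h.memK,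
    h.uniqJ, h.uniqK, h.centJ, h.centK⟩

theorem component_le_centralizer (hK : Cfsg.IsComponent K) (hJ : Cfsg.IsComponent J) (hne : K ≠ J) :
    J ≤ centralizer (K : Set X) :=
  commutator_eq_bot_iff_le_centralizer.1 (IsComponent.commutator_eq_bot hJ hK hne.symm)

/-- A component centralised by another one has no four group. -/
theorem no_four (hR : RankMeet X) (hK : Cfsg.IsComponent K) (hJ : Cfsg.IsComponent J) (hne : K ≠ J)
    {a b : X} (haK : a ∈ K) (hbK : b ∈ K) (ha : orderOf a = 2) (hb : orderOf b = 2) (hab : a ≠ b)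
    (hc : Commute a b) : False := by
  haveI := isSolvable_centralizer_of_four hR ha hb hab hc haK hbK
  exact component_not_isSolvable hJ
    (Group.isSolvable_of_isSolvable_injective (inclusion_injective (component_le_centralizer hK hJ hne)))

theorem quaternion_sylow (hR : RankMeet X) (hK : Cfsg.IsComponent K) (hJ : Cfsg.IsComponent J)
    (hne : K ≠ J) (P : Sylow 2 K) :
    ∃ n : ℕ, Nonempty (↥(P : Subgroup K) ≃* QuaternionGroup (2 ^ (n + 1))) := by
  rcases exists_four_or_quaternion hK with ⟨a, b, ha, hb, ha2, hb2, hab, hc⟩ | h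
  · exact (no_four hR hK hJ hne ha hb ha2 hb2 hab hc).elim
  · exact h P

theorem exists_centre_involution (hcore : Cfsg.oddCore X = ⊥) (hR : RankMeet X) (hK : Cfsg.IsComponent K)
    (hJ : Cfsg.IsComponent J) (hne : K ≠ J) :
    ∃ z : X, orderOf z = 2 ∧ z ∈ K ∧ z ∈ Cfsg.pCore 2 X ∧
      (∀ x ∈ K, x ∈ centralizer (K : Set X) → x = 1 ∨ x = z) := by
  haveI : Fact (Nat.Prime 2) := ⟨Nat.prime_two⟩
  obtain ⟨P⟩ : Nonempty (Sylow 2 K) := inferInstance
  obtain ⟨n, ⟨e⟩⟩ := quaternion_sylow hR hK hJ hne P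
  exact exists_central_involution hcore hK (center_of_quaternion hcore hK e)

theorem exists_pair (hX : Hyp X) (hK : Cfsg.IsComponent K) (hJ : Cfsg.IsComponent J) (hne : K ≠ J) :
    ∃ z, Pair z K J := by
  obtain ⟨z, hz, hzK, hzQ, hcK⟩ := exists_centre_involution hX.core hX.meet hK hJ hne
  obtain ⟨w, hw, hwJ, hwQ, hcJ⟩ := exists_centre_involution hX.core hX.meet hJ hK hne.symm
  obtain rfl : w = z := eq_of_involution (Cores.isPGroup_pCore 2 X)
    (pCore_rankOne hX.meet hX.nonsolvable) hwQ hzQ hw hz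
  have hc := pCore_involution_central hX.meet hX.nonsolvable hzQ hz
  have uniq : ∀ {A B : Subgroup X}, Cfsg.IsComponent A → Cfsg.IsComponent B → A ≠ B → w ∈ A →
      ∀ x ∈ A, x * x = 1 → x = 1 ∨ x = w := by
    intro A B hA hB hAB hwA x hx hxx
    by_contra h
    push Not at h
    exact no_four hX.meet hA hB hAB hx hwA (Involution.orderOf_of_sq hxx h.1) hw h.2 (hc x)
  exact ⟨w, hX.core, hX.meet, hX.nonsolvable, hK, hJ, hne, hz, hc, hzQ, hzK, hwJ,
    uniq hK hJ hne hzK, uniq hJ hK hne.symm hwJ, hcK, hcJ⟩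

namespace Pair

variable (h : Pair z K J)
include h

theorem le_centralizer : J ≤ centralizer (K : Set X) := component_le_centralizer h.compK h.compJ h.ne

theorem sq_z : z * z = 1 := Involution.mul_self h.ord

/-- An element of order four in a Sylow 2-subgroup. -/
theorem exists_root (P : Sylow 2 K) : ∃ c : K, c ∈ (P : Subgroup K) ∧ (c : X) * c = z := by
  obtain ⟨n, ⟨e⟩⟩ := quaternion_sylow h.meet h.compK h.compJ h.ne P
  haveI : NeZero (2 ^ (n + 1)) := ⟨by positivity⟩
  set c := e.symm (QuaternionGroup.xa 0) with hcdef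
  have hc : orderOf ((c : K) : X) = 4 := by
    rw [Subgroup.orderOf_coe, Subgroup.orderOf_coe, hcdef, MulEquiv.orderOf_eq,
      QuaternionGroup.orderOf_xa]
  refine ⟨c, c.2, ?_⟩
  have h4 : ((c : K) : X) * c * (((c : K) : X) * c) = 1 := by
    have := pow_orderOf_eq_one ((c : K) : X)
    rw [hc] at this
    simpa [pow_succ, mul_assoc] using this
  rcases h.uniqK _ (mul_mem (c : K).2 (c : K).2) h4 with h1 | h1
  · have := orderOf_dvd_of_pow_eq_one (n := 2) ((pow_two _).trans h1)
    rw [hc] at this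
    norm_num at this
  · exact h1

theorem exists_root' : ∃ c ∈ K, c * c = z ∧ c ∉ centralizer (K : Set X) := by
  haveI : Fact (Nat.Prime 2) := ⟨Nat.prime_two⟩
  obtain ⟨P⟩ : Nonempty (Sylow 2 K) := inferInstance
  obtain ⟨c, -, hc⟩ := h.exists_root P
  refine ⟨c, c.2, hc, fun hcc => ?_⟩
  rcases h.centK c c.2 hcc with e | e <;> rw [e] at hc
  · exact Involution.ne_one h.ord (by rw [← hc, one_mul])
  · exact Involution.ne_one h.ord (by rw [← hc, h.sq_z])

theorem mul_root {c d : X} (hc : c ∈ K) (hcc : c * c = z) (hcn : c ∉ centralizer (K : Set X))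
    (hd : d ∈ centralizer (K : Set X)) (hdd : d * d = z) : orderOf (c * d) = 2 ∧ c * d ≠ z := by
  have hcom : c * d = d * c := mem_centralizer_iff.1 hd c hc
  have hzK : z ∈ centralizer (K : Set X) := fun k _ => (h.comm k).eq
  refine ⟨Involution.orderOf_of_sq ?_ fun e => hcn ?_, fun e => hcn ?_⟩
  · calc c * d * (c * d) = c * (d * c) * d := by simp only [mul_assoc]
      _ = c * c * (d * d) := by rw [← hcom]; simp only [mul_assoc]
      _ = 1 := by rw [hcc, hdd, h.sq_z]
  · rw [eq_inv_of_mul_eq_one_left e]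
    exact inv_mem hd
  · rw [eq_mul_inv_of_mul_eq e]
    exact mul_mem hzK (inv_mem hd)

/-- The four group of `K J`. -/
theorem exists_four : ∃ c ∈ K, ∃ d ∈ J, orderOf (c * d) = 2 ∧ c * d ≠ z := by
  obtain ⟨c, hc, hcc, hcn⟩ := h.exists_root'
  obtain ⟨d, hd, hdd, -⟩ := h.symm.exists_root'
  exact ⟨c, hc, d, hd, h.mul_root hc hcc hcn (h.le_centralizer hd) hdd⟩

theorem threeFam : ThreeFam (K ⧸ center K) := by
  haveI : Fact (Nat.Prime 2) := ⟨Nat.prime_two⟩
  obtain ⟨P⟩ : Nonempty (Sylow 2 J) := inferInstance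
  have hzP : z ∈ (P : Subgroup J).map J.subtype := by
    obtain ⟨d, hdP, hdd⟩ := h.symm.exists_root P
    exact ⟨d * d, mul_mem hdP hdP, hdd⟩
  refine threeFam_of_lift h.core h.meet h.compK h.ord h.comm (R := (P : Subgroup J).map J.subtype)
    (P.isPGroup'.map _) ((map_subtype_le _).trans h.le_centralizer) hzP fun x hx hxn hxx => ?_
  rcases h.centK _ (mul_mem hx hx) hxx with e | e
  · refine ⟨1, one_mem _, ?_⟩
    rw [mul_one]
    have hx1 : x ≠ 1 := fun e1 => hxn (e1 ▸ one_mem _)
    refine ⟨Involution.orderOf_of_sq e hx1, fun e2 => hxn ?_⟩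
    rw [e2]
    exact fun k _ => (h.comm k).eq
  · obtain ⟨d, hdP, hdd⟩ := h.symm.exists_root P
    exact ⟨d, ⟨d, hdP, rfl⟩, h.mul_root hx e hxn (h.le_centralizer d.2) hdd⟩

theorem card_center : Nat.card (center K) = 2 := by
  haveI : Fact (Nat.Prime 2) := ⟨Nat.prime_two⟩
  obtain ⟨P⟩ : Nonempty (Sylow 2 K) := inferInstance
  obtain ⟨n, ⟨e⟩⟩ := quaternion_sylow h.meet h.compK h.compJ h.ne P
  exact center_of_quaternion h.core h.compK e

/-- The Sylow 2-subgroups are quaternion of order eight. -/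
theorem quaternion_eight {P : Sylow 2 K} {n : ℕ} (e : ↥(P : Subgroup K) ≃* QuaternionGroup (2 ^ (n + 1))) :
    n = 0 := by
  haveI : Fact (Nat.Prime 2) := ⟨Nat.prime_two⟩
  haveI := h.compK.2.2
  obtain ⟨q, hq⟩ := h.threeFam.facts
  have hzc : ∀ x ∈ center K, (x : X) = 1 ∨ (x : X) = z := fun x hx => by
    have := (center_map_subtype K).le ⟨x, hx, rfl⟩
    exact h.centK _ this.1 this.2
  set π := QuotientGroup.mk' (center K)
  let S : Sylow 2 (K ⧸ center K) := P.mapSurjective (QuotientGroup.mk'_surjective _)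
  set y := e.symm (QuaternionGroup.xa 0) with hy
  set x := e.symm (QuaternionGroup.a 1) with hx
  haveI : NeZero (2 ^ (n + 1)) := ⟨by positivity⟩
  have hyS : π (y : K) ∈ S := ⟨y, y.2, rfl⟩
  have hxS : π (x : K) ∈ S := ⟨x, x.2, rfl⟩
  have hyy : π (y : K) * π (y : K) = 1 := by
    rw [← map_mul]
    refine (QuotientGroup.eq_one_iff _).2 (mem_center_iff.2 fun k => Subtype.ext ?_)
    have h4 : ((y : K) : X) * y * (((y : K) : X) * y) = 1 := by
      have := pow_orderOf_eq_one ((y : K) : X)
      rw [Subgroup.orderOf_coe, Subgroup.orderOf_coe, hy, MulEquiv.orderOf_eq,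
        QuaternionGroup.orderOf_xa] at this
      simpa [pow_succ, mul_assoc] using this
    rcases h.uniqK _ (mul_mem (y : K).2 (y : K).2) h4 with e1 | e1 <;>
      simp only [Subgroup.coe_mul, e1]
    · simp
    · exact (h.comm k).eq
  have hcom : π (x : K) * π (y : K) = π (y : K) * π (x : K) :=
    mem_centralizer_iff.1 ((hq.omega S _ hyS).1 hyy).2 _ hxS
  rw [← map_mul, ← map_mul] at hcom
  set t : ↥(P : Subgroup K) := (x * y)⁻¹ * (y * x) with ht
  have ht1 : ((t : K) : X) * t = 1 := by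
    have h1 : (t : K) ∈ center K := QuotientGroup.eq.1 hcom
    rcases hzc _ h1 with e1 | e1 <;> rw [e1]
    · exact one_mul 1
    · exact h.sq_z
  have ht2 : t * t = 1 := Subtype.ext (Subtype.ext ht1)
  have h3 := congrArg e ht2
  have h4 : e t = QuaternionGroup.a 2 := by
    rw [ht, map_mul, map_inv, map_mul, map_mul, hx, hy, e.apply_symm_apply, e.apply_symm_apply,
      inv_mul_eq_iff_eq_mul, QuaternionGroup.a_mul_xa, QuaternionGroup.xa_mul_a, QuaternionGroup.xa_mul_a]
    congr 1
    ring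
  rw [map_mul, map_one, h4, QuaternionGroup.a_mul_a, QuaternionGroup.one_def] at h3
  have h5 : ((4 : ℕ) : ZMod (2 * 2 ^ (n + 1))) = 0 := by
    have := QuaternionGroup.a.inj h3
    rw [← this]
    norm_num
  rw [ZMod.natCast_eq_zero_iff] at h5
  by_contra hn
  have h6 : (2 : ℕ) ^ 2 ≤ 2 ^ (n + 1) := Nat.pow_le_pow_right (by norm_num) (by omega)
  have := Nat.le_of_dvd (by norm_num) h5
  omega

theorem sylow_card (P : Sylow 2 K) : Nat.card (P : Subgroup K) = 8 := by
  obtain ⟨n, ⟨e⟩⟩ := quaternion_sylow h.meet h.compK h.compJ h.ne P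
  obtain rfl := h.quaternion_eight e
  haveI : NeZero (2 ^ (0 + 1)) := ⟨by positivity⟩
  rw [Nat.card_congr e.toEquiv, Nat.card_eq_fintype_card, QuaternionGroup.card]
  norm_num

theorem card : Nat.card K = 120 := by
  haveI : Fact (Nat.Prime 2) := ⟨Nat.prime_two⟩
  haveI := h.compK.2.2
  obtain ⟨S⟩ : Nonempty (Sylow 2 (K ⧸ center K)) := inferInstance
  obtain ⟨P⟩ : Nonempty (Sylow 2 K) := inferInstance
  have hK : Nat.card K = Nat.card (K ⧸ center K) * 2 := by
    rw [card_eq_card_quotient_mul_card_subgroup (center K), h.card_center]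
  have hS : Nat.card (S : Subgroup (K ⧸ center K)) = 4 := by
    have h8 := h.sylow_card P
    rw [P.card_eq_multiplicity, hK, Nat.factorization_mul Nat.card_pos.ne' two_ne_zero,
      Finsupp.add_apply, Nat.prime_two.factorization_self] at h8
    rw [S.card_eq_multiplicity]
    have h3 : (Nat.card (K ⧸ center K)).factorization 2 + 1 = 3 :=
      Nat.pow_right_injective le_rfl (h8.trans (by norm_num : 8 = 2 ^ 3))
    rw [show (Nat.card (K ⧸ center K)).factorization 2 = 2 by omega]
    norm_num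
  rw [hK, h.threeFam.card_sixty S hS]

theorem equiv : Nonempty (K ≃* Matrix.SpecialLinearGroup (Fin 2) (ZMod 5)) := by
  refine (S3378.result.{u}).1 K h.card (component_not_isSolvable h.compK) fun P => ?_
  obtain ⟨n, ⟨e⟩⟩ := quaternion_sylow h.meet h.compK h.compJ h.ne P
  obtain rfl := h.quaternion_eight e
  exact ⟨e⟩

theorem sup_normal_of (hcomp : ∀ L : Subgroup X, Cfsg.IsComponent L → L = K ∨ L = J) :
    (K ⊔ J).Normal := by
  refine ⟨fun x hx g => ?_⟩
  have hle : ∀ A : Subgroup X, Cfsg.IsComponent A → A.map (MulAut.conj g).toMonoidHom ≤ K ⊔ J :=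
    fun A hA => by
      rcases hcomp _ (IsComponent.conj hA g) with e | e <;> rw [e]
      · exact le_sup_left
      · exact le_sup_right
  have h1 : (K ⊔ J).map (MulAut.conj g).toMonoidHom ≤ K ⊔ J := by
    rw [Subgroup.map_sup]
    exact sup_le (hle K h.compK) (hle J h.compJ)
  exact h1 ⟨x, hx, rfl⟩

/-- There is no third component. -/
theorem components (L : Subgroup X) (hL : Cfsg.IsComponent L) : L = K ∨ L = J := by
  by_contra hne
  push Not at hne
  obtain ⟨c, hc, d, hd, hcd, hcdz⟩ := h.exists_four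
  refine component_not_isSolvable hL
    (isSolvable_of_centralizes_four h.meet hcd h.ord hcdz (h.comm _) (fun l hl => ?_)
      (fun l _ => h.comm l))
  exact Commute.mul_right
    (mem_centralizer_iff.1 (component_le_centralizer h.compK hL hne.1.symm hl) c hc).symm
    (mem_centralizer_iff.1 (component_le_centralizer h.compJ hL hne.2.symm hl) d hd).symm

theorem mem_pCore {q : X} (hq : q ∈ Cfsg.pCore 2 X) : q = 1 ∨ q = z := by
  haveI : Fact (Nat.Prime 2) := ⟨Nat.prime_two⟩
  obtain ⟨k, hk⟩ := IsPGroup.iff_orderOf.1 (Cores.isPGroup_pCore 2 X) ⟨q, hq⟩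
  rw [Subgroup.orderOf_mk] at hk
  rcases Nat.lt_or_ge k 2 with hk2 | hk2
  · interval_cases k
    · exact Or.inl (orderOf_eq_one_iff.1 hk)
    · exact Or.inr (eq_of_involution (Cores.isPGroup_pCore 2 X) (pCore_rankOne h.meet h.nonsolvable) hq
        h.memCore (by rw [hk, pow_one]) h.ord)
  exfalso
  set r := q ^ 2 ^ (k - 2) with hr
  have hr4 : orderOf r = 4 := by
    rw [hr, orderOf_pow, hk, Nat.gcd_eq_right (Nat.pow_dvd_pow 2 (Nat.sub_le k 2)),
      Nat.pow_div (Nat.sub_le k 2) two_pos, show k - (k - 2) = 2 by omega]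
    norm_num
  have hrr : r * r = z := eq_of_involution (Cores.isPGroup_pCore 2 X) (pCore_rankOne h.meet h.nonsolvable)
    (mul_mem (pow_mem hq _) (pow_mem hq _)) h.memCore
    (by rw [← pow_two, orderOf_pow, hr4]; norm_num) h.ord
  have hrc : ∀ {A : Subgroup X}, Cfsg.IsComponent A → ∀ a ∈ A, Commute a r := fun hA a ha =>
    (mem_centralizer_iff.1 (component_le_centralizer_pCore hA ha) r (pow_mem hq _)).symm
  obtain ⟨c, hc, hcc, hcn⟩ := h.exists_root'
  obtain ⟨hi, hne⟩ := h.mul_root hc hcc hcn (fun a ha => hrc h.compK a ha) hrr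
  exact component_not_isSolvable h.compJ
    (isSolvable_of_centralizes_four h.meet hi h.ord hne (h.comm _)
      (fun a ha => Commute.mul_right (mem_centralizer_iff.1 (h.le_centralizer ha) c hc).symm
        (hrc h.compJ a ha))
      (fun a _ => h.comm a))

theorem pCore_card : Nat.card (Cfsg.pCore 2 X) = 2 := by
  have e : Cfsg.pCore 2 X = zpowers z := le_antisymm (fun q hq => by
    rcases h.mem_pCore hq with e | e <;> rw [e]
    · exact one_mem _
    · exact mem_zpowers z) (zpowers_le.2 h.memCore)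
  rw [e, Nat.card_zpowers, h.ord]

theorem centralizer_sup_le : centralizer ((K ⊔ J : Subgroup X) : Set X) ≤ K ⊔ J := by
  haveI : Fact (Nat.Prime 2) := ⟨Nat.prime_two⟩
  have hF : Cfsg.fittingSubgroup X = Cfsg.pCore 2 X := fitting_eq_pCore_of h.core
  have hle : Cfsg.generalizedFittingSubgroup X ≤ K ⊔ J := by
    rw [Cfsg.generalizedFittingSubgroup]
    refine sup_le (layer_le fun L hL => ?_) ?_
    · rcases h.components L hL with e | e <;> rw [e]
      · exact le_sup_left
      · exact le_sup_right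
    · rw [hF]
      intro q hq
      rcases h.mem_pCore hq with e | e <;> rw [e]
      · exact one_mem _
      · exact le_sup_left (a := K) h.memK
  exact ((centralizer_le (SetLike.coe_subset_coe.mpr hle)).trans centralizer_genFitting_le).trans hle

/-- The central product. -/
theorem equiv_sup : ∃ (Z : Subgroup (Matrix.SpecialLinearGroup (Fin 2) (ZMod 5) ×
      Matrix.SpecialLinearGroup (Fin 2) (ZMod 5))) (_ : Z.Normal),
      Z = Subgroup.zpowers ((-1 : Matrix.SpecialLinearGroup (Fin 2) (ZMod 5)),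
        (-1 : Matrix.SpecialLinearGroup (Fin 2) (ZMod 5))) ∧
      Nonempty (↥(K ⊔ J) ≃*
        (Matrix.SpecialLinearGroup (Fin 2) (ZMod 5) × Matrix.SpecialLinearGroup (Fin 2) (ZMod 5)) ⧸ Z) := by
  obtain ⟨eK⟩ := h.equiv
  obtain ⟨eJ⟩ := h.symm.equiv
  let fK : Matrix.SpecialLinearGroup (Fin 2) (ZMod 5) →* X := K.subtype.comp eK.symm.toMonoidHom
  let fJ : Matrix.SpecialLinearGroup (Fin 2) (ZMod 5) →* X := J.subtype.comp eJ.symm.toMonoidHom
  have hcomm : ∀ a b, Commute (fK a) (fJ b) := fun a b =>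
    mem_centralizer_iff.1 (h.le_centralizer (eJ.symm b).2) _ (eK.symm a).2
  let f := fK.noncommCoprod fJ hcomm
  have hn : ∀ {A : Subgroup X} (eA : A ≃* Matrix.SpecialLinearGroup (Fin 2) (ZMod 5)),
      (∀ x ∈ A, x * x = 1 → x = 1 ∨ x = z) → ((eA.symm (-1) : A) : X) = z := fun eA hu => by
    refine (hu _ (eA.symm (-1)).2 (congrArg Subtype.val
      (show eA.symm (-1) * eA.symm (-1) = 1 by
        rw [← map_mul]
        exact (congrArg eA.symm (by decide)).trans (map_one _)))).resolve_left fun e => ?_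
    have h1 : eA.symm (-1) = 1 := Subtype.ext e
    rw [eA.symm_apply_eq, map_one] at h1
    exact absurd h1 (by decide)
  have hKneg : fK (-1) = z := hn eK h.uniqK
  have hJneg : fJ (-1) = z := hn eJ h.uniqJ
  have hker : f.ker = Subgroup.zpowers ((-1 : Matrix.SpecialLinearGroup (Fin 2) (ZMod 5)),
      (-1 : Matrix.SpecialLinearGroup (Fin 2) (ZMod 5))) := by
    refine le_antisymm ?_ (zpowers_le.2 (MonoidHom.mem_ker.2 ?_))
    · rintro ⟨a, b⟩ hab
      have h0 : fK a * fJ b = 1 := MonoidHom.mem_ker.1 hab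
      have hK : fK a ∈ K := (eK.symm a).2
      have hJ : fJ b ∈ centralizer (K : Set X) := h.le_centralizer (eJ.symm b).2
      rcases h.centK _ hK (by rw [eq_inv_of_mul_eq_one_left h0]; exact inv_mem hJ) with e | e
      · have ha : a = 1 := eK.symm.injective (Subtype.ext (by rw [map_one]; exact e))
        rw [e, one_mul] at h0
        have hb : b = 1 := eJ.symm.injective (Subtype.ext (by rw [map_one]; exact h0))
        rw [ha, hb]
        exact one_mem _
      · have ha : a = -1 := eK.symm.injective (Subtype.ext (e.trans hKneg.symm))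
        rw [e] at h0
        have hbz : fJ b = z := by
          have h2 := eq_inv_of_mul_eq_one_right h0
          rwa [Involution.inv_eq h.ord] at h2
        have hb : b = -1 := eJ.symm.injective (Subtype.ext (hbz.trans hJneg.symm))
        rw [ha, hb]
        exact mem_zpowers _
    · show fK (-1) * fJ (-1) = 1
      rw [hKneg, hJneg, h.sq_z]
  have hrange : f.range = K ⊔ J := by
    show (fK.noncommCoprod fJ hcomm).range = K ⊔ J
    rw [MonoidHom.noncommCoprod_range]
    congr 1
    · exact le_antisymm (by rintro _ ⟨a, rfl⟩; exact (eK.symm a).2)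
        fun k hk => ⟨eK ⟨k, hk⟩, by show ((eK.symm (eK ⟨k, hk⟩) : K) : X) = k; rw [eK.symm_apply_apply]⟩
    · exact le_antisymm (by rintro _ ⟨a, rfl⟩; exact (eJ.symm a).2)
        fun k hk => ⟨eJ ⟨k, hk⟩, by show ((eJ.symm (eJ ⟨k, hk⟩) : J) : X) = k; rw [eJ.symm_apply_apply]⟩
  rw [← hker, ← hrange]
  exact ⟨f.ker, inferInstance, rfl, ⟨(QuotientGroup.quotientKerEquivRange f).symm⟩⟩

/-- Inside the normaliser of `K` the product has odd index. -/
theorem odd_relIndex : Odd ((K ⊔ J).relIndex (normalizer (K : Set X))) := by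
  haveI : Fact (Nat.Prime 2) := ⟨Nat.prime_two⟩
  set N := normalizer (K : Set X) with hN
  have hJN : J ≤ N := h.le_centralizer.trans (centralizer_le_normalizer (K : Set X))
  have hKN : K ≤ N := le_normalizer
  have hNJ : ∀ g ∈ N, J.map (MulAut.conj g).toMonoidHom = J := fun g hg => by
    refine (h.components _ (IsComponent.conj h.compJ g)).resolve_left fun e => h.ne ?_
    have hKg : K.map (MulAut.conj g).toMonoidHom = K := by
      refine le_antisymm ?_ fun k hk => ⟨g⁻¹ * k * g, (mem_normalizer_iff''.1 hg k).1 hk,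
        by simp [mul_assoc]⟩
      rintro _ ⟨k, hk, rfl⟩
      exact (mem_normalizer_iff.1 hg k).1 hk
    exact (map_injective (MulAut.conj g).injective (e.trans hKg.symm)).symm
  have hnormJ : ∀ g ∈ N, ∀ j ∈ J, g * j * g⁻¹ ∈ J := fun g hg j hj =>
    (hNJ g hg).le ⟨j, hj, rfl⟩
  haveI hKn : (K.subgroupOf N).Normal := normal_subgroupOf_of_le_normalizer le_rfl
  haveI hJn : (J.subgroupOf N).Normal :=
    ⟨fun a ha g => mem_subgroupOf.2 (hnormJ g g.2 a (mem_subgroupOf.1 ha))⟩
  have hKc : Cfsg.IsComponent (K.subgroupOf N) := IsComponent.subgroupOf h.compK hKN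
  have hJc : Cfsg.IsComponent (J.subgroupOf N) := IsComponent.subgroupOf h.compJ hJN
  have hR := rankMeet_subgroup h.meet N
  obtain ⟨c, hc, d, hd, hcd, hcdz⟩ := h.exists_four
  have hcdN : c * d ∈ N := mul_mem (hKN hc) (hJN hd)
  have hzN : z ∈ N := hKN h.memK
  have hfam : ∀ {A : Subgroup X}, A ≤ N → ThreeFam (A ⧸ center A) →
      ThreeFam (↥(A.subgroupOf N) ⧸ center ↥(A.subgroupOf N)) := fun {A} hA h3 => by
    refine h3.congr (QuotientGroup.congr _ _ (subgroupOfEquivOfLe hA) ?_)
    ext a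
    constructor
    · rintro ⟨b, hb, rfl⟩
      refine mem_center_iff.2 fun x => ?_
      obtain ⟨y, rfl⟩ := (subgroupOfEquivOfLe hA).surjective x
      show subgroupOfEquivOfLe hA y * subgroupOfEquivOfLe hA b = _
      rw [← map_mul, mem_center_iff.1 hb y, map_mul]
      rfl
    · intro ha
      refine ⟨(subgroupOfEquivOfLe hA).symm a, mem_center_iff.2 fun x => ?_,
        (subgroupOfEquivOfLe hA).apply_symm_apply a⟩
      apply (subgroupOfEquivOfLe hA).injective
      rw [map_mul, map_mul, (subgroupOfEquivOfLe hA).apply_symm_apply]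
      exact mem_center_iff.1 ha _
  set A := K.subgroupOf N ⊔ centralizer ((K.subgroupOf N : Subgroup N) : Set N) with hAdef
  set B := J.subgroupOf N ⊔ centralizer ((J.subgroupOf N : Subgroup N) : Set N) with hBdef
  have hdA : (⟨c * d, hcdN⟩ : N) ∈ A := by
    rw [show (⟨c * d, hcdN⟩ : N) = ⟨c, hKN hc⟩ * ⟨d, hJN hd⟩ from rfl]
    exact mul_mem (le_sup_left (a := K.subgroupOf N) (mem_subgroupOf.2 hc))
      (le_sup_right (a := K.subgroupOf N) fun a ha => Subtype.ext
        (mem_centralizer_iff.1 (h.le_centralizer hd) a.1 ha))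
  have hdB : (⟨c * d, hcdN⟩ : N) ∈ B := by
    rw [show (⟨c * d, hcdN⟩ : N) = ⟨c, hKN hc⟩ * ⟨d, hJN hd⟩ from rfl]
    exact mul_mem (le_sup_right (a := J.subgroupOf N) fun a ha => Subtype.ext
        (mem_centralizer_iff.1 (h.symm.le_centralizer hc) a.1 ha))
      (le_sup_left (a := J.subgroupOf N) (mem_subgroupOf.2 hd))
  have hcdo : orderOf (⟨c * d, hcdN⟩ : N) = 2 := by rw [Subgroup.orderOf_mk, hcd]
  have hzo : orderOf (⟨z, hzN⟩ : N) = 2 := by rw [Subgroup.orderOf_mk, h.ord]
  have hne : (⟨c * d, hcdN⟩ : N) ≠ ⟨z, hzN⟩ := fun e => hcdz (congrArg Subtype.val e)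
  have hcom : Commute (⟨c * d, hcdN⟩ : N) ⟨z, hzN⟩ := Subtype.ext (h.comm (c * d)).eq
  have hA : Odd A.index := odd_index_of_component hR hKc (hfam hKN h.threeFam) hcdo hzo hne hcom hdA
    (le_sup_left (a := K.subgroupOf N) (mem_subgroupOf.2 h.memK))
  have hB : Odd B.index := odd_index_of_component hR hJc (hfam hJN h.symm.threeFam) hcdo hzo hne hcom hdB
    (le_sup_left (a := J.subgroupOf N) (mem_subgroupOf.2 h.memJ))
  haveI hAn : A.Normal := inferInstance
  haveI hBn : B.Normal := inferInstance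
  obtain ⟨S⟩ : Nonempty (Sylow 2 N) := inferInstance
  have hle : ∀ D : Subgroup N, D.Normal → Odd D.index → (S : Subgroup N) ≤ D := fun D hD hodd x hx => by
    haveI := hD
    obtain ⟨k, hk⟩ := IsPGroup.iff_orderOf.1 S.isPGroup' ⟨x, hx⟩
    rw [Subgroup.orderOf_mk] at hk
    have h1 : orderOf (QuotientGroup.mk' D x) ∣ 2 ^ k := hk ▸ orderOf_map_dvd _ _
    have h2 : orderOf (QuotientGroup.mk' D x) ∣ D.index := orderOf_dvd_natCard _
    have h3 : orderOf (QuotientGroup.mk' D x) = 1 :=
      Nat.eq_one_of_dvd_coprimes ((Nat.coprime_two_left.2 hodd).pow_left k) h1 h2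
    exact (QuotientGroup.eq_one_iff x).1 (orderOf_eq_one_iff.1 h3)
  have hAB : A ⊓ B ≤ (K ⊔ J).subgroupOf N := by
    rintro g ⟨hgA, hgB⟩
    rw [hAdef] at hgA
    rw [hBdef] at hgB
    obtain ⟨k, hk, u, hu, rfl⟩ := mem_sup_of_normal_left.1 hgA
    obtain ⟨j, hj, v, hv, e⟩ := mem_sup_of_normal_left.1 hgB
    have huK : (u : X) ∈ centralizer (K : Set X) := fun a ha =>
      congrArg Subtype.val (mem_centralizer_iff.1 hu ⟨a, hKN ha⟩ ha)
    have hjK : (j : X) ∈ centralizer (K : Set X) := h.le_centralizer hj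
    have hwJ : ((j : X)⁻¹ * u) ∈ centralizer (J : Set X) := by
      intro a ha
      have hv' : a * (v : X) = v * a :=
        congrArg Subtype.val (mem_centralizer_iff.1 hv ⟨a, hJN ha⟩ ha)
      have hb : (u : X) * a * (u : X)⁻¹ ∈ J := hnormJ u u.2 a ha
      have hk' : (u : X) * a * (u : X)⁻¹ * k = k * ((u : X) * a * (u : X)⁻¹) :=
        mem_centralizer_iff.1 (h.symm.le_centralizer hk) _ hb
      have e' : (j : X) * v = k * u := congrArg Subtype.val e
      have h1 : (u : X) * a * (u : X)⁻¹ = j * a * (j : X)⁻¹ := by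
        calc (u : X) * a * (u : X)⁻¹ = k * ((u : X) * a * (u : X)⁻¹) * (k : X)⁻¹ := by
              rw [← hk', mul_inv_cancel_right]
          _ = (k * u) * a * ((k : X) * u)⁻¹ := by group
          _ = (j * v) * a * ((j : X) * v)⁻¹ := by rw [e']
          _ = j * (v * a * (v : X)⁻¹) * (j : X)⁻¹ := by group
          _ = j * a * (j : X)⁻¹ := by rw [← hv', mul_inv_cancel_right]
      calc a * ((j : X)⁻¹ * u) = (j : X)⁻¹ * (j * a * (j : X)⁻¹) * u := by group
        _ = (j : X)⁻¹ * ((u : X) * a * (u : X)⁻¹) * u := by rw [h1]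
        _ = (j : X)⁻¹ * u * a := by group
    have hw : (j : X)⁻¹ * u ∈ K ⊔ J := by
      refine h.centralizer_sup_le ?_
      rw [sup_eq_closure, centralizer_closure]
      rintro a (ha | ha)
      · exact mem_centralizer_iff.1 (mul_mem (inv_mem hjK) huK) a ha
      · exact hwJ a ha
    refine mem_subgroupOf.2 ?_
    have hu' : (u : X) ∈ K ⊔ J := by
      have := mul_mem (le_sup_right (a := K) (b := J) hj) hw
      simpa using this
    exact mul_mem (le_sup_left (a := K) (b := J) hk) hu'
  have hSle : (S : Subgroup N) ≤ (K ⊔ J).subgroupOf N :=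
    (le_inf (hle A hAn hA) (hle B hBn hB)).trans hAB
  refine Nat.not_even_iff_odd.1 fun he => S.not_dvd_index ?_
  exact (even_iff_two_dvd.1 he).trans (index_dvd_of_le hSle)

theorem index_normalizer : (normalizer (K : Set X)).index = 1 ∨ (normalizer (K : Set X)).index = 2 := by
  by_cases ht : normalizer (K : Set X) = ⊤
  · exact Or.inl (by rw [ht, index_top])
  right
  obtain ⟨g, hg⟩ : ∃ g, g ∉ normalizer (K : Set X) := by
    by_contra hh
    push Not at hh
    exact ht (eq_top_iff.2 fun g _ => hh g)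
  have hmem : ∀ b, b ∈ normalizer (K : Set X) ↔ K.map (MulAut.conj b).toMonoidHom = K := fun b => by
    refine ⟨fun hb => ?_, fun hb => mem_normalizer_iff.2 fun k =>
      ⟨fun hk => hb.le ⟨k, hk, rfl⟩, fun hk => ?_⟩⟩
    · refine le_antisymm ?_ fun k hk => ⟨b⁻¹ * k * b, (mem_normalizer_iff''.1 hb k).1 hk,
        by simp [mul_assoc]⟩
      rintro _ ⟨k, hk, rfl⟩
      exact (mem_normalizer_iff.1 hb k).1 hk
    · obtain ⟨k', hk', e⟩ := hb.ge hk
      rwa [← (MulAut.conj b).injective e]
  have hJ : ∀ b, b ∉ normalizer (K : Set X) →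
      K.map (MulAut.conj b).toMonoidHom = J ∧ J.map (MulAut.conj b).toMonoidHom = K := fun b hb => by
    have h1 := (h.components _ (IsComponent.conj h.compK b)).resolve_left fun e => hb ((hmem b).2 e)
    refine ⟨h1, (h.components _ (IsComponent.conj h.compJ b)).resolve_right fun e => h.ne ?_⟩
    exact map_injective (MulAut.conj b).injective (h1.trans e.symm)
  refine index_eq_two_iff.2 ⟨g, fun b => ?_⟩
  have hmul : K.map (MulAut.conj (b * g)).toMonoidHom =
      (K.map (MulAut.conj g).toMonoidHom).map (MulAut.conj b).toMonoidHom := by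
    rw [Subgroup.map_map, map_mul]
    rfl
  by_cases hb : b ∈ normalizer (K : Set X)
  · exact Or.inr ⟨hb, fun hbg => hg ((mul_mem_cancel_left hb).1 hbg)⟩
  · exact Or.inl ⟨(hmem _).2 (by rw [hmul, (hJ g hg).1, (hJ b hb).2]), hb⟩

end Pair

/-- Two components give alternative (b). -/
theorem conclB_of_two {X : Type u} [Group X] [Finite X] (hX : Hyp X) {K J : Subgroup X}
    (hK : Cfsg.IsComponent K) (hJ : Cfsg.IsComponent J) (hne : K ≠ J) : ConclB X := by
  obtain ⟨z, h⟩ := exists_pair hX hK hJ hne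
  refine ⟨h.pCore_card, K ⊔ J, h.sup_normal_of h.components, ?_, h.equiv_sup⟩
  have hle : K ⊔ J ≤ normalizer (K : Set X) := by
    refine sup_le le_normalizer fun j hj => ?_
    exact (centralizer_le_normalizer (K : Set X)) (h.le_centralizer hj)
  have hmul := relIndex_mul_index hle
  rcases h.index_normalizer with e | e <;> rw [e] at hmul
  · exact Or.inl (by rw [← hmul, mul_one]; exact h.odd_relIndex)
  · exact Or.inr ⟨_, h.odd_relIndex, by rw [← hmul, mul_comm]⟩

end Cfsg.Agent.RankMeet
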