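/-
The theorem with trivial odd core (owner: helper31).

* `isCyclic_center` : a component has cyclic centre.
* `main` : a group with trivial odd core satisfying `Hyp` is of one of the two shapes.
-/
import Cfsg.Agent.Lib.RankMeet.One
import Cfsg.Agent.Lib.RankMeet.Two
import Cfsg.Agent.Lib.RankMeet.Cyclic
import Cfsg.Agent.Lib.RankMeet.Quat

set_option autoImplicit false
set_option linter.style.haveILetI false
set_option linter.unusedSectionVars false

namespace Cfsg.Agent.RankMeet

open Cfsg Subgroup Components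
open scoped Pointwise

universe u

variable {X : Type u} [Group X] [Finite X] {K : Subgroup X}

/-- A component has cyclic centre. -/
theorem isCyclic_center (hcore : Cfsg.oddCore X = ⊥) (hR : RankMeet X) (hns : ¬ Group.IsSolvable X)
    (hK : Cfsg.IsComponent K) : IsCyclic (center K) := by
  haveI : Fact (Nat.Prime 2) := ⟨Nat.prime_two⟩
  set J := (center K).map K.subtype with hJ
  have hle : J ≤ Cfsg.pCore 2 X := (center_map_subtype K).le.trans (center_component_le hcore hK)
  have hR1 : Cfsg.PRankLE 2 1 ↥J := by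
    intro V hV hV2
    have h1 := pCore_rankOne hR hns (V.map (inclusion hle)) ⟨⟨by
      rintro ⟨_, x, hx, rfl⟩ ⟨_, y, hy, rfl⟩
      exact Subtype.ext (by
        show inclusion hle x * inclusion hle y = inclusion hle y * inclusion hle x
        rw [← map_mul, ← map_mul]
        exact congrArg _ (congrArg Subtype.val (hV.is_comm.comm (⟨x, hx⟩ : V) ⟨y, hy⟩)))⟩⟩
      (by rintro _ ⟨x, hx, rfl⟩; rw [← map_pow, hV2 x hx, map_one])
    rwa [← Nat.card_congr (V.equivMapOfInjective _ (inclusion_injective hle)).toEquiv] at h1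
  haveI : IsCyclic J := isCyclic_of_rankOne ((Cores.isPGroup_pCore 2 X).to_le hle)
    (by
      rintro _ ⟨x, hx, rfl⟩ _ ⟨y, -, rfl⟩
      rw [← map_mul, ← map_mul, mem_center_iff.1 hx y]) hR1
  exact isCyclic_of_surjective ((center K).equivMapOfInjective _ K.subtype_injective).symm.toMonoidHom
    (MulEquiv.surjective _)

/-- The theorem with trivial odd core. -/
theorem main (hTI : Goldschmidt.ThreeInv.ThreeInvTarget.{u}) (hX : Hyp X) : ConclA X ∨ ConclB X := by
  classical
  haveI : Fact (Nat.Prime 2) := ⟨Nat.prime_two⟩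
  obtain ⟨K, hK⟩ := exists_component hX.core hX.meet hX.nonsolvable
  by_cases hU : ∀ J, Cfsg.IsComponent J → J = K
  swap
  · push Not at hU
    obtain ⟨J, hJ, hne⟩ := hU
    exact Or.inr (conclB_of_two hX hK hJ (Ne.symm hne))
  left
  haveI := normal_of_unique hK hU
  have hnc : ¬ CyclicMeet.MeetCyclic X := fun h => by
    obtain ⟨S, T, hne, hn⟩ := hX.noncyclic
    exact hn (h S T hne)
  set Q := Cfsg.pCore 2 X with hQdef
  by_cases hQ : Q = ⊥
  · exfalso
    have hC := centralizer_eq_bot hX.core hQ hU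
    have hZ : center K = ⊥ := by
      refine (Subgroup.map_eq_bot_iff_of_injective _ K.subtype_injective).1 (le_bot_iff.1 ?_)
      rw [center_map_subtype]
      exact inf_le_right.trans hC.le
    haveI := hK.2.2
    have e : K ⧸ center K ≃* K := (QuotientGroup.quotientMulEquivOfEq hZ).trans QuotientGroup.quotientBot
    haveI : Nontrivial K := e.symm.toEquiv.nontrivial
    haveI : IsSimpleGroup K := e.symm.isSimpleGroup
    have hab : ¬ IsMulCommutative K := fun h =>
      component_not_isSolvable hK (Group.isSolvable_of_comm h.is_comm.comm)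
    have hR := rankMeet_subgroup hX.meet K
    obtain ⟨hMC, hrig⟩ := list_facts hab hR
      (CentralMeet.of_threeInv hTI hab (fun S T hne _ => hR S T hne))
    rcases exists_four_or_quaternion hK with ⟨a, b, haK, hbK, ha, hb, hne, hc⟩ | hq
    · have hodd := MeetReduce.odd_index_of_unique hab hC hrig fun S S' hle =>
        eq_of_inf_le hX.meet (f := MonoidHom.id X) Function.surjective_id K ha hb hne hc haK hbK S S' hle
      refine hnc fun S T hST => ?_
      have hS := le_of_odd_index hodd S.isPGroup'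
      have hT := le_of_odd_index hodd T.isPGroup'
      have hne' : S.subtype hS ≠ T.subtype hT := fun h => hST (Sylow.subtype_injective h)
      haveI := hMC _ _ hne'
      let f : ↥((S : Subgroup X) ⊓ (T : Subgroup X)) →* ↥((S.subtype hS : Subgroup K) ⊓ T.subtype hT) :=
        { toFun := fun x => ⟨⟨x, hS x.2.1⟩, x.2.1, x.2.2⟩
          map_one' := rfl
          map_mul' := fun _ _ => rfl }
      exact isCyclic_of_injective f fun x y h => Subtype.ext
        (congrArg (fun w : ↥((S.subtype hS : Subgroup K) ⊓ T.subtype hT) => ((w : K) : X)) h)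
    · obtain ⟨P⟩ : Nonempty (Sylow 2 K) := inferInstance
      obtain ⟨n, ⟨e'⟩⟩ := hq P
      have := center_of_quaternion hX.core hK e'
      rw [hZ, Subgroup.card_bot] at this
      omega
  -- the involution of the 2-core
  obtain ⟨z₀, hz₀⟩ := exists_prime_orderOf_dvd_card' (G := Q) 2 (by
    obtain ⟨k, hk⟩ := IsPGroup.iff_card.1 (Cores.isPGroup_pCore 2 X)
    rw [hk]
    exact dvd_pow_self 2 fun h0 => hQ (Subgroup.card_eq_one.1 (by rw [hk, h0, pow_zero])))
  set z : X := (z₀ : X) with hzdef
  have hz : orderOf z = 2 := by rw [hzdef, Subgroup.orderOf_coe, hz₀]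
  have hzQ : z ∈ Q := z₀.2
  have hzc := pCore_involution_central hX.meet hX.nonsolvable hzQ hz
  have hQone : ∀ w ∈ Q, orderOf w = 2 → w = z := fun w hw hw2 =>
    eq_of_involution (Cores.isPGroup_pCore 2 X) (pCore_rankOne hX.meet hX.nonsolvable) hw hzQ hw2 hz
  have hQK : Q ≤ centralizer (K : Set X) := le_centralizer_iff.1 (component_le_centralizer_pCore hK)
  have finish : ThreeFam (K ⧸ center K) → ∀ (P : Sylow 2 K) (a : X),
      a ∈ (P : Subgroup K).map K.subtype ⊔ Q → orderOf a = 2 → a ≠ z → ConclA X := by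
    intro h3 P a haA ha hne
    rcases cyclic_or_quaternion (Cores.isPGroup_pCore 2 X) (pCore_rankOne hX.meet hX.nonsolvable) with h | h
    · exact absurd (meetCyclic_of_cyclic hX.core hX.meet hK h3 P ha hz hne (hzc a) haA
        (mem_sup_right hzQ) h) hnc
    · exact conclA_of_quaternion hX.core hX.meet hK h3 P ha hz hne (hzc a) haA (mem_sup_right hzQ) h
  have finish' : (∀ x ∈ K, x ∉ centralizer (K : Set X) → x * x ∈ centralizer (K : Set X) →
      ∃ r ∈ Q, orderOf (x * r) = 2 ∧ x * r ≠ z) → ConclA X := by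
    intro hlift
    obtain ⟨P, a, haA, -, ha, hne, -⟩ := exists_four_of_lift hX.core hK hzQ hzc hlift
    exact finish (threeFam_of_lift hX.core hX.meet hK hz hzc (Cores.isPGroup_pCore 2 X) hQK hzQ hlift)
      P a haA ha hne
  by_cases hzK : z ∈ K
  swap
  · exact finish' (lift_outside hX.core hX.meet hX.nonsolvable hK hz hzQ hzK)
  have hcenQ : ∀ x : K, x ∈ center K → (x : X) ∈ Q := fun x hx =>
    center_component_le hX.core hK ((center_map_subtype K).le ⟨x, hx, rfl⟩)
  rcases exists_four_or_quaternion hK with ⟨a, b, haK, hbK, ha, hb, hne, hc⟩ | hq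
  · obtain ⟨u, huK, hu, huz⟩ : ∃ u ∈ K, orderOf u = 2 ∧ u ≠ z := by
      by_cases h : a = z
      · exact ⟨b, hbK, hb, fun e => hne (h.trans e.symm)⟩
      · exact ⟨a, haK, ha, h⟩
    have hzC : (⟨z, hzK⟩ : K) ∈ center K := mem_center_iff.2 fun k => Subtype.ext (hzc k).eq
    have h3 := threeFam_of_cover hTI (rankMeet_subgroup hX.meet K) hK.2
      (IsPGroup.of_equiv ((Cores.isPGroup_pCore 2 X).to_le
        ((center_map_subtype K).le.trans (center_component_le hX.core hK)))
        ((center K).equivMapOfInjective _ K.subtype_injective).symm)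
      (isCyclic_center hX.core hX.meet hX.nonsolvable hK)
      (fun h => by
        rw [h, mem_bot] at hzC
        exact Involution.ne_one hz (congrArg Subtype.val hzC))
      ⟨⟨u, huK⟩, by rw [Subgroup.orderOf_mk, hu], fun h => huz (hQone u (hcenQ _ h) hu)⟩
    obtain ⟨P, hP⟩ := (IsPGroup.of_card (n := 1) (G := zpowers (⟨u, huK⟩ : K))
      (by rw [Nat.card_zpowers, Subgroup.orderOf_mk, hu, pow_one])).exists_le_sylow
    exact finish h3 P u (mem_sup_left ⟨_, hP (mem_zpowers _), rfl⟩) hu huz
  obtain ⟨P⟩ : Nonempty (Sylow 2 K) := inferInstance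
  obtain ⟨n, ⟨e⟩⟩ := hq P
  obtain ⟨z', hz', -, hz'Q, hZ⟩ :=
    exists_central_involution hX.core hK (center_of_quaternion hX.core hK e)
  obtain rfl := hQone z' hz'Q hz'
  by_cases h4 : ∃ c ∈ Q, c * c = z
  · obtain ⟨c, hcQ, hcc⟩ := h4
    exact finish' (lift_order_four hz hcQ (hQK hcQ) hcc hZ)
  -- the 2-core has order two
  exfalso
  have hQ2 : ∀ q ∈ Q, q = 1 ∨ q = z := by
    intro q hq'
    by_contra hne
    push Not at hne
    obtain ⟨j, hj⟩ := IsPGroup.iff_orderOf.1 (Cores.isPGroup_pCore 2 X) ⟨q, hq'⟩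
    rw [Subgroup.orderOf_mk] at hj
    rcases j with _ | _ | j
    · exact hne.1 (orderOf_eq_one_iff.1 (by simpa using hj))
    · exact hne.2 (hQone q hq' (by simpa using hj))
    · refine h4 ⟨q ^ 2 ^ j, pow_mem hq' _, hQone _ (mul_mem (pow_mem hq' _) (pow_mem hq' _)) ?_⟩
      rw [← pow_add, ← two_mul, ← pow_succ', orderOf_pow' _ (by positivity), hj,
        Nat.gcd_eq_right (pow_dvd_pow 2 (by omega)), Nat.pow_div (by omega) (by norm_num),
        show j + 1 + 1 - (j + 1) = 1 by omega, pow_one]
  have c : QCtx K z := by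
    refine ⟨hX.meet, hX.core, inferInstance, hK, hz, hzc, hzK, fun x hx => hQ2 x ?_, hq⟩
    refine (centralizer_genFitting_le_fitting.trans (fitting_eq_pCore_of hX.core).le) ?_
    have hle : Cfsg.generalizedFittingSubgroup X ≤ centralizer ({x} : Set X) := by
      rw [Cfsg.generalizedFittingSubgroup, fitting_eq_pCore_of hX.core]
      refine sup_le ((layer_le fun J hJ => (hU J hJ).le).trans fun k hk => ?_) fun q hq' => ?_
      · rw [mem_centralizer_singleton_iff]
        exact mem_centralizer_iff.1 hx k hk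
      · rw [mem_centralizer_singleton_iff]
        rcases hQ2 q hq' with rfl | rfl
        · simp
        · exact (hzc x).eq.symm
    exact mem_centralizer_iff.2 fun y hy => mem_centralizer_singleton_iff.1 (hle hy)
  obtain ⟨S⟩ : Nonempty (Sylow 2 X) := inferInstance
  obtain ⟨a, b, haS, hbS, ha, hb, hne, -⟩ :=
    exists_four_sylow hX.noQuat (fun S => MeetReduce.not_isCyclic_sylow hX.nonsolvable S) S
  obtain ⟨t, htS, ht, htz⟩ : ∃ t ∈ S, orderOf t = 2 ∧ t ≠ z := by
    by_cases h : a = z
    · exact ⟨b, hbS, hb, fun e => hne (h.trans e.symm)⟩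
    · exact ⟨a, haS, ha, h⟩
  refine c.false_of_outer htS ht fun htK => ?_
  rcases c.sq_cases htK (Involution.mul_self ht) with h | h
  · exact Involution.ne_one ht h
  · exact htz h

end Cfsg.Agent.RankMeet
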