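/-
From the odd core up (owner: helper31).

* `ThreeFam.simple` : the three families are simple.
* `ThreeFam.exists_four_conj` : a four group with conjugate involutions.
* `central_of_mem`, `quaternion_anticommute` : in a quaternion group.
* `exists_eight` : over a quaternion 2-core there is an elementary abelian subgroup of order eight.
* `centralizes_of_eight` : then a Sylow 2-subgroup centralises each normal subgroup of odd order.
-/
import Cfsg.Agent.Lib.RankMeet.Main
import Cfsg.Agent.Lib.Coprime.Generation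

set_option autoImplicit false
set_option linter.style.haveILetI false
set_option linter.unusedSectionVars false

namespace Cfsg.Agent.RankMeet

open Cfsg Subgroup
open scoped Pointwise IsMulCommutative commutatorElement

universe u

/-- The three families are simple and nonsolvable. -/
theorem ThreeFam.simple {L : Type u} [Group L] [Finite L] (h : ThreeFam L) :
    IsSimpleGroup L ∧ ¬ Group.IsSolvable L := by
  have key : ∀ {q : ℕ}, Goldschmidt.General.RankFacts L q → IsSimpleGroup L ∧ ¬ Group.IsSolvable L := by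
    intro q hq
    haveI := hq.simple
    refine ⟨hq.simple, fun hs => ?_⟩
    have h1 : Subgroup.center L = ⊤ := eq_top_iff.2 fun x _ =>
      mem_center_iff.2 fun y => IsSimpleGroup.comm_iff_isSolvable.2 hs y x
    rw [hq.center] at h1
    exact bot_ne_top h1
  haveI hs : IsSimpleGroup L := by
    rcases h with ⟨n, F, i1, i2, h1, h2, ⟨f⟩⟩ | ⟨n, F, i1, i2, h1, h2, ⟨f⟩⟩ | ⟨n, F, i1, i2, h1, h2, ⟨f⟩⟩
    · haveI : IsSimpleGroup (PSL2.PSL2 F) := PSL2.isSimpleGroup_psl (by
        rw [Nat.card_eq_fintype_card, h2]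
        exact le_trans (by norm_num) (Nat.pow_le_pow_right (by norm_num) h1))
      haveI : Nontrivial L := f.toEquiv.nontrivial
      exact f.isSimpleGroup
    · haveI := Suzuki.isSimpleGroup_sz h1 h2
      haveI : Nontrivial (Cfsg.Lie.Sz F (2 ^ (n + 1))) := (Suzuki.lieEquiv h1 h2).symm.toEquiv.nontrivial
      haveI := (Suzuki.lieEquiv h1 h2).symm.isSimpleGroup
      haveI : Nontrivial L := f.toEquiv.nontrivial
      exact f.isSimpleGroup
    · haveI := Unitary.isSimpleGroup_PSU (n := 3) (q := 2 ^ n) (F := F)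
        (by rw [h2, CentralMeet.four_pow])
        (Or.inr ⟨rfl, le_trans (by norm_num) (Nat.pow_le_pow_right (by norm_num) h1)⟩)
      haveI : Nontrivial L := f.toEquiv.nontrivial
      exact f.isSimpleGroup
  obtain ⟨q, hq⟩ := h.facts
  exact key hq

/-- A four group with conjugate involutions. -/
theorem ThreeFam.exists_four_conj {L : Type u} [Group L] [Finite L] [IsSimpleGroup L] (h : ThreeFam L) :
    ∃ x y : L, x ≠ 1 ∧ y ≠ 1 ∧ x ≠ y ∧ x * x = 1 ∧ y * y = 1 ∧ x * y = y * x ∧
      (∃ n, n * x * n⁻¹ = y) ∧ ∃ n, n * x * n⁻¹ = x * y := by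
  classical
  haveI : Fact (Nat.Prime 2) := ⟨Nat.prime_two⟩
  obtain ⟨q, hq⟩ := h.facts
  obtain ⟨T⟩ : Nonempty (Sylow 2 L) := inferInstance
  set Z := Goldschmidt.General.centre (T : Subgroup L) with hZ
  have h4 : 4 ≤ Nat.card Z := by
    obtain ⟨n, hn, e⟩ := hq.pow
    rw [hq.card_centre T, e]
    exact le_trans (by norm_num) (Nat.pow_le_pow_right (by norm_num) hn)
  obtain ⟨x, y, hx1, hy1, hxy⟩ : ∃ x y : Z, x ≠ 1 ∧ y ≠ 1 ∧ x ≠ y := by
    by_contra hno
    push Not at hno
    have h2 : Nat.card Z ≤ Nat.card Bool :=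
      Nat.card_le_card_of_injective (fun w : Z => decide (w = 1)) fun v w e => by
        have e' : (v = 1 ↔ w = 1) := by simpa using e
        by_cases hv : v = 1
        · exact hv.trans (e'.1 hv).symm
        · exact hno v w hv fun hw => hv (e'.2 hw)
    rw [Nat.card_eq_fintype_card (α := Bool), Fintype.card_bool] at h2
    omega
  have hsq : ∀ w : Z, (w : L) * w = 1 := fun w => (hq.omega T w w.2.1).2 w.2
  have hc : (x : L) * y = y * x := mem_centralizer_iff.1 y.2.2 x x.2.1
  have hx' : (x : L) ≠ 1 := fun e => hx1 (Subtype.ext e)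
  have hy' : (y : L) ≠ 1 := fun e => hy1 (Subtype.ext e)
  have hxy' : (x : L) ≠ y := fun e => hxy (Subtype.ext e)
  have hmul : (x : L) * y ≠ 1 := fun e => hxy' (by
    rw [eq_inv_of_mul_eq_one_left e, inv_eq_of_mul_eq_one_right (hsq y)])
  refine ⟨x, y, hx', hy', hxy', hsq x, hsq y, hc, ?_, ?_⟩
  · obtain ⟨n, -, hn⟩ := h.coreRigid.trans T x x.2.1 hx' (hsq x) y y.2.1 hy' (hsq y)
    exact ⟨n, hn⟩
  · obtain ⟨n, -, hn⟩ := h.coreRigid.trans T x x.2.1 hx' (hsq x) ((x : L) * y) (mul_mem x.2.1 y.2.1) hmul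
      (hsq (x * y))
    exact ⟨n, hn⟩

/-- Elements of order four which anticommute. -/
theorem quaternion_anticommute {n : ℕ} :
    ∃ c d : QuaternionGroup (2 ^ (n + 1)),
      c * c = QuaternionGroup.a ((2 ^ (n + 1) : ℕ) : ZMod (2 * 2 ^ (n + 1))) ∧
      d * d = QuaternionGroup.a ((2 ^ (n + 1) : ℕ) : ZMod (2 * 2 ^ (n + 1))) ∧
      c * d = d * c * QuaternionGroup.a ((2 ^ (n + 1) : ℕ) : ZMod (2 * 2 ^ (n + 1))) := by
  refine ⟨QuaternionGroup.a ((2 ^ n : ℕ) : ZMod (2 * 2 ^ (n + 1))), QuaternionGroup.xa 0, ?_, ?_, ?_⟩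
  · rw [QuaternionGroup.a_mul_a, QuaternionGroup.a.injEq, ← Nat.cast_add]
    congr 1
    rw [pow_succ]; ring
  · rw [QuaternionGroup.xa_mul_xa, add_zero, sub_zero]
  · rw [QuaternionGroup.a_mul_xa, QuaternionGroup.xa_mul_a, QuaternionGroup.xa_mul_a, QuaternionGroup.xa.injEq,
      zero_add, zero_sub, neg_eq_iff_add_eq_zero, ← Nat.cast_add, ← Nat.cast_add,
      ZMod.natCast_eq_zero_iff]
    exact ⟨1, by rw [pow_succ]; ring⟩

/-- The central elements of a quaternion group. -/
theorem central_of_mem {n : ℕ} {w : QuaternionGroup (2 ^ (n + 1))} (h : ∀ v, w * v = v * w) :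
    w * w = 1 := by
  cases w with
  | a i =>
    have h1 := h (QuaternionGroup.xa 0)
    rw [QuaternionGroup.a_mul_xa, QuaternionGroup.xa_mul_a, QuaternionGroup.xa.injEq] at h1
    rw [QuaternionGroup.a_mul_a, ← QuaternionGroup.a_zero, QuaternionGroup.a.injEq]
    have h2 : i + i = (0 + i) - (0 - i) := by ring
    rw [h2, ← h1, sub_self]
  | xa i =>
    exfalso
    have h1 := h (QuaternionGroup.a 1)
    rw [QuaternionGroup.a_mul_xa, QuaternionGroup.xa_mul_a, QuaternionGroup.xa.injEq] at h1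
    have h3 : ((2 : ℕ) : ZMod (2 * 2 ^ (n + 1))) = 0 := by
      calc ((2 : ℕ) : ZMod (2 * 2 ^ (n + 1))) = (i + 1) - (i - 1) := by push_cast; ring
        _ = 0 := by rw [h1, sub_self]
    rw [ZMod.natCast_eq_zero_iff] at h3
    have h4 : 2 * 2 ≤ 2 * 2 ^ (n + 1) := Nat.mul_le_mul_left 2 (Nat.le_self_pow (Nat.succ_ne_zero n) 2)
    have h5 := Nat.le_of_dvd (by norm_num) h3
    omega

variable {X : Type u} [Group X] [Finite X]

/-- An elementary abelian subgroup of order eight. -/
theorem exists_eight (hR : RankMeet X) (hns : ¬ Group.IsSolvable X) (h : ConclA X) :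
    ∃ E : Subgroup X, IsMulCommutative E ∧ (∀ e ∈ E, e ^ 2 = 1) ∧ 4 < Nat.card E := by
  classical
  haveI : Fact (Nat.Prime 2) := ⟨Nat.prime_two⟩
  obtain ⟨X₁, hX₁, hodd, hQX, ⟨n, ⟨φ⟩⟩, h3⟩ := h
  haveI := hX₁
  set Q := Cfsg.pCore 2 X with hQdef
  set N := Q.subgroupOf X₁ with hN
  -- the quotient is simple
  have hsimple : IsSimpleGroup (X₁ ⧸ N) := (ThreeFam.simple h3).1
  haveI := hsimple
  have hLns : ¬ Group.IsSolvable (X₁ ⧸ N) := (ThreeFam.simple h3).2
  -- every element of the quotient lifts to the centraliser of `Q`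
  have hA : Group.IsSolvable (MulAut Q) := by
    refine ThreeInvol.isSolvable_mulAut_of_four_squareRoots (Cores.isPGroup_pCore 2 X) ?_
    refine le_trans (Nat.card_le_card_of_injective (fun x : {x : Q // x ^ 2 = 1} => decide (x.1 = 1)) ?_)
      (by rw [Nat.card_eq_fintype_card, Fintype.card_bool]; norm_num)
    intro x y h
    have h' : (x.1 = 1 ↔ y.1 = 1) := by simpa using h
    by_cases hx : x.1 = 1
    · exact Subtype.ext (hx.trans (h'.1 hx).symm)
    · refine Subtype.ext (Subtype.ext (eq_of_involution (Cores.isPGroup_pCore 2 X) (pCore_rankOne hR hns)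
        x.1.2 y.1.2 ?_ ?_))
      · rw [Subgroup.orderOf_coe]; exact orderOf_eq_prime x.2 hx
      · rw [Subgroup.orderOf_coe]; exact orderOf_eq_prime y.2 fun e => hx (h'.2 e)
  set ρ : X₁ →* MulAut Q := (MulAut.conjNormal (H := Q)).comp X₁.subtype with hρ
  have hker : ∀ g ∈ ρ.ker, ∀ q ∈ Q, (g : X) * q = q * g := fun g hg q hq => by
    have h := congrArg (fun e : MulAut Q => ((e ⟨q, hq⟩ : Q) : X)) (MonoidHom.mem_ker.1 hg)
    simp only [hρ, MonoidHom.comp_apply, MulAut.conjNormal_apply, MulAut.one_apply,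
      Subgroup.coe_subtype] at h
    exact mul_inv_eq_iff_eq_mul.1 h
  set π := QuotientGroup.mk' N with hπ
  have hlift : ∀ l : X₁ ⧸ N, ∃ g ∈ ρ.ker, π g = l := by
    haveI : (ρ.ker.map π).Normal := Subgroup.Normal.map inferInstance π (QuotientGroup.mk'_surjective N)
    rcases Subgroup.Normal.eq_bot_or_eq_top (H := ρ.ker.map π) inferInstance with hb | ht
    · exfalso
      haveI := hA
      haveI : Group.IsSolvable N := by
        haveI : Group.IsNilpotent ↥Q := (Cores.isPGroup_pCore 2 X).isNilpotent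
        exact Group.isSolvable_of_isSolvable_injective (f := (subgroupOfEquivOfLe hQX).toMonoidHom)
          (MulEquiv.injective _)
      have hle : ρ.ker ≤ N := by
        rw [Subgroup.map_eq_bot_iff, QuotientGroup.ker_mk'] at hb
        exact hb
      haveI : Group.IsSolvable ↥ρ.ker :=
        Group.isSolvable_of_isSolvable_injective (inclusion_injective hle)
      haveI : Group.IsSolvable X₁ :=
        Group.isSolvable_of_ker_le_range ρ.ker.subtype ρ (by rw [range_subtype])
      exact hLns (Group.isSolvable_of_surjective (f := π) (QuotientGroup.mk'_surjective N))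
    · exact fun l => ht.ge (mem_top l)
  obtain ⟨xb, yb, hxb, hyb, hne, hxx, hyy, hcomm, ⟨m₁, hm₁⟩, m₂, hm₂⟩ := h3.exists_four_conj
  obtain ⟨x, hxk, hx⟩ := hlift xb
  obtain ⟨y, hyk, hy⟩ := hlift yb
  obtain ⟨m, hmk, hm⟩ := hlift m₁
  obtain ⟨m', hm'k, hm'⟩ := hlift m₂
  -- the involution of `Q`
  set w₀ : QuaternionGroup (2 ^ (n + 1)) :=
    QuaternionGroup.a ((2 ^ (n + 1) : ℕ) : ZMod (2 * 2 ^ (n + 1))) with hw₀
  set z : X := ((φ.symm w₀ : Q) : X) with hz
  have hzQ : z ∈ Q := (φ.symm w₀).2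
  have hw1 : w₀ ≠ 1 := fun e => by
    rw [hw₀, ← QuaternionGroup.a_zero, QuaternionGroup.a.injEq, ZMod.natCast_eq_zero_iff] at e
    have := Nat.le_of_dvd (by positivity) e
    have : 0 < 2 ^ (n + 1) := by positivity
    omega
  have hzo : orderOf z = 2 := by
    rw [hz, Subgroup.orderOf_coe, MulEquiv.orderOf_eq]
    refine Involution.orderOf_of_sq ?_ hw1
    rw [hw₀, QuaternionGroup.a_mul_a, ← QuaternionGroup.a_zero, QuaternionGroup.a.injEq, ← Nat.cast_add,
      ZMod.natCast_eq_zero_iff]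
    exact ⟨1, by ring⟩
  have hzc := pCore_involution_central hR hns hzQ hzo
  have hzz := Involution.mul_self hzo
  have hcen : ∀ g : X, g ∈ Q → (∀ q ∈ Q, g * q = q * g) → g = 1 ∨ g = z := fun g hg hgq => by
    have h1 : φ ⟨g, hg⟩ * φ ⟨g, hg⟩ = 1 := central_of_mem fun v => by
      obtain ⟨q, rfl⟩ := φ.surjective v
      rw [← map_mul, ← map_mul]
      exact congrArg φ (Subtype.ext (hgq q q.2))
    by_cases hg1 : g = 1
    · exact Or.inl hg1
    · refine Or.inr (eq_of_involution (Cores.isPGroup_pCore 2 X) (pCore_rankOne hR hns) hg hzQ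
        (Involution.orderOf_of_sq ?_ hg1) hzo)
      rw [← map_mul, ← φ.map_one] at h1
      exact congrArg Subtype.val (φ.injective h1)
  have hsq : ∀ g : X₁, g ∈ ρ.ker → π g * π g = 1 → (g : X) * g = 1 ∨ (g : X) * g = z := fun g hg hg2 => by
    rw [← map_mul] at hg2
    exact hcen _ (mem_subgroupOf.1 ((QuotientGroup.eq_one_iff _).1 hg2))
      fun q hq => hker _ (mul_mem hg hg) q hq
  -- lifts of conjugate elements have the same square
  have hsame : ∀ g g' k : X₁, g ∈ ρ.ker → g' ∈ ρ.ker → k ∈ ρ.ker → π k * π g * (π k)⁻¹ = π g' →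
      π g * π g = 1 → (g' : X) * g' = (g : X) * g := by
    intro g g' k hg hg' hk he hg2
    have h1 : g'⁻¹ * (k * g * k⁻¹) ∈ N := by
      rw [← QuotientGroup.eq_one_iff]
      show π (g'⁻¹ * (k * g * k⁻¹)) = 1
      rw [map_mul, map_mul, map_mul, map_inv, map_inv, he, inv_mul_cancel]
    rcases hcen _ (mem_subgroupOf.1 h1) fun q hq =>
      hker _ (mul_mem (inv_mem hg') (mul_mem (mul_mem hk hg) (inv_mem hk))) q hq with e | e <;>
      simp only [Subgroup.coe_mul, InvMemClass.coe_inv] at e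
    all_goals
      have hgg : (k : X) * (g * g) * (k : X)⁻¹ = (g : X) * g := by
        rcases hsq g hg hg2 with e' | e' <;> rw [e']
        · group
        · rw [(hzc (k : X)).eq, mul_inv_cancel_right]
    · rw [inv_mul_eq_one] at e
      rw [e, show (k : X) * g * (k : X)⁻¹ * ((k : X) * g * (k : X)⁻¹) = k * (g * g) * (k : X)⁻¹ by group, hgg]
    · rw [inv_mul_eq_iff_eq_mul] at e
      calc (g' : X) * g' = (g' : X) * z * ((g' : X) * z) := by
            rw [mul_assoc (g' : X) z, ← mul_assoc z, ← (hzc (g' : X)).eq, mul_assoc (g' : X) z z, hzz, mul_one]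
        _ = (k : X) * (g * g) * (k : X)⁻¹ := by rw [← e]; group
        _ = (g : X) * g := hgg
  have hxx' : π x * π x = 1 := by rw [hx, hxx]
  have hsy := hsame x y m hxk hyk hmk (by rw [hm, hx, hy, hm₁]) hxx'
  have hsxy := hsame x (x * y) m' hxk (mul_mem hxk hyk) hm'k (by rw [hm', hx, map_mul, hx, hy, hm₂]) hxx'
  rw [Subgroup.coe_mul] at hsxy
  -- two commuting involutions centralising `z` over `x` and `y`
  obtain ⟨u, v, hu, hv, huv, hu', hv'⟩ : ∃ u v : X₁, (u : X) * u = 1 ∧ (v : X) * v = 1 ∧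
      (u : X) * v = v * u ∧ π u = xb ∧ π v = yb := by
    rcases hsq x hxk hxx' with e | e
    · rw [e] at hsy hsxy
      refine ⟨x, y, e, hsy, ?_, hx, hy⟩
      calc (x : X) * y = ((x : X) * y)⁻¹ := (inv_eq_of_mul_eq_one_right hsxy).symm
        _ = (y : X) * x := by
          rw [mul_inv_rev, inv_eq_of_mul_eq_one_right e, inv_eq_of_mul_eq_one_right hsy]
    · rw [e] at hsy hsxy
      obtain ⟨c₀, d₀, hc₀, hd₀, hcd₀⟩ := quaternion_anticommute (n := n)
      set c : Q := φ.symm c₀
      set d : Q := φ.symm d₀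
      have hcc : (c : X) * c = z := by
        rw [← Subgroup.coe_mul, ← map_mul, hc₀]
      have hdd : (d : X) * d = z := by
        rw [← Subgroup.coe_mul, ← map_mul, hd₀]
      have hcd : (c : X) * d = d * c * z := by
        rw [← Subgroup.coe_mul, ← Subgroup.coe_mul, hz, ← Subgroup.coe_mul, ← map_mul, ← map_mul, ← map_mul,
          hcd₀]
      have hyx : (y : X) * x = x * y * z := by
        have h1 : (y : X) * x * (z * ((x : X) * y)) = ((y : X) * x) * (x * y) * z := by
          rw [(hzc _).eq.symm]; group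
        have h2 : (y : X) * x * ((x : X) * y) = 1 := by
          rw [mul_assoc, ← mul_assoc (x : X), e, (hzc (y : X)).eq.symm, ← mul_assoc, hsy, hzz]
        rw [h2, one_mul] at h1
        have h3 : (x : X) * y * ((x : X) * y) = z := hsxy
        calc (y : X) * x = (y : X) * x * (z * ((x : X) * y)) * (z * ((x : X) * y))⁻¹ := by group
          _ = z * (z * ((x : X) * y))⁻¹ := by rw [h1]
          _ = ((x : X) * y)⁻¹ := by rw [mul_inv_rev, Involution.inv_eq hzo, (hzc _).eq, ← mul_assoc, hzz, one_mul]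
          _ = (x : X) * y * z := eq_comm.1 (eq_inv_of_mul_eq_one_left (by
              rw [mul_assoc, ← (hzc _).eq, ← mul_assoc, h3, hzz]))
      have hcX : (c : X) ∈ X₁ := hQX c.2
      have hdX : (d : X) ∈ X₁ := hQX d.2
      have hπ1 : ∀ q : Q, π ⟨(q : X), hQX q.2⟩ = 1 := fun q =>
        (QuotientGroup.eq_one_iff _).2 (mem_subgroupOf.2 q.2)
      refine ⟨⟨c, hcX⟩ * x, ⟨d, hdX⟩ * y, ?_, ?_, ?_, by rw [map_mul, hπ1 c, hx, one_mul],
        by rw [map_mul, hπ1 d, hy, one_mul]⟩ <;> simp only [Subgroup.coe_mul]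
      · rw [mul_assoc, ← mul_assoc (x : X), hker x hxk c c.2, mul_assoc (c : X) (x : X), e, ← mul_assoc, hcc,
          hzz]
      · rw [mul_assoc, ← mul_assoc (y : X), hker y hyk d d.2, mul_assoc (d : X) (y : X), hsy, ← mul_assoc, hdd,
          hzz]
      · calc (c : X) * x * ((d : X) * y) = (c : X) * ((x : X) * d) * y := by group
          _ = (c : X) * ((d : X) * x) * y := by rw [hker x hxk d d.2]
          _ = (c : X) * d * ((x : X) * y) := by group
          _ = (d : X) * c * (z * ((x : X) * y)) := by rw [hcd, mul_assoc]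
          _ = (d : X) * c * ((y : X) * x) := by rw [hyx, (hzc _).eq]
          _ = (d : X) * ((c : X) * y) * x := by group
          _ = (d : X) * ((y : X) * c) * x := by rw [hker y hyk c c.2]
          _ = (d : X) * y * ((c : X) * x) := by group
  set E := closure ({z, (u : X), (v : X)} : Set X) with hE
  have hEc : IsMulCommutative E := isMulCommutative_closure (by
    rintro a (rfl | rfl | rfl) b (rfl | rfl | rfl)
    · rfl
    · exact (hzc _).eq.symm
    · exact (hzc _).eq.symm
    · exact (hzc _).eq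
    · rfl
    · exact huv
    · exact (hzc _).eq
    · exact huv.symm
    · rfl)
  haveI := hEc
  refine ⟨E, hEc, fun a ha => ?_, ?_⟩
  · induction ha using closure_induction with
    | mem a ha =>
      rw [pow_two]
      rcases ha with rfl | rfl | rfl
      · exact hzz
      · exact hu
      · exact hv
    | one => exact one_pow 2
    | mul a b ha hb iha ihb => rw [(show Commute a b from setLike_mul_comm ha hb).mul_pow, iha, ihb, one_mul]
    | inv a _ iha => rw [inv_pow, iha, inv_one]
  · have hmem : ∀ {a : X}, a ∈ ({z, (u : X), (v : X)} : Set X) → a ∈ E := fun h => subset_closure h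
    let f : Fin 5 → E := ![1, ⟨z, hmem (by simp)⟩, ⟨u, hmem (by simp)⟩, ⟨v, hmem (by simp)⟩,
      ⟨(u : X) * v, mul_mem (hmem (by simp)) (hmem (by simp))⟩]
    have hzX : z ∈ X₁ := hQX hzQ
    let g : Fin 5 → X₁ := ![1, ⟨z, hzX⟩, u, v, u * v]
    have hfg : ∀ i, (f i : X) = g i := fun i => by fin_cases i <;> rfl
    have hzπ : π ⟨z, hzX⟩ = 1 := (QuotientGroup.eq_one_iff _).2 (mem_subgroupOf.2 hzQ)
    have hmul : xb * yb ≠ 1 := fun e => hne (by
      rw [eq_inv_of_mul_eq_one_left e, inv_eq_of_mul_eq_one_right hyy])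
    have hz1 : (⟨z, hzX⟩ : X₁) ≠ 1 := fun e => Involution.ne_one hzo (congrArg Subtype.val e)
    have hf : Function.Injective f := fun i j e => by
      have e1 : g i = g j := Subtype.ext (by rw [← hfg, ← hfg, e])
      have e2 := congrArg π e1
      fin_cases i <;> fin_cases j <;>
        simp [g, hu', hv', hzπ, hxb, hyb, hne, hmul, hxb.symm, hyb.symm, hne.symm, hmul.symm, hz1,
          hz1.symm] at e1 e2 ⊢
    have h5 := Nat.card_le_card_of_injective f hf
    rw [Nat.card_eq_fintype_card, Fintype.card_fin] at h5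
    omega

/-- With an elementary abelian subgroup of order eight a Sylow 2-subgroup centralises the odd normal
subgroups. -/
theorem centralizes_of_eight (hR : RankMeet X) {S : Sylow 2 X} {E : Subgroup X} (hES : E ≤ (S : Subgroup X))
    [IsMulCommutative E] (hE2 : ∀ e ∈ E, e ^ 2 = 1) (hE : 4 < Nat.card E) {N : Subgroup X} [N.Normal]
    (hN : Odd (Nat.card N)) : (S : Subgroup X) ≤ centralizer (N : Set X) := by
  classical
  haveI : Fact (Nat.Prime 2) := ⟨Nat.prime_two⟩
  have hcop : ∀ {P : Subgroup X}, IsPGroup 2 P → (Nat.card P).Coprime (Nat.card N) := fun hP => by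
    obtain ⟨k, hk⟩ := IsPGroup.iff_card.1 hP
    rw [hk]
    exact (Nat.coprime_two_left.2 hN).pow_left k
  refine le_centralizer_iff.1 (Coprime.le_of_cyclic_quotient (A := E) (K := N)
    (by rw [normalizer_eq_top]; exact le_top) (hcop (S.isPGroup'.to_le hES))
    fun B hBE ⟨g, hg, hle⟩ => ?_)
  have h2 := Coprime.relIndex_le_of_cyclic_quotient Nat.prime_two hE2 hBE hg hle
  have hB : 3 ≤ Nat.card B := by
    have h4 : B.relIndex E * Nat.card B = Nat.card E := by
      rw [← relIndex_bot_left, ← relIndex_bot_left, mul_comm, relIndex_mul_relIndex _ _ _ bot_le hBE]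
    nlinarith
  obtain ⟨a, b, ha1, hb1, hab⟩ : ∃ a b : B, a ≠ 1 ∧ b ≠ 1 ∧ a ≠ b := by
    by_contra hno
    push Not at hno
    have h3 : Nat.card B ≤ Nat.card Bool :=
      Nat.card_le_card_of_injective (fun w : B => decide (w = 1)) fun v w e => by
        have e' : (v = 1 ↔ w = 1) := by simpa using e
        by_cases hv : v = 1
        · exact hv.trans (e'.1 hv).symm
        · exact hno v w hv fun hw => hv (e'.2 hw)
    rw [Nat.card_eq_fintype_card (α := Bool), Fintype.card_bool] at h3
    omega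
  have ho : ∀ w : B, w ≠ 1 → orderOf (w : X) = 2 := fun w hw =>
    orderOf_eq_prime (hE2 w (hBE w.2)) fun e => hw (Subtype.ext e)
  rintro o ⟨hoN, hoB⟩ s hs
  have hoS : o ∈ normalizer ((S : Subgroup X) : Set X) := by
    have hfix : ∀ w : B, o * w * o⁻¹ ∈ S := fun w => by
      rw [← mem_centralizer_iff.1 hoB w w.2, mul_inv_cancel_right]; exact hES (hBE w.2)
    exact mem_normalizer_of_four hR (ho a ha1) (ho b hb1) (fun e => hab (Subtype.ext e))
      (setLike_mul_comm (hBE a.2) (hBE b.2)) (hES (hBE a.2)) (hES (hBE b.2)) (hfix a) (hfix b)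
  have h1 : ⁅s, o⁆ ∈ (S : Subgroup X) ⊓ N := by
    constructor
    · show s * o * s⁻¹ * o⁻¹ ∈ (S : Subgroup X)
      rw [show s * o * s⁻¹ * o⁻¹ = s * (o * s⁻¹ * o⁻¹) by group]
      exact mul_mem hs ((mem_normalizer_iff.1 hoS _).1 (inv_mem hs))
    · show s * o * s⁻¹ * o⁻¹ ∈ N
      exact mul_mem ((inferInstance : N.Normal).conj_mem o hoN s) (inv_mem hoN)
  rw [Coprime.inf_eq_bot (hcop S.isPGroup'), mem_bot, commutatorElement_eq_one_iff_mul_comm] at h1
  exact h1

end Cfsg.Agent.RankMeet
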